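import Cfsg.Agent.M12Type.Model
import Cfsg.Agent.Invol.Pair
import Cfsg.Agent.Invol.SylowConj
import Cfsg.Agent.TwoTransfer.Basic

/-!
Fusion of involutions in a group with the Sylow 2-subgroup of the model: conjugates of the central
involution in its centralizer, and the classes of involutions.
-/

set_option autoImplicit false

namespace Cfsg.Agent.M12Type

open Subgroup

namespace Base

variable {G : Type*} [Group G] (B : Base G)

theorem conj_f (g r : ↥SM) : B.f (g * r * g⁻¹) = B.f g * B.f r * (B.f g)⁻¹ := by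
  rw [map_mul, map_mul, map_inv]

theorem orderOf_f {r : ↥SM} (h : r * r = 1) (h1 : r ≠ 1) : orderOf (B.f r) = 2 := by
  rw [orderOf_injective B.f B.inj]
  exact Invol.orderOf_eq_two_iff.2 ⟨h1, h⟩

theorem orderOf_z : orderOf B.z = 2 := B.orderOf_f zs_facts.2.1 zs_facts.1

theorem comm_z (s : ↥SM) : Commute (B.f s) B.z := by
  show B.f s * B.f zs = B.f zs * B.f s
  rw [← map_mul, ← map_mul, zs_facts.2.2.1]

theorem range_le : B.f.range ≤ centralizer ({B.z} : Set G) := by
  rintro _ ⟨s, rfl⟩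
  exact mem_centralizer_singleton_iff.2 (B.comm_z s).eq

theorem card_range : Nat.card B.f.range = 64 := by
  rw [← Nat.card_congr (MonoidHom.ofInjective B.inj).toEquiv, Nat.card_eq_fintype_card, card_SM]

theorem isConj_f {r s : ↥SM} {g : ↥SM} (h : g * r * g⁻¹ = s) : IsConj (B.f r) (B.f s) :=
  isConj_iff.2 ⟨B.f g, by rw [← B.conj_f, h]⟩

/-- The centralizer of an element of the model, in the group. -/
def centS (r : ↥SM) : Subgroup G := (centralizer ({r} : Set ↥SM)).map B.f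

theorem card_centS (r : ↥SM) : Nat.card (B.centS r) = cc r := by
  classical
  rw [centS, card_map_of_injective B.inj, cc, ← Fintype.card_subtype,
    ← Nat.card_eq_fintype_card]
  exact Nat.card_congr (Equiv.subtypeEquivRight fun g => mem_centralizer_singleton_iff)

theorem centS_le (r : ↥SM) : B.centS r ≤ centralizer ({B.f r} : Set G) := by
  rintro _ ⟨s, hs, rfl⟩
  rw [mem_centralizer_singleton_iff, ← map_mul, ← map_mul, mem_centralizer_singleton_iff.1 hs]

theorem zs_cent (r : ↥SM) : B.z ∈ B.centS r :=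
  mem_map_of_mem _ (mem_centralizer_singleton_iff.2 (zs_facts.2.2.1 r).symm)

variable [Finite G]

theorem conj_into {H T : Subgroup G} (hH : B.f.range ≤ H) (hT : IsPGroup 2 T) (hTH : T ≤ H) :
    ∃ c ∈ H, ∀ x ∈ T, ∃ s : ↥SM, c * x * c⁻¹ = B.f s := by
  haveI : Fact (Nat.Prime 2) := ⟨Nat.prime_two⟩
  obtain ⟨P, hP⟩ := B.sylow
  let P' : Sylow 2 H := P.subtype (hP.le.trans hH)
  obtain ⟨Q, hQ⟩ := (hT.comap_subtype (H := T) (K := H)).exists_le_sylow
  obtain ⟨c, hc⟩ := MulAction.exists_smul_eq H Q P'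
  refine ⟨c, c.2, fun x hx => ?_⟩
  have h : c * ⟨x, hTH hx⟩ * c⁻¹ ∈ (P' : Subgroup H) := by
    rw [← hc, Sylow.coe_subgroup_smul]
    exact smul_mem_pointwise_smul _ (MulAut.conj c) _ (hQ (show (⟨x, hTH hx⟩ : H) ∈ T.subgroupOf H
      from hx))
  rw [Sylow.coe_subtype] at h
  obtain ⟨s, hs⟩ := hP ▸ (mem_subgroupOf.1 h)
  exact ⟨s, hs.symm⟩

/-- A 2-subgroup of the centralizer of `z` centralizing an element of it moves into the model. -/
theorem move {u : G} {K : Subgroup G} (hK : IsPGroup 2 K) (hKz : K ≤ centralizer ({B.z} : Set G))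
    (hKu : K ≤ centralizer ({u} : Set G)) (huK : u ∈ K) :
    ∃ c : G, Commute c B.z ∧ ∃ r : ↥SM, c * u * c⁻¹ = B.f r ∧ Nat.card K ≤ cc r := by
  obtain ⟨c, hcz, hc⟩ := B.conj_into B.range_le hK hKz
  obtain ⟨r, hr⟩ := hc u huK
  refine ⟨c, mem_centralizer_singleton_iff.1 hcz, r, hr, ?_⟩
  rw [← B.card_centS r, ← card_map_of_injective (K := K) (f := (MulAut.conj c).toMonoidHom) (MulAut.conj c).injective]
  refine card_le_of_le ?_
  rintro _ ⟨x, hx, rfl⟩
  obtain ⟨s, hs⟩ := hc x hx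
  refine ⟨s, mem_centralizer_singleton_iff.2 (B.inj ?_), hs.symm⟩
  rw [map_mul, map_mul, ← hs, ← hr]
  calc c * x * c⁻¹ * (c * u * c⁻¹) = c * (x * u) * c⁻¹ := by group
    _ = c * (u * x) * c⁻¹ := by rw [mem_centralizer_singleton_iff.1 (hKu hx)]
    _ = c * u * c⁻¹ * (c * x * c⁻¹) := by group

omit B in
theorem grow {u : G} {T : Subgroup G} {n : ℕ} (hT : Nat.card T = 2 ^ n)
    (hTu : T ≤ centralizer ({u} : Set G))
    (hdvd : 2 ^ (n + 1) ∣ Nat.card (centralizer ({u} : Set G))) :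
    ∃ K : Subgroup G, K ≤ centralizer ({u} : Set G) ∧ Nat.card K = 2 ^ (n + 1) ∧ T ≤ K ∧
      ∀ k ∈ K, ∀ x ∈ T, k * x * k⁻¹ ∈ T := by
  haveI : Fact (Nat.Prime 2) := ⟨Nat.prime_two⟩
  set C := centralizer ({u} : Set G)
  have hH : Nat.card (T.subgroupOf C) = 2 ^ n := by
    rw [← hT, Nat.card_congr (subgroupOfEquivOfLe hTu).toEquiv]
  obtain ⟨K, hK, hle⟩ := Sylow.exists_subgroup_card_pow_succ hdvd hH
  have hi : ((T.subgroupOf C).subgroupOf K).index = 2 := by
    have h1 := ((T.subgroupOf C).subgroupOf K).card_mul_index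
    rw [Nat.card_congr (subgroupOfEquivOfLe hle).toEquiv, hH, hK, pow_succ] at h1
    exact Nat.eq_of_mul_eq_mul_left (by positivity) h1
  have hN := normal_of_index_eq_two hi
  refine ⟨K.map C.subtype, map_subtype_le _, by rw [card_map_of_injective C.subtype_injective, hK],
    fun x hx => ⟨⟨x, hTu hx⟩, hle hx, rfl⟩, ?_⟩
  rintro _ ⟨k, hk, rfl⟩ x hx
  exact hN.conj_mem (⟨⟨x, hTu hx⟩, hle hx⟩ : K) hx ⟨k, hk⟩

omit B in
theorem card_centralizer_conj {u w : G} (h : IsConj u w) :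
    Nat.card (centralizer ({u} : Set G)) = Nat.card (centralizer ({w} : Set G)) := by
  obtain ⟨g, rfl⟩ := isConj_iff.1 h
  refine Nat.card_congr ((MulAut.conj g).toEquiv.subtypeEquiv fun x => ?_)
  rw [mem_centralizer_singleton_iff, mem_centralizer_singleton_iff]
  show x * u = u * x ↔ g * x * g⁻¹ * (g * u * g⁻¹) = g * u * g⁻¹ * (g * x * g⁻¹)
  rw [show g * x * g⁻¹ * (g * u * g⁻¹) = g * (x * u) * g⁻¹ by group,
    show g * u * g⁻¹ * (g * x * g⁻¹) = g * (u * x) * g⁻¹ by group, mul_left_inj, mul_right_inj]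

theorem card_dvd_of_conj {u : G} (h : IsConj B.z u) : 64 ∣ Nat.card (centralizer ({u} : Set G)) := by
  rw [← card_centralizer_conj h, ← B.card_range]
  exact card_dvd_of_le B.range_le

omit [Finite G] in
theorem four_fixes {r : ↥SM} (hr : r ∈ [bs, a1, a2, a3]) {n : G}
    (hn : ∀ x ∈ B.centS r, n * x * n⁻¹ ∈ B.centS r) : n * B.z * n⁻¹ = B.z := by
  obtain ⟨-, -, -, -, -, hsq, g, hg, hgz⟩ := four_facts r hr
  obtain ⟨s, hs, hse⟩ := hn (B.f g) (mem_map_of_mem _ (mem_centralizer_singleton_iff.2 hg))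
  have h : n * B.z * n⁻¹ = B.f (s * s) := by
    rw [map_mul, hse, Base.z, ← hgz, map_mul]
    group
  rcases hsq s (mem_centralizer_singleton_iff.1 hs) with h1 | h1
  · rw [h1, map_one, conj_eq_one_iff] at h
    exact absurd h (Invol.ne_one B.orderOf_z)
  · rw [h, h1]
    rfl

theorem grown {r : ↥SM} (hr : r ∈ [bs, a1, a2, a3])
    (h : 32 ∣ Nat.card (centralizer ({B.f r} : Set G))) :
    ∃ c : G, Commute c B.z ∧ c * B.f r * c⁻¹ = B.f vs := by
  obtain ⟨h2, h1, hz, -, hc, -⟩ := four_facts r hr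
  obtain ⟨K, hKu, hK, hTK, hN⟩ := grow (n := 4) (B.card_centS r ▸ hc) (B.centS_le r) h
  have hKz : K ≤ centralizer ({B.z} : Set G) := fun k hk =>
    mem_centralizer_singleton_iff.2 (mul_inv_eq_iff_eq_mul.1 (B.four_fixes hr (hN k hk)))
  have hrK : B.f r ∈ K := hTK (mem_map_of_mem _ (mem_centralizer_singleton_iff.2 rfl))
  obtain ⟨c, hcz, r', hr', hle⟩ := B.move (IsPGroup.of_card hK) hKz hKu hrK
  have hz' : r' ≠ zs := fun e => by
    rw [e, show B.f zs = B.z from rfl, ← mul_inv_eq_iff_eq_mul.2 hcz.eq] at hr'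
    exact hz (B.inj (mul_left_cancel (mul_right_cancel hr')))
  have h2' : r' * r' = 1 := B.inj (by
    rw [map_mul, ← hr', map_one]
    calc c * B.f r * c⁻¹ * (c * B.f r * c⁻¹) = c * (B.f r * B.f r) * c⁻¹ := by group
      _ = 1 := by rw [← map_mul, h2, map_one]; group)
  have h1' : r' ≠ 1 := fun e => by
    rw [e, map_one, conj_eq_one_iff] at hr'
    exact h1 (B.inj (by rw [hr', map_one]))
  rw [hK] at hle
  obtain ⟨g, hg⟩ := huge_cent r' h2' h1' hz' hle
  refine ⟨B.f g * c, (B.comm_z g).mul_left hcz, ?_⟩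
  rw [← hg, B.conj_f, ← hr']
  group

/-- The conjugates of the central involution in its centralizer. -/
theorem extremal {u : G} (hu : orderOf u = 2) (huz : Commute u B.z) (hcz : IsConj B.z u)
    (hne : u ≠ B.z) : ∃ c : G, Commute c B.z ∧ (c * u * c⁻¹ = B.f vs ∨ c * u * c⁻¹ = B.f ts) := by
  have hU : IsPGroup 2 (zpowers u) := IsPGroup.of_card (n := 1) (by rw [Nat.card_zpowers, hu, pow_one])
  obtain ⟨c, hcC, hc⟩ := B.conj_into B.range_le hU
    (zpowers_le.2 (mem_centralizer_singleton_iff.2 huz.eq))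
  have hc' : Commute c B.z := mem_centralizer_singleton_iff.1 hcC
  obtain ⟨r, hr⟩ := hc u (mem_zpowers u)
  have ho : orderOf r = 2 := by
    rw [← orderOf_injective B.f B.inj, ← hr, Invol.orderOf_conj, hu]
  have hrz : r ≠ zs := fun e => hne (by
    rw [e] at hr
    have := congrArg (fun x => c⁻¹ * x * c) hr
    simp [mul_assoc] at this
    rw [this, show B.f zs = B.z from rfl, ← hc'.eq, inv_mul_cancel_left])
  obtain ⟨g, hg⟩ := inv_class r (Invol.orderOf_eq_two_iff.1 ho).2 (Invol.ne_one ho) hrz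
  set c' := B.f g * c
  have hc'z : Commute c' B.z := (B.comm_z g).mul_left hc'
  have he : c' * u * c'⁻¹ = B.f (g * r * g⁻¹) := by
    rw [B.conj_f, ← hr]; simp only [c']; group
  simp only [List.mem_cons, List.not_mem_nil, or_false] at hg
  rcases hg with hg | hg | hg
  · exact ⟨c', hc'z, Or.inl (hg ▸ he)⟩
  · exact ⟨c', hc'z, Or.inr (hg ▸ he)⟩
  · have hmem : g * r * g⁻¹ ∈ [bs, a1, a2, a3] := by simpa using hg
    have hconj : IsConj B.z (B.f (g * r * g⁻¹)) := hcz.trans (isConj_iff.2 ⟨c', he⟩)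
    obtain ⟨d, hd, hde⟩ := B.grown hmem
      ((show 32 ∣ 64 by norm_num).trans (B.card_dvd_of_conj hconj))
    refine ⟨d * c', hd.mul_left hc'z, Or.inl ?_⟩
    rw [← hde, ← he]
    group

theorem z_conj_v (h : B.Simp) : IsConj B.z (B.f vs) := by
  obtain ⟨g, hg, hne⟩ := h.not_isolated
  have hu : orderOf (g * B.z * g⁻¹) = 2 := by rw [Invol.orderOf_conj, B.orderOf_z]
  obtain ⟨c, -, hc | hc⟩ := B.extremal hu hg (isConj_iff.2 ⟨g, rfl⟩) hne
  · exact (isConj_iff.2 ⟨g, rfl⟩ : IsConj B.z _).trans (isConj_iff.2 ⟨c, hc⟩)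
  have ht : IsConj B.z (B.f ts) :=
    (isConj_iff.2 ⟨g, rfl⟩ : IsConj B.z _).trans (isConj_iff.2 ⟨c, hc⟩)
  obtain ⟨t2, t1, tz, -, tc, htR⟩ := t_facts
  obtain ⟨K, hKu, hK, hTK, hN⟩ := grow (n := 3) (B.card_centS ts ▸ tc) (B.centS_le ts)
    ((show 16 ∣ 64 by norm_num).trans (B.card_dvd_of_conj ht))
  by_cases hfix : ∀ n ∈ K, n * B.z * n⁻¹ = B.z
  · have hKz : K ≤ centralizer ({B.z} : Set G) := fun k hk =>
      mem_centralizer_singleton_iff.2 (mul_inv_eq_iff_eq_mul.1 (hfix k hk))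
    obtain ⟨d, hd, r, hr, hle⟩ := B.move (IsPGroup.of_card hK) hKz hKu
      (hTK (mem_map_of_mem _ (mem_centralizer_singleton_iff.2 rfl)))
    have ho : orderOf r = 2 := by
      rw [← orderOf_injective B.f B.inj, ← hr, Invol.orderOf_conj, B.orderOf_f t2 t1]
    have hrz : r ≠ zs := fun e => by
      rw [e] at hr
      have := congrArg (fun x => d⁻¹ * x * d) hr
      simp [mul_assoc] at this
      rw [show B.f zs = B.z from rfl, ← hd.eq, inv_mul_cancel_left] at this
      exact tz (B.inj this)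
    rw [hK] at hle
    obtain ⟨e, he⟩ := big_cent r (Invol.orderOf_eq_two_iff.1 ho).2 (Invol.ne_one ho) hrz hle
    have hconj : IsConj B.z (B.f (e * r * e⁻¹)) :=
      ht.trans (((isConj_iff.2 ⟨d, hr⟩ : IsConj (B.f ts) (B.f r))).trans (B.isConj_f rfl))
    rcases List.mem_cons.1 he with h' | h'
    · exact h' ▸ hconj
    · obtain ⟨k, -, hke⟩ := B.grown h'
        ((show 32 ∣ 64 by norm_num).trans (B.card_dvd_of_conj hconj))
      exact hconj.trans (isConj_iff.2 ⟨k, hke⟩)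
  · simp only [not_forall] at hfix
    obtain ⟨n, hn, hne'⟩ := hfix
    -- the images of the three elements of the four-group
    have img : ∀ x : ↥SM, x * ts = ts * x → x ≠ 1 → ∃ y : ↥SM, n * B.f x * n⁻¹ = B.f y ∧
        (y ∈ [zs, vs, vs * zs] ∨ IsConj (B.f ts) (B.f y)) := by
      intro x hx hx1
      obtain ⟨y, hy, hye⟩ := hN n hn (B.f x) (mem_map_of_mem _ (mem_centralizer_singleton_iff.2 hx))
      refine ⟨y, hye.symm, ?_⟩
      rcases htR y (mem_centralizer_singleton_iff.1 hy) with h' | h' | ⟨e, he⟩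
      · rw [h', map_one, eq_comm, conj_eq_one_iff] at hye
        exact absurd (B.inj (hye.trans (map_one B.f).symm)) hx1
      · exact Or.inl h'
      · exact Or.inr (B.isConj_f he).symm
    obtain ⟨v2, v1, vz, vz1, -, -, -, ⟨e, he⟩, -⟩ := v_facts
    have hvv : IsConj (B.f vs) (B.f (vs * zs)) := B.isConj_f he
    have hcomm : zs * ts = ts * zs ∧ vs * ts = ts * vs ∧ (vs * zs) * ts = ts * (vs * zs) := by
      decide +kernel
    have fin : ∀ x y : ↥SM, x ∈ [vs, vs * zs] → n * B.f x * n⁻¹ = B.f y →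
        (y = zs ∨ IsConj (B.f ts) (B.f y)) → IsConj B.z (B.f vs) := by
      intro x y hx hxy hy
      have hxv : IsConj (B.f vs) (B.f x) := by
        simp only [List.mem_cons, List.not_mem_nil, or_false] at hx
        rcases hx with rfl | rfl
        exacts [IsConj.refl _, hvv]
      have hxy' : IsConj (B.f x) (B.f y) := isConj_iff.2 ⟨n, hxy⟩
      rcases hy with rfl | hy
      · exact (hxv.trans hxy').symm
      · exact ht.trans (hy.trans (hxv.trans hxy').symm)
    obtain ⟨y0, e0, h0⟩ := img zs hcomm.1 zs_facts.1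
    obtain ⟨y1, e1, h1⟩ := img vs hcomm.2.1 v1
    obtain ⟨y2, e2, h2⟩ := img (vs * zs) hcomm.2.2 vz1
    have hy0 : IsConj B.z (B.f y0) := isConj_iff.2 ⟨n, e0⟩
    have hprod : y0 = y1 * y2 := B.inj (by
      rw [map_mul, ← e0, ← e1, ← e2, map_mul]
      calc n * B.f zs * n⁻¹ = n * (B.f (vs * vs) * B.f zs) * n⁻¹ := by rw [v2, map_one, one_mul]
        _ = n * B.f vs * n⁻¹ * (n * (B.f vs * B.f zs) * n⁻¹) := by rw [map_mul]; group)
    have hy0z : y0 ≠ zs := fun e' => hne' (by rw [e'] at e0; exact e0)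
    rcases h1 with h1 | h1
    swap
    · exact fin vs y1 (by simp) e1 (Or.inr h1)
    rcases h2 with h2 | h2
    swap
    · exact fin (vs * zs) y2 (by simp) e2 (Or.inr h2)
    simp only [List.mem_cons, List.not_mem_nil, or_false] at h1 h2
    rcases h1 with h1 | h1
    · exact fin vs y1 (by simp) e1 (Or.inl h1)
    rcases h2 with h2 | h2
    · exact fin (vs * zs) y2 (by simp) e2 (Or.inl h2)
    have hne12 : y1 ≠ y2 := fun e' => by
      have : B.f vs = B.f (vs * zs) := by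
        have := e1.trans (e' ▸ e2.symm)
        simpa using this
      exact zs_facts.1 (left_eq_mul.1 (B.inj this))
    exfalso
    apply hy0z
    rw [hprod]
    rcases h1 with rfl | rfl <;> rcases h2 with rfl | rfl
    all_goals first | exact absurd rfl hne12 | decide +kernel

/-- The central involution is moved to `vs` by an element normalizing their four-group. -/
theorem mover (h : B.Simp) : ∃ g : G, g * B.z * g⁻¹ = B.f vs ∧
    ∀ q ∈ [zs, vs, vs * zs], ∃ q' ∈ [zs, vs, vs * zs], g * B.f q * g⁻¹ = B.f q' := by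
  haveI : Fact (Nat.Prime 2) := ⟨Nat.prime_two⟩
  obtain ⟨-, v1, -, -, vc, -, vN, -, vZ⟩ := v_facts
  obtain ⟨K, hKu, hK, hTK, hN⟩ := grow (n := 5) (B.card_centS vs ▸ vc) (B.centS_le vs)
    (B.card_dvd_of_conj (B.z_conj_v h))
  set T := B.centS vs
  set N := normalizer (T : Set G)
  have hfin : ∀ n : G, (∀ x ∈ T, n * x * n⁻¹ ∈ T) → n ∈ N := by
    intro n hn
    have hle : T.map (MulAut.conj n).toMonoidHom = T :=
      eq_of_le_of_card_ge (by rintro _ ⟨x, hx, rfl⟩; exact hn x hx)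
        (by rw [card_map_of_injective (MulEquiv.injective _)])
    rw [mem_normalizer_iff]
    intro x
    conv_rhs => rw [← hle]
    exact (mem_map_iff_mem (f := (MulAut.conj n).toMonoidHom) (MulEquiv.injective _)).symm
  have hS : B.f.range ≤ N := by
    rintro _ ⟨s, rfl⟩
    refine hfin _ ?_
    rintro _ ⟨x, hx, rfl⟩
    refine ⟨s * x * s⁻¹, mem_centralizer_singleton_iff.2 ?_, B.conj_f s x⟩
    have hx' := mem_centralizer_singleton_iff.1 hx
    have key : x * (s⁻¹ * vs * s) = (s⁻¹ * vs * s) * x := by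
      have := vN s⁻¹
      rw [inv_inv] at this
      rcases this with h' | h' <;> rw [h']
      · exact hx'
      · rw [← mul_assoc, hx', mul_assoc, zs_facts.2.2.1, mul_assoc]
    calc s * x * s⁻¹ * vs = s * (x * (s⁻¹ * vs * s)) * s⁻¹ := by group
      _ = s * ((s⁻¹ * vs * s) * x) * s⁻¹ := by rw [key]
      _ = vs * (s * x * s⁻¹) := by group
  have hKN : K ≤ N := fun k hk => hfin k (hN k hk)
  obtain ⟨c, hcN, hc⟩ := B.conj_into hS (IsPGroup.of_card hK) hKN
  -- the conjugate of `K` is the whole model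
  have hall : ∀ s : ↥SM, c⁻¹ * B.f s * c ∈ K := by
    have hle : K.map (MulAut.conj c).toMonoidHom = B.f.range := by
      refine eq_of_le_of_card_ge ?_ ?_
      · rintro _ ⟨x, hx, rfl⟩
        obtain ⟨s, hs⟩ := hc x hx
        exact ⟨s, hs.symm⟩
      · rw [card_map_of_injective (MulEquiv.injective _), hK, B.card_range]; norm_num
    intro s
    have : B.f s ∈ K.map (MulAut.conj c).toMonoidHom := hle ▸ ⟨s, rfl⟩
    obtain ⟨x, hx, hxe⟩ := this
    rw [← hxe]
    simpa [mul_assoc] using hx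
  have hvT : B.f vs ∈ T := mem_map_of_mem _ (mem_centralizer_singleton_iff.2 rfl)
  obtain ⟨w, hw⟩ := hc _ (hTK hvT)
  have hwz : w = zs := by
    refine (zs_facts.2.2.2 w fun y => B.inj ?_).resolve_left fun e => ?_
    · have := mem_centralizer_singleton_iff.1 (hKu (hall y))
      rw [map_mul, map_mul, ← hw]
      calc c * B.f vs * c⁻¹ * B.f y = c * (B.f vs * (c⁻¹ * B.f y * c)) * c⁻¹ := by group
        _ = c * (c⁻¹ * B.f y * c * B.f vs) * c⁻¹ := by rw [this]
        _ = B.f y * (c * B.f vs * c⁻¹) := by group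
    · rw [e, map_one, conj_eq_one_iff] at hw
      exact v1 (B.inj (by rw [hw, map_one]))
  subst hwz
  refine ⟨c⁻¹, ?_, fun q hq => ?_⟩
  · rw [Base.z, ← hw]; group
  have hcN' : c⁻¹ ∈ N := inv_mem hcN
  have hqT : B.f q ∈ T := by
    refine mem_map_of_mem _ (mem_centralizer_singleton_iff.2 ?_)
    exact (show ∀ q ∈ [zs, vs, vs * zs], q * vs = vs * q by decide +kernel) q hq
  obtain ⟨y, hy, hye⟩ := (mem_normalizer_iff.1 hcN' _).1 hqT
  have hy' := mem_centralizer_singleton_iff.1 hy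
  have hq' : q ≠ 1 ∧ ∀ x : ↥SM, x * vs = vs * x → x * q = q * x := by
    exact (show ∀ q ∈ [zs, vs, vs * zs], q ≠ 1 ∧ ∀ x : ↥SM, x * vs = vs * x → x * q = q * x
      by decide +kernel) q hq
  have hyc : ∀ x : ↥SM, x * vs = vs * x → y * x = x * y := by
    intro x hx
    obtain ⟨x', hx', hxe⟩ := (mem_normalizer_iff.1 hcN _).1
      (mem_map_of_mem B.f (mem_centralizer_singleton_iff.2 hx) : B.f x ∈ T)
    have h3 := congrArg B.f (hq'.2 x' (mem_centralizer_singleton_iff.1 hx'))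
    rw [map_mul, map_mul, hxe] at h3
    refine B.inj ?_
    rw [map_mul, map_mul, hye]
    calc c⁻¹ * B.f q * c⁻¹⁻¹ * B.f x = c⁻¹ * (B.f q * (c * B.f x * c⁻¹)) * c := by group
      _ = c⁻¹ * (c * B.f x * c⁻¹ * B.f q) * c := by rw [h3]
      _ = B.f x * (c⁻¹ * B.f q * c⁻¹⁻¹) := by group
  rcases vZ y hy' hyc with h' | h'
  · rw [h', map_one, eq_comm, conj_eq_one_iff] at hye
    exact absurd (B.inj (hye.trans (map_one B.f).symm)) hq'.1
  · exact ⟨y, h', hye.symm⟩

theorem fus (h : B.Simp) : B.Fus :=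
  ⟨fun _ hu huz hcz hne => B.extremal hu huz hcz hne, B.mover h⟩

theorem conj_max (h : B.Simp) (M : Subgroup ↥SM)
    (hM : Nat.card M = 32) {u : G} (hu : orderOf u = 2) :
    ∃ m ∈ M, orderOf m = 2 ∧ IsConj u (B.f m) := by
  haveI : Fact (Nat.Prime 2) := ⟨Nat.prime_two⟩
  obtain ⟨P, hP⟩ := B.sylow
  obtain ⟨d, hd⟩ := Invol.exists_conj_mem_of_isPGroup P (x := u) ⟨1, by simpa using hu⟩
  set x := d * u * d⁻¹
  have hx : orderOf x = 2 := by rw [Invol.orderOf_conj, hu]
  have hrel : (M.map B.f).relIndex P = 2 := by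
    rw [hP, MonoidHom.range_eq_map, relIndex_map_map_of_injective _ _ B.inj, relIndex_top_right]
    have := M.card_mul_index
    rw [hM, Nat.card_eq_fintype_card (α := ↥SM), card_SM] at this
    omega
  have hpow : ∀ k : ℕ, 1 ≤ k → x ^ (2 ^ k) = 1 := fun k hk =>
    orderOf_dvd_iff_pow_eq_one.1 (by rw [hx]; exact dvd_pow_self 2 (by omega))
  by_contra hcon
  obtain ⟨N, hN, hi, -⟩ := TwoTransfer.exists_index_two P (M.map B.f) hrel x hd
    (fun k g hk _ => by rw [hpow k hk]; simp) (fun g _ hgM => by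
      obtain ⟨m, hm, hme⟩ := hgM
      refine hcon ⟨m, hm, ?_, isConj_iff.2 ⟨g⁻¹ * d, ?_⟩⟩
      · rw [← orderOf_injective B.f B.inj, hme]
        have := Invol.orderOf_conj g⁻¹ x
        rw [inv_inv] at this
        rw [this, hx]
      · rw [hme]; simp only [x]; group)
  exact h.no_index_two N hN hi

theorem other_class (h : B.Simp) {u : G} (hu : orderOf u = 2) (hn : ¬ IsConj B.z u) :
    IsConj u (B.f a1) ∧ IsConj u (B.f a3) := by
  have hv := B.z_conj_v h
  have key : ∀ (M : Subgroup ↥SM) (a : ↥SM), Nat.card M = 32 →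
      (∀ x ∈ M, x * x = 1 → x = 1 ∨ x = zs ∨ ∃ g : ↥SM, g * x * g⁻¹ ∈ [vs, a]) →
      IsConj u (B.f a) := by
    intro M a hM hf
    obtain ⟨m, hm, ho, hc⟩ := B.conj_max h M hM hu
    rcases hf m hm (Invol.orderOf_eq_two_iff.1 ho).2 with h' | h' | ⟨g, hg⟩
    · exact absurd h' (Invol.ne_one ho)
    · exact absurd (h' ▸ hc).symm hn
    · simp only [List.mem_cons, List.not_mem_nil, or_false] at hg
      rcases hg with hg | hg
      · exact absurd (hv.trans (hc.trans (B.isConj_f hg)).symm) hn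
      · exact hc.trans (B.isConj_f hg)
  constructor
  · exact key MA a1 (by rw [Nat.card_eq_fintype_card, Fintype.card_subtype]; exact MA_facts.1)
      MA_facts.2
  · exact key MB a3 (by rw [Nat.card_eq_fintype_card, Fintype.card_subtype]; exact MB_facts.1)
      MB_facts.2

theorem not_conj_a (h : B.Simp) : ¬ IsConj B.z (B.f a1) ∧ ¬ IsConj B.z (B.f a3) := by
  obtain ⟨u, hu, hn⟩ := h.two
  obtain ⟨h1, h3⟩ := B.other_class h hu hn
  exact ⟨fun e => hn (e.trans h1.symm), fun e => hn (e.trans h3.symm)⟩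

/-- Two conjugate involutions of the normal subgroup of order 32, not conjugate to `z`, are
conjugate in the centralizer of `z`. -/
theorem four_conj {r r' : ↥SM} (hr : r ∈ [bs, a1, a2, a3]) (hr' : r' ∈ [bs, a1, a2, a3])
    (hconj : IsConj (B.f r) (B.f r')) (hn : ¬ IsConj B.z (B.f r)) (h : B.Simp) :
    ∃ c : G, Commute c B.z ∧ c * B.f r * c⁻¹ = B.f r' := by
  haveI : Fact (Nat.Prime 2) := ⟨Nat.prime_two⟩
  obtain ⟨g, hg⟩ := isConj_iff.1 hconj
  have hn' : ¬ IsConj B.z (B.f r') := fun e => hn (e.trans hconj.symm)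
  have syl : ∀ s ∈ [bs, a1, a2, a3], ¬ IsConj B.z (B.f s) →
      ¬ 32 ∣ Nat.card (centralizer ({B.f s} : Set G)) := fun s hs hns h32 => by
    obtain ⟨c, -, hc⟩ := B.grown hs h32
    exact hns ((B.z_conj_v h).trans (isConj_iff.2 ⟨c, hc⟩ : IsConj (B.f s) _).symm)
  set T := B.centS r'
  set T' := (B.centS r).map (MulAut.conj g).toMonoidHom
  have hT : Nat.card T = 2 ^ 4 := by rw [B.card_centS, (four_facts r' hr').2.2.2.2.1]; norm_num
  have hT' : Nat.card T' = 2 ^ 4 := by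
    rw [card_map_of_injective (MulEquiv.injective _), B.card_centS, (four_facts r hr).2.2.2.2.1]
    norm_num
  set C := centralizer ({B.f r'} : Set G)
  have hT'C : T' ≤ C := by
    rintro _ ⟨x, hx, rfl⟩
    have := mem_centralizer_singleton_iff.1 (B.centS_le r hx)
    rw [mem_centralizer_singleton_iff, ← hg]
    show g * x * g⁻¹ * _ = _
    calc g * x * g⁻¹ * (g * B.f r * g⁻¹) = g * (x * B.f r) * g⁻¹ := by group
      _ = g * (B.f r * x) * g⁻¹ := by rw [this]
      _ = g * B.f r * g⁻¹ * (g * x * g⁻¹) := by group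
  have mk : ∀ U : Subgroup G, U ≤ C → Nat.card U = 2 ^ 4 →
      ∃ P : Sylow 2 C, (P : Subgroup C) = U.subgroupOf C := by
    intro U hU hc
    have hcard : Nat.card (U.subgroupOf C) = 2 ^ 4 := by
      rw [← hc, Nat.card_congr (subgroupOfEquivOfLe hU).toEquiv]
    refine ⟨IsPGroup.toSylow (IsPGroup.of_card hcard) fun h2 => ?_, rfl⟩
    apply syl r' hr' hn'
    rw [← (U.subgroupOf C).card_mul_index, hcard]
    exact Nat.mul_dvd_mul_left 16 h2
  obtain ⟨P, hP⟩ := mk T (B.centS_le r') hT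
  obtain ⟨P', hP'⟩ := mk T' hT'C hT'
  obtain ⟨k, hk⟩ := MulAction.exists_smul_eq C P' P
  refine ⟨(k : G) * g, ?_, ?_⟩
  · obtain ⟨-, -, -, -, -, hsq, -⟩ := four_facts r' hr'
    obtain ⟨-, -, -, -, -, -, y, hy, hyz⟩ := four_facts r hr
    have hyT : g * B.f y * g⁻¹ ∈ T' := ⟨_, mem_map_of_mem _ (mem_centralizer_singleton_iff.2 hy), rfl⟩
    have h1 : k * ⟨g * B.f y * g⁻¹, hT'C hyT⟩ * k⁻¹ ∈ (P : Subgroup C) := by
      rw [← hk, Sylow.coe_subgroup_smul]
      exact smul_mem_pointwise_smul _ (MulAut.conj k) _ (by rw [hP']; exact hyT)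
    rw [hP] at h1
    obtain ⟨s, hs, hse⟩ := h1
    change B.f s = (k : G) * (g * B.f y * g⁻¹) * (k : G)⁻¹ at hse
    have h2 : (k : G) * g * B.z * ((k : G) * g)⁻¹ = B.f (s * s) := by
      rw [map_mul, hse, Base.z, ← hyz, map_mul]; group
    refine (mul_inv_eq_iff_eq_mul.1 (h2.trans ?_) : _)
    rcases hsq s (mem_centralizer_singleton_iff.1 hs) with h3 | h3
    · rw [h3, map_one, conj_eq_one_iff] at h2
      exact absurd h2 (Invol.ne_one B.orderOf_z)
    · rw [h3]; rfl
  · have := mem_centralizer_singleton_iff.1 k.2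
    calc (k : G) * g * B.f r * ((k : G) * g)⁻¹ = k * (g * B.f r * g⁻¹) * (k : G)⁻¹ := by group
      _ = B.f r' := by rw [hg, this, mul_inv_cancel_right]

end Base

end Cfsg.Agent.M12Type
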