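import Cfsg.Agent.M12Type.Model2
import Cfsg.Agent.M12Type.Fusion

/-!
The centralizer of the central involution modulo that involution: the elements outside the image of
the normal subgroup of order 32 are not fused into it, and the transfer to that image.
-/

set_option autoImplicit false

namespace Cfsg.Agent.M12Type

open Subgroup

theorem ofAdd_vals : (1 : Multiplicative (ZMod 2)) = Multiplicative.ofAdd ((2 : ℕ) : ZMod 2) ∧
    Multiplicative.ofAdd (1 : ZMod 2) ≠ 1 := by decide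

section general

variable {X : Type*} [Group X] [Finite X]

theorem sylow_conj_into (P : Sylow 2 X) {H T : Subgroup X} (hH : (P : Subgroup X) ≤ H)
    (hT : IsPGroup 2 T) (hTH : T ≤ H) : ∃ c ∈ H, ∀ x ∈ T, c * x * c⁻¹ ∈ P := by
  have : Fact (Nat.Prime 2) := ⟨Nat.prime_two⟩
  obtain ⟨Q, hQ⟩ := (hT.comap_subtype (H := T) (K := H)).exists_le_sylow
  obtain ⟨c, hc⟩ := MulAction.exists_smul_eq H Q (P.subtype hH)
  refine ⟨c, c.2, fun x hx => ?_⟩
  have h : c * ⟨x, hTH hx⟩ * c⁻¹ ∈ (P.subtype hH : Subgroup H) := by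
    rw [← hc, Sylow.coe_subgroup_smul]
    exact smul_mem_pointwise_smul _ (MulAut.conj c) _ (hQ (show (⟨x, hTH hx⟩ : H) ∈ T.subgroupOf H
      from hx))
  rw [Sylow.coe_subtype] at h
  exact h

theorem mem_normalizer_of_le {T : Subgroup X} {n : X} (hn : ∀ x ∈ T, n * x * n⁻¹ ∈ T) :
    n ∈ normalizer (T : Set X) := by
  have hle : T.map (MulAut.conj n).toMonoidHom = T :=
    eq_of_le_of_card_ge (by rintro _ ⟨x, hx, rfl⟩; exact hn x hx)
      (by rw [card_map_of_injective (MulEquiv.injective _)])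
  rw [mem_normalizer_iff]
  intro x
  conv_rhs => rw [← hle]
  exact (mem_map_iff_mem (f := (MulAut.conj n).toMonoidHom) (MulEquiv.injective _)).symm

/-- Transfer to a group of order two, with the values on some elements. -/
theorem exists_sgn (S : Sylow 2 X) (M : Subgroup X) (hM : M.relIndex S = 2) {x : X} (hx : x ∈ S)
    (hx2 : x * x = 1) (hfix : ∀ g : X, g⁻¹ * x * g ∈ S → g⁻¹ * x * g ∉ M) :
    ∃ φ : X →* Multiplicative (ZMod 2), φ x ≠ 1 ∧
      ∀ y ∈ S, y * y = 1 → (∀ g : X, g⁻¹ * y * g ∈ S → g⁻¹ * y * g ∈ M) → φ y = 1 := by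
  classical
  have : Fact (Nat.Prime 2) := ⟨Nat.prime_two⟩
  have hM' : (M.subgroupOf (S : Subgroup X)).index = 2 := hM
  set θ := TwoTransfer.sgn (M.subgroupOf (S : Subgroup X)) hM' with hθ
  set φ := MonoidHom.transfer θ with hφ
  have hper : ∀ y : X, y * y = 1 → ∀ q : X ⧸ (S : Subgroup X),
      Function.minimalPeriod (y • ·) q = 1 ∨ Function.minimalPeriod (y • ·) q = 2 := by
    intro y hy q
    have hd : Function.minimalPeriod (y • ·) q ∣ 2 := by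
      apply Function.IsPeriodicPt.minimalPeriod_dvd
      simp only [Function.IsPeriodicPt, Function.IsFixedPt, smul_iterate, sq, hy, one_smul]
    exact (Nat.dvd_prime Nat.prime_two).1 hd
  refine ⟨φ, ?_, fun y _ hy hc => ?_⟩
  · let : Fintype (Quotient (MulAction.orbitRel (zpowers x) (X ⧸ (S : Subgroup X)))) :=
      Fintype.ofFinite _
    have hval : ∀ q : Quotient (MulAction.orbitRel (zpowers x) (X ⧸ (S : Subgroup X))),
        θ ⟨_, QuotientGroup.out_conj_pow_minimalPeriod_mem (S : Subgroup X) x q.out⟩ =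
          Multiplicative.ofAdd ((Function.minimalPeriod (x • ·) q.out : ℕ) : ZMod 2) := by
      intro q
      have hmem := QuotientGroup.out_conj_pow_minimalPeriod_mem (S : Subgroup X) x q.out
      rcases hper x hx2 q.out with hk | hk
      · rw [hθ, TwoTransfer.sgn_apply_of_notMem]
        · simp [hk]
        · simp only [hk, pow_one, Subgroup.mem_subgroupOf] at hmem ⊢
          exact hfix _ hmem
      · rw [hθ, TwoTransfer.sgn_apply_of_mem]
        · rw [hk]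
          exact ofAdd_vals.1
        · simp only [hk, sq, hx2, mul_one, inv_mul_cancel, Subgroup.mem_subgroupOf]
          exact one_mem M
    have hsum : φ x = Multiplicative.ofAdd (((S : Subgroup X).index : ℕ) : ZMod 2) := by
      rw [hφ, MonoidHom.transfer_eq_prod_quotient_orbitRel_zpowers_quot]
      simp only [hval]
      rw [← ofAdd_sum, ← Nat.cast_sum, ← Subgroup.index_eq_sum_minimalPeriod]
    have hodd : (((S : Subgroup X).index : ℕ) : ZMod 2) = 1 := by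
      have h2 : ¬ 2 ∣ (S : Subgroup X).index := S.not_dvd_index
      rw [ZMod.natCast_eq_one_iff_odd]
      exact Nat.odd_iff.2 (by omega)
    rw [hsum, hodd]
    exact ofAdd_vals.2
  · let : Fintype (Quotient (MulAction.orbitRel (zpowers y) (X ⧸ (S : Subgroup X)))) :=
      Fintype.ofFinite _
    rw [hφ, MonoidHom.transfer_eq_prod_quotient_orbitRel_zpowers_quot]
    refine Finset.prod_eq_one fun q _ => ?_
    have hmem := QuotientGroup.out_conj_pow_minimalPeriod_mem (S : Subgroup X) y q.out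
    rw [hθ, TwoTransfer.sgn_apply_of_mem]
    rcases hper y hy q.out with hk | hk
    · simp only [hk, pow_one, Subgroup.mem_subgroupOf] at hmem ⊢
      exact hc _ hmem
    · simp only [hk, sq, hy, mul_one, inv_mul_cancel, Subgroup.mem_subgroupOf]
      exact one_mem M

end general

namespace Base

variable {G : Type*} [Group G] (B : Base G)

/-- The centralizer of the central involution. -/
abbrev CZ : Type _ := ↥(centralizer ({B.z} : Set G))

/-- The model inside the centralizer. -/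
def fc : ↥SM →* B.CZ :=
  B.f.codRestrict _ fun s => mem_centralizer_singleton_iff.2 (B.comm_z s).eq

/-- The subgroup generated by the central involution. -/
def NZ : Subgroup B.CZ := zpowers (B.fc zs)

instance : B.NZ.Normal := by
  refine ⟨fun n hn g => ?_⟩
  obtain ⟨k, rfl⟩ := hn
  have hc : Commute g (B.fc zs) := Subtype.ext (mem_centralizer_singleton_iff.1 g.2)
  show g * (B.fc zs) ^ k * g⁻¹ ∈ _
  rw [(hc.zpow_right k).eq, mul_inv_cancel_right]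
  exact ⟨k, rfl⟩

/-- The quotient. -/
abbrev XZ : Type _ := B.CZ ⧸ B.NZ

/-- The model in the quotient. -/
def pr : ↥SM →* B.XZ := (QuotientGroup.mk' B.NZ).comp B.fc

theorem mem_NZ {c : B.CZ} : c ∈ B.NZ ↔ (c : G) = 1 ∨ (c : G) = B.z := by
  constructor
  · rintro ⟨k, rfl⟩
    show ((B.f zs) ^ k : G) = 1 ∨ (B.f zs) ^ k = B.f zs
    have h2 : B.f zs * B.f zs = 1 := by rw [← map_mul, zs_facts.2.1, map_one]
    rcases Int.even_or_odd k with ⟨m, rfl⟩ | ⟨m, rfl⟩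
    · left; rw [← two_mul, zpow_mul, zpow_two, h2, one_zpow]
    · right; rw [zpow_add, zpow_mul, zpow_two, h2, one_zpow, one_mul, zpow_one]
  · rintro (h | h)
    · rw [show c = 1 from Subtype.ext h]; exact one_mem _
    · rw [show c = B.fc zs from Subtype.ext h]; exact mem_zpowers _

theorem mk_eq_pr_iff {c : B.CZ} {r : ↥SM} :
    (c : B.XZ) = B.pr r ↔ (c : G) = B.f r ∨ (c : G) = B.f (r * zs) := by
  show (c : B.XZ) = ((B.fc r : B.CZ) : B.XZ) ↔ _
  rw [eq_comm, QuotientGroup.eq, mem_NZ]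
  show (B.f r)⁻¹ * (c : G) = 1 ∨ (B.f r)⁻¹ * (c : G) = B.z ↔ _
  rw [inv_mul_eq_iff_eq_mul, inv_mul_eq_iff_eq_mul, mul_one, map_mul]
  rfl

theorem pr_eq_iff {r s : ↥SM} : B.pr r = B.pr s ↔ eqz r s := by
  rw [show B.pr r = ((B.fc r : B.CZ) : B.XZ) from rfl, mk_eq_pr_iff]
  show B.f r = B.f s ∨ B.f r = B.f (s * zs) ↔ _
  rw [B.inj.eq_iff, B.inj.eq_iff]
  rfl

theorem pr_eq_one_iff {r : ↥SM} : B.pr r = 1 ↔ eqz r 1 := by
  rw [← map_one B.pr, pr_eq_iff]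

theorem pr_zs : B.pr zs = 1 := B.pr_eq_one_iff.2 (Or.inr (one_mul zs).symm)

theorem mk_conj {c : B.CZ} {r s : ↥SM} (h : (c : B.XZ) * B.pr r * (c : B.XZ)⁻¹ = B.pr s) :
    (c : G) * B.f r * (c : G)⁻¹ = B.f s ∨ (c : G) * B.f r * (c : G)⁻¹ = B.f (s * zs) :=
  B.mk_eq_pr_iff.1 (show ((c * B.fc r * c⁻¹ : B.CZ) : B.XZ) = _ from h)

theorem exists_lift (g : B.XZ) : ∃ c : B.CZ, (c : B.XZ) = g :=
  QuotientGroup.mk'_surjective B.NZ g

theorem pr_sq {r : ↥SM} (hr : r ∈ QS) : B.pr r * B.pr r = 1 := by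
  rw [← map_mul, pr_eq_one_iff]
  rcases QS_facts.2.2.2.2.1 r hr with h | h
  · exact Or.inl h
  · exact Or.inr (by rw [h, one_mul])

variable [Finite G]

theorem card_map_pr {K : Subgroup ↥SM} (hz : zs ∈ K) : 2 * Nat.card (K.map B.pr) = Nat.card K := by
  classical
  have hk : Nat.card (B.pr.comp K.subtype).ker = 2 := by
    rw [Nat.card_eq_two_iff]
    refine ⟨1, ⟨⟨zs, hz⟩, B.pr_zs⟩, fun e => zs_facts.1 (congrArg (fun x : (B.pr.comp K.subtype).ker => ((x : K) : ↥SM)) e).symm,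
      Set.eq_univ_of_forall fun x => ?_⟩
    rcases B.pr_eq_one_iff.1 x.2 with h | h
    · exact Or.inl (Subtype.ext (Subtype.ext h))
    · exact Or.inr (Subtype.ext (Subtype.ext (h.trans (one_mul zs))))
  have h1 := (B.pr.comp K.subtype).ker.card_mul_index
  rw [hk, Subgroup.index_ker] at h1
  rw [← h1, MonoidHom.range_eq_map, ← Subgroup.map_map, ← MonoidHom.range_eq_map,
    Subgroup.range_subtype]

theorem exists_sylow : ∃ P : Sylow 2 B.XZ, (P : Subgroup B.XZ) = B.pr.range := by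
  have : Fact (Nat.Prime 2) := ⟨Nat.prime_two⟩
  obtain ⟨P, hP⟩ := B.sylow
  refine ⟨(P.subtype (hP.le.trans B.range_le)).mapSurjective (QuotientGroup.mk'_surjective B.NZ), ?_⟩
  rw [Sylow.coe_mapSurjective, Sylow.coe_subtype, hP]
  ext x
  constructor
  · rintro ⟨c, ⟨s, hs⟩, rfl⟩
    exact ⟨s, (B.mk_eq_pr_iff.2 (Or.inl hs.symm)).symm⟩
  · rintro ⟨s, rfl⟩
    exact ⟨B.fc s, ⟨s, rfl⟩, rfl⟩

/-- The image of the normal subgroup of order 32. -/
def QX : Subgroup B.XZ := QS.map B.pr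

theorem mem_QX_iff {r : ↥SM} : B.pr r ∈ B.QX ↔ r ∈ QS := by
  refine ⟨fun ⟨s, hs, he⟩ => ?_, mem_map_of_mem _⟩
  rcases B.pr_eq_iff.1 he.symm with h | h
  · rw [h]; exact hs
  · rw [h]; exact mul_mem hs QS_facts.2.1

theorem card_pr_range : Nat.card B.pr.range = 32 := by
  have h := B.card_map_pr (K := ⊤) trivial
  rw [← MonoidHom.range_eq_map, card_top, Nat.card_eq_fintype_card (α := ↥SM), card_SM] at h
  omega

theorem card_QX : Nat.card B.QX = 16 := by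
  have h := B.card_map_pr (K := QS) QS_facts.2.1
  rw [Nat.card_eq_fintype_card (α := ↥QS), Fintype.card_subtype, QS_facts.1] at h
  rw [QX]; omega

theorem card_FX : Nat.card (FS.map B.pr) = 8 := by
  have h := B.card_map_pr (K := FS) FS_facts.2.1
  rw [Nat.card_eq_fintype_card (α := ↥FS), Fintype.card_subtype, FS_facts.1] at h
  omega

/-- The image of `ts` is not conjugate into the image of the normal subgroup of order 32. -/
theorem not_into_QX (g : B.XZ) {q : ↥SM} (hq : q ∈ QS) :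
    g * B.pr ts * g⁻¹ ≠ B.pr q := by
  intro hg
  have : Fact (Nat.Prime 2) := ⟨Nat.prime_two⟩
  obtain ⟨S, hS⟩ := B.exists_sylow
  set u := B.pr ts with hu
  set F := FS.map B.pr with hF
  have hFu : F ≤ centralizer ({u} : Set B.XZ) := by
    rintro _ ⟨x, hx, rfl⟩
    rw [mem_centralizer_singleton_iff, hu, ← map_mul, ← map_mul, pr_eq_iff]
    exact hx
  have h16 : 2 ^ (3 + 1) ∣ Nat.card (centralizer ({u} : Set B.XZ)) := by
    rw [Base.card_centralizer_conj (isConj_iff.2 ⟨g, hg⟩)]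
    refine (dvd_of_eq ?_).trans (card_dvd_of_le (H := B.QX) ?_)
    · rw [B.card_QX]; norm_num
    · rintro _ ⟨r, hr, rfl⟩
      rw [mem_centralizer_singleton_iff, ← map_mul, ← map_mul, pr_eq_iff]
      rcases QS_facts.2.2.2.2.2 r hr q hq with h | h
      exacts [Or.inl h, Or.inr h]
  obtain ⟨K, hKu, hK, hFK, hN⟩ := Base.grow (n := 3) B.card_FX hFu h16
  set N := normalizer (F : Set B.XZ)
  have hSN : (S : Subgroup B.XZ) ≤ N := by
    rw [hS]
    rintro _ ⟨s, rfl⟩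
    refine mem_normalizer_of_le ?_
    rintro _ ⟨x, hx, rfl⟩
    exact ⟨s * x * s⁻¹, FS_facts.2.2.2.2.2.1 x hx s, by rw [map_mul, map_mul, map_inv]⟩
  obtain ⟨n, hnN, hn⟩ := sylow_conj_into S hSN (IsPGroup.of_card hK)
    fun k hk => mem_normalizer_of_le (hN k hk)
  rw [← hF] at hN
  have huF : u ∈ F := mem_map_of_mem _ FS_facts.2.2.1
  obtain ⟨xp, hxp, hp⟩ := (mem_normalizer_iff.1 hnN u).1 huF
  have hu1 : u ≠ 1 := fun e => by
    revert e; rw [hu, pr_eq_one_iff]; decide +kernel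
  have hxp1 : ¬ eqz xp 1 := fun e => hu1 (by
    rw [← B.pr_eq_one_iff, hp, conj_eq_one_iff] at e; exact e)
  have hxQ : xp ∈ QS := by
    by_contra hnot
    have h32 : Nat.card ((K.map (MulAut.conj n).toMonoidHom).comap B.pr) = 32 := by
      have hle : K.map (MulAut.conj n).toMonoidHom ≤ B.pr.range := by
        rintro _ ⟨k, hk, rfl⟩
        exact hS ▸ hn k hk
      have h := B.card_map_pr (K := (K.map (MulAut.conj n).toMonoidHom).comap B.pr)
        (by rw [mem_comap, B.pr_zs]; exact one_mem _)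
      rw [map_comap_eq, inf_eq_right.2 hle, card_map_of_injective (MulEquiv.injective _), hK] at h
      omega
    classical
    have hb := FS_cent xp hxp hnot
    rw [← Fintype.card_subtype, ← Nat.card_eq_fintype_card] at hb
    have hle : Nat.card ((K.map (MulAut.conj n).toMonoidHom).comap B.pr) ≤
        Nat.card {s : ↥SM // eqz (s * xp) (xp * s)} := by
      refine Nat.card_le_card_of_injective (fun s => ⟨s.1, ?_⟩) (fun a b e => Subtype.ext
        (congrArg (fun w : {s : ↥SM // eqz (s * xp) (xp * s)} => w.1) e))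
      obtain ⟨k, hk, hke⟩ := s.2
      rw [← B.pr_eq_iff, map_mul, map_mul, ← hke, hp]
      have := mem_centralizer_singleton_iff.1 (hKu hk)
      show n * k * n⁻¹ * (n * u * n⁻¹) = n * u * n⁻¹ * (n * k * n⁻¹)
      rw [show n * k * n⁻¹ * (n * u * n⁻¹) = n * (k * u) * n⁻¹ by group, this]
      group
    omega
  -- the four-group of fixed points
  set Z := (FS ⊓ QS).map B.pr with hZ
  have hZF : Z ≤ F := map_mono inf_le_left
  have memZ : ∀ a : ↥SM, a ∈ FS → (B.pr a ∈ Z ↔ a ∈ QS) := fun a ha =>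
    ⟨fun ⟨b, hb, he⟩ => B.mem_QX_iff.1 ⟨b, hb.2, he⟩, fun h => mem_map_of_mem _ ⟨ha, h⟩⟩
  have hFc : ∀ x ∈ F, ∀ y ∈ F, x * y = y * x := by
    rintro _ ⟨a, ha, rfl⟩ _ ⟨b, hb, rfl⟩
    rw [← map_mul, ← map_mul, pr_eq_iff]
    exact FS_facts.2.2.2.1 a ha b hb
  have hF2 : ∀ x ∈ F, x * x = 1 := by
    rintro _ ⟨a, ha, rfl⟩
    rw [← map_mul, pr_eq_one_iff]
    exact FS_facts.2.2.2.2.1 a ha
  have hout : ∀ x ∈ F, x ∉ Z → ∀ y ∈ F, y ∉ Z → x * y ∈ Z := by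
    rintro _ ⟨a, ha, rfl⟩ hx _ ⟨b, hb, rfl⟩ hy
    rw [← map_mul, memZ _ (mul_mem ha hb)]
    exact QS_facts.2.2.1 a (mt (memZ a ha).2 hx) b (mt (memZ b hb).2 hy)
  have huZ : u ∉ Z := fun h => t_facts.2.2.2.1 ((memZ ts FS_facts.2.2.1).1 h)
  have hpZ : n * u * n⁻¹ ∈ Z := hp ▸ mem_map_of_mem _ ⟨hxp, hxQ⟩
  obtain ⟨p, hpdef⟩ : ∃ p, p = n * u * n⁻¹ := ⟨_, rfl⟩
  rw [← hpdef] at hp hpZ
  have nF : ∀ x ∈ F, n * x * n⁻¹ ∈ F := fun x hx => (mem_normalizer_iff.1 hnN x).1 hx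
  -- an element of `Z` moved outside
  obtain ⟨z', hz', hc'⟩ : ∃ z' ∈ Z, n * z' * n⁻¹ ∉ Z := by
    by_contra! hcon
    have hle : Z.map (MulAut.conj n).toMonoidHom = Z :=
      eq_of_le_of_card_ge (by rintro _ ⟨x, hx, rfl⟩; exact hcon x hx)
        (by rw [card_map_of_injective (K := Z) (f := (MulAut.conj n).toMonoidHom) (MulAut.conj n).injective])
    refine huZ ?_
    rw [← mem_map_iff_mem (f := (MulAut.conj n).toMonoidHom) (MulEquiv.injective _), hle]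
    rw [hpdef] at hpZ
    simpa using hpZ
  -- an element of `Z` staying inside
  obtain ⟨z2, hz2, hz21, hcZ⟩ : ∃ z2 ∈ Z, z2 ≠ 1 ∧ n * z2 * n⁻¹ ∈ Z := by
    obtain ⟨a, ⟨ha, haQ⟩, rfl⟩ := hz'
    obtain ⟨b, hb, hbQ, hb1, hba⟩ := Z_four.1 a ha haQ
    by_cases h : n * B.pr b * n⁻¹ ∈ Z
    · exact ⟨_, mem_map_of_mem _ ⟨hb, hbQ⟩, mt B.pr_eq_one_iff.1 hb1, h⟩
    · refine ⟨B.pr (a * b), mem_map_of_mem _ ⟨mul_mem ha hb, mul_mem haQ hbQ⟩, fun e => hba ?_, ?_⟩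
      · rw [← B.pr_eq_iff]
        rw [map_mul, mul_eq_one_iff_inv_eq,
          inv_eq_of_mul_eq_one_right (hF2 _ (mem_map_of_mem _ ha))] at e
        exact e.symm
      · have := hout _ (nF _ (hZF (mem_map_of_mem _ ⟨ha, haQ⟩))) hc' _
          (nF _ (hZF (mem_map_of_mem _ ⟨hb, hbQ⟩))) h
        rw [map_mul]
        rw [show n * (B.pr a * B.pr b) * n⁻¹ = n * B.pr a * n⁻¹ * (n * B.pr b * n⁻¹) by group]
        exact this
  obtain ⟨c, hc_def⟩ : ∃ c, c = n * z2 * n⁻¹ := ⟨_, rfl⟩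
  obtain ⟨c', hc'_def⟩ : ∃ c', c' = n * z' * n⁻¹ := ⟨_, rfl⟩
  rw [← hc'_def] at hc'
  rw [← hc_def] at hcZ
  have hc'F : c' ∈ F := hc'_def ▸ nF _ (hZF hz')
  have hc1 : c ≠ 1 := fun e => hz21 (by rwa [hc_def, conj_eq_one_iff] at e)
  have hcp : c ≠ p := fun e => huZ (by
    rw [hc_def, hpdef] at e; exact mul_left_cancel (mul_right_cancel e) ▸ hz2)
  -- transvections
  have tr : ∀ y ∈ Z, ∃ s : ↥SM, B.pr s * u * (B.pr s)⁻¹ = u * y ∧
      ∀ x ∈ Z, B.pr s * x * (B.pr s)⁻¹ = x := by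
    rintro _ ⟨a, ⟨ha, haQ⟩, rfl⟩
    obtain ⟨s, hs⟩ := (FS_trans a ha haQ).1
    refine ⟨s, ?_, ?_⟩
    · rw [hu, ← map_inv, ← map_mul, ← map_mul, ← map_mul, pr_eq_iff]; exact hs
    · rintro _ ⟨b, ⟨hb, hbQ⟩, rfl⟩
      rw [← map_inv, ← map_mul, ← map_mul, pr_eq_iff]
      exact (FS_trans b hb hbQ).2 s
  obtain ⟨s, hs, hsZ⟩ := tr c hcZ
  obtain ⟨s0, hs0, hs0Z⟩ := tr z' hz'
  obtain ⟨w, hw⟩ : ∃ w, w = B.pr s * (n * B.pr s0 * n⁻¹) := ⟨_, rfl⟩
  have hconj : ∀ x : B.XZ, w * x * w⁻¹ =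
      B.pr s * (n * (B.pr s0 * (n⁻¹ * x * n) * (B.pr s0)⁻¹) * n⁻¹) * (B.pr s)⁻¹ := fun x => by
    rw [hw]; group
  have wc : w * c * w⁻¹ = c := by
    rw [hconj, show n⁻¹ * c * n = z2 by rw [hc_def]; group, hs0Z _ hz2, ← hc_def, hsZ c hcZ]
  have sc' : B.pr s * c' * (B.pr s)⁻¹ = c * c' := by
    have hy : u * c' ∈ Z := hout u huF huZ c' hc'F hc'
    have e : c' = u * (u * c') := by rw [← mul_assoc, hF2 u huF, one_mul]
    calc B.pr s * c' * (B.pr s)⁻¹ =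
          B.pr s * u * (B.pr s)⁻¹ * (B.pr s * (u * c') * (B.pr s)⁻¹) := by
          conv_lhs => rw [e]
          group
      _ = u * c * (u * c') := by rw [hs, hsZ _ hy]
      _ = c * c' := by
          rw [hFc u huF c (hZF hcZ), mul_assoc, ← e]
  have wc' : w * c' * w⁻¹ = c * c' := by
    rw [hconj, show n⁻¹ * c' * n = z' by rw [hc'_def]; group, hs0Z _ hz', ← hc'_def, sc']
  have wp : w * p * w⁻¹ = p * (c * c') := by
    rw [hconj, show n⁻¹ * p * n = u by rw [hpdef]; group, hs0,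
      show n * (u * z') * n⁻¹ = p * c' by rw [hpdef, hc'_def]; group]
    rw [show B.pr s * (p * c') * (B.pr s)⁻¹ =
      B.pr s * p * (B.pr s)⁻¹ * (B.pr s * c' * (B.pr s)⁻¹) by group, hsZ p hpZ, sc']
  have hpF := hZF hpZ
  have hcF := hZF hcZ
  have cmul : ∀ x y : B.XZ, w * (x * y) * w⁻¹ = w * x * w⁻¹ * (w * y * w⁻¹) := fun x y => by group
  have sq : ∀ x : B.XZ, w ^ 2 * x * (w ^ 2)⁻¹ = w * (w * x * w⁻¹) * w⁻¹ := fun x => by
    rw [pow_two]; group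
  have w2p : w ^ 2 * p * (w ^ 2)⁻¹ = p * c := by
    rw [sq, wp, cmul, cmul, wp, wc, wc', mul_assoc]
    congr 1
    calc c * c' * (c * (c * c')) = c * c' * c' := by rw [← mul_assoc c c, hF2 c hcF, one_mul]
      _ = c := by rw [mul_assoc, hF2 c' hc'F, mul_one]
  have w2c' : w ^ 2 * c' * (w ^ 2)⁻¹ = c' := by
    rw [sq, wc', cmul, wc, wc', ← mul_assoc, hF2 c hcF, one_mul]
  have w2c : w ^ 2 * c * (w ^ 2)⁻¹ = c := by rw [sq, wc, wc]
  have w2ne : w ^ 2 * p * (w ^ 2)⁻¹ ≠ p := fun e => hc1 (mul_eq_left.1 (w2p.symm.trans e))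
  have four : ∀ x : B.XZ, w ^ 4 * x * (w ^ 4)⁻¹ = w ^ 2 * (w ^ 2 * x * (w ^ 2)⁻¹) * (w ^ 2)⁻¹ :=
    fun x => by rw [show (4 : ℕ) = 2 + 2 from rfl, pow_add]; group
  have gen : ∀ x ∈ F, w ^ 4 * x * (w ^ 4)⁻¹ = x := by
    have hwp : w ^ 4 * p * (w ^ 4)⁻¹ = p := by
      rw [four, w2p, show w ^ 2 * (p * c) * (w ^ 2)⁻¹ =
        w ^ 2 * p * (w ^ 2)⁻¹ * (w ^ 2 * c * (w ^ 2)⁻¹) by group, w2p, w2c, mul_assoc, hF2 c hcF,
        mul_one]
    have hwc : w ^ 4 * c * (w ^ 4)⁻¹ = c := by rw [four, w2c, w2c]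
    have hwc' : w ^ 4 * c' * (w ^ 4)⁻¹ = c' := by rw [four, w2c', w2c']
    have mulF : ∀ x y, w ^ 4 * x * (w ^ 4)⁻¹ = x → w ^ 4 * y * (w ^ 4)⁻¹ = y →
        w ^ 4 * (x * y) * (w ^ 4)⁻¹ = x * y := fun x y h1 h2 => by
      rw [show w ^ 4 * (x * y) * (w ^ 4)⁻¹ = w ^ 4 * x * (w ^ 4)⁻¹ * (w ^ 4 * y * (w ^ 4)⁻¹)
        by group, h1, h2]
    have hZgen : ∀ x ∈ Z, w ^ 4 * x * (w ^ 4)⁻¹ = x := by
      rintro _ ⟨d, ⟨hd, hdQ⟩, rfl⟩
      obtain ⟨a, ⟨ha, haQ⟩, hae⟩ := hcZ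
      have hp' : B.pr xp = p := hp
      rcases Z_four.2 xp hxp hxQ a ha haQ d hd hdQ hxp1
          (fun e => hc1 (by rw [← hae, pr_eq_one_iff]; exact e))
          (fun e => hcp (by rw [← hae, ← hp', B.pr_eq_iff.2 e])) with h | h | h | h
      · rw [B.pr_eq_one_iff.2 h]; group
      · rw [B.pr_eq_iff.2 h, hp', hwp]
      · rw [B.pr_eq_iff.2 h, hae, hwc]
      · rw [B.pr_eq_iff.2 h, map_mul, hp', hae]; exact mulF _ _ hwp hwc
    intro x hx
    by_cases hxZ : x ∈ Z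
    · exact hZgen x hxZ
    · have h := mulF c' _ hwc' (hZgen _ (hout c' hc'F hc' x hx hxZ))
      rwa [← mul_assoc c', hF2 c' hc'F, one_mul] at h
  -- no element of order four
  have hwN : w ∈ N := by
    rw [hw]
    exact mul_mem (hSN (hS ▸ ⟨s, rfl⟩))
      (mul_mem (mul_mem hnN (hSN (hS ▸ ⟨s0, rfl⟩))) (inv_mem hnN))
  obtain ⟨k, m, hm, hkm⟩ := Nat.exists_eq_pow_mul_and_not_dvd (orderOf_pos w).ne' 2 (by norm_num)
  have hw0 : IsPGroup 2 (zpowers (w ^ m)) := by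
    have h1 : (w ^ m) ^ 2 ^ k = 1 := by
      rw [← pow_mul, mul_comm, ← hkm, pow_orderOf_eq_one]
    obtain ⟨j, -, hj⟩ := (Nat.dvd_prime_pow Nat.prime_two).1 (orderOf_dvd_of_pow_eq_one h1)
    exact IsPGroup.of_card (n := j) (by rw [Nat.card_zpowers, hj])
  obtain ⟨e, heN, he⟩ := sylow_conj_into S hSN hw0 (zpowers_le.2 (pow_mem hwN m))
  obtain ⟨s2, hs2⟩ := (hS ▸ he _ (mem_zpowers _) : e * w ^ m * e⁻¹ ∈ B.pr.range)
  have hsqc : ∀ x ∈ F, w ^ m * w ^ m * x * (w ^ m * w ^ m)⁻¹ = x := by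
    intro x hx
    have hq : B.pr (s2 * s2) ∈ F := mem_map_of_mem _ (FS_facts.2.2.2.2.2.2 s2)
    have hex : e * x * e⁻¹ ∈ F := (mem_normalizer_iff.1 heN x).1 hx
    have := hFc _ hq _ hex
    rw [map_mul, hs2] at this
    calc w ^ m * w ^ m * x * (w ^ m * w ^ m)⁻¹ =
          e⁻¹ * (e * w ^ m * e⁻¹ * (e * w ^ m * e⁻¹) * (e * x * e⁻¹)) * e *
            (w ^ m * w ^ m)⁻¹ := by group
      _ = e⁻¹ * (e * x * e⁻¹ * (e * w ^ m * e⁻¹ * (e * w ^ m * e⁻¹))) * e *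
            (w ^ m * w ^ m)⁻¹ := by rw [this]
      _ = x := by group
  obtain ⟨j, rfl⟩ : ∃ j, m = 2 * j + 1 := ⟨m / 2, by omega⟩
  refine w2ne ?_
  have hpow : ∀ i : ℕ, ∀ x ∈ F, (w ^ 4) ^ i * x * ((w ^ 4) ^ i)⁻¹ = x := by
    intro i
    induction i with
    | zero => intro x _; group
    | succ i ih =>
      intro x hx
      rw [pow_succ, show (w ^ 4) ^ i * w ^ 4 * x * ((w ^ 4) ^ i * w ^ 4)⁻¹ =
        (w ^ 4) ^ i * (w ^ 4 * x * (w ^ 4)⁻¹) * ((w ^ 4) ^ i)⁻¹ by group, gen x hx, ih x hx]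
  have h := hsqc p hpF
  rw [← pow_add, show 2 * j + 1 + (2 * j + 1) = 2 + 4 * j by ring, pow_add, pow_mul] at h
  rwa [show w ^ 2 * (w ^ 4) ^ j * p * (w ^ 2 * (w ^ 4) ^ j)⁻¹ =
    w ^ 2 * ((w ^ 4) ^ j * p * ((w ^ 4) ^ j)⁻¹) * (w ^ 2)⁻¹ by group, hpow j p hpF] at h

/-- The transfer to the image of the normal subgroup of order 32. -/
theorem exists_phi : ∃ φ : B.XZ →* Multiplicative (ZMod 2), φ (B.pr ts) ≠ 1 ∧
    ∀ q ∈ B.QX, φ q = 1 := by
  have : Fact (Nat.Prime 2) := ⟨Nat.prime_two⟩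
  obtain ⟨S, hS⟩ := B.exists_sylow
  have hrel : B.QX.relIndex S = 2 := by
    have h := relIndex_mul_relIndex ⊥ B.QX (S : Subgroup B.XZ) bot_le
      (hS ▸ map_le_range _ _)
    rw [relIndex_bot_left, relIndex_bot_left, hS, B.card_QX, B.card_pr_range] at h
    rw [hS]; omega
  have hts : B.pr ts * B.pr ts = 1 := by rw [← map_mul, t_facts.1, map_one]
  have htS : B.pr ts ∈ (S : Subgroup B.XZ) := by rw [hS]; exact ⟨ts, rfl⟩
  obtain ⟨φ, hφt, hφ⟩ := exists_sgn S B.QX hrel htS hts (fun g _ hg => by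
    obtain ⟨q, hq, he⟩ := hg
    exact B.not_into_QX g⁻¹ hq (by rw [inv_inv, he]))
  refine ⟨φ, hφt, ?_⟩
  rintro _ ⟨q, hq, rfl⟩
  refine hφ _ (show B.pr q ∈ (S : Subgroup B.XZ) by rw [hS]; exact ⟨q, rfl⟩) (B.pr_sq hq) fun g hg => ?_
  obtain ⟨s, hs⟩ := (hS ▸ hg : g⁻¹ * B.pr q * g ∈ B.pr.range)
  rw [← hs]
  refine B.mem_QX_iff.2 (by_contra fun hsQ => ?_)
  have hs2 : eqz (s * s) 1 := by
    rw [← B.pr_eq_one_iff, map_mul, hs, show g⁻¹ * B.pr q * g * (g⁻¹ * B.pr q * g) =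
      g⁻¹ * (B.pr q * B.pr q) * g by group, B.pr_sq hq]
    group
  obtain ⟨d, hd⟩ := outside s hsQ hs2
  refine B.not_into_QX (g * B.pr d) hq ?_
  have h1 : B.pr d * B.pr ts * (B.pr d)⁻¹ = B.pr s := by
    rw [← map_inv, ← map_mul, ← map_mul, pr_eq_iff]; exact hd
  rw [show g * B.pr d * B.pr ts * (g * B.pr d)⁻¹ = g * (B.pr d * B.pr ts * (B.pr d)⁻¹) * g⁻¹
    by group, h1, hs]
  group

end Base

end Cfsg.Agent.M12Type
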