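import Cfsg.Agent.S0205
import Cfsg.Agent.S0217
import Cfsg.Agent.Core.PCore
import Cfsg.Agent.SylowFifteen.Small
import Cfsg.Agent.Invol.SEPairs
import Cfsg.Agent.Invol.SylowConj
import Cfsg.Agent.TwoTransfer.Basic

/-!
A group with an elementary abelian Sylow 2-subgroup of rank at least three, two classes of
involutions, and in which no element of the normalizer of the Sylow subgroup fixes an involution of
it without centralizing it: the Sylow subgroup is normal modulo a subgroup of odd order.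
-/

set_option autoImplicit false

namespace Cfsg.Agent.M12Type

open Subgroup

variable {Y : Type*} [Group Y] [Finite Y]

theorem odd_orderOf_of_mem {H : Subgroup Y} (h : ¬ 2 ∣ Nat.card H) {c : Y} (hc : c ∈ H) :
    ¬ 2 ∣ orderOf c := fun h2 =>
  h (h2.trans (Subgroup.orderOf_dvd_natCard H hc))

/-- The conclusion: a normal subgroup of odd order, normal product, odd centralizing elements. -/
theorem abel_normal (A : Sylow 2 Y) (hab : ∀ a ∈ A, ∀ b ∈ A, a * b = b * a)
    (hel : ∀ a ∈ A, a * a = 1) (h8 : 8 ≤ Nat.card (A : Subgroup Y))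
    (hfix : ∀ u ∈ A, u ≠ 1 → ∀ n ∈ normalizer ((A : Subgroup Y) : Set Y), Commute n u →
      ∀ a ∈ A, Commute n a)
    {x y : Y} (hx : orderOf x = 2) (hy : orderOf y = 2) (hxy : ¬ IsConj x y) :
    ∃ W : Subgroup Y, W.Normal ∧ ¬ 2 ∣ Nat.card W ∧
      (∀ a ∈ A, ∀ g : Y, g * a * g⁻¹ ∈ (A : Subgroup Y) ⊔ W) ∧
      (∀ c : Y, (∀ a ∈ A, Commute c a) → ¬ 2 ∣ orderOf c → c ∈ W) := by
  classical
  haveI : Fact (Nat.Prime 2) := ⟨Nat.prime_two⟩
  set A' : Subgroup Y := (A : Subgroup Y) with hA'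
  set θ : Y → Subgroup Y := fun u => centralizerPPrimeCore 2 u with hθ
  have hθC : ∀ u, θ u ≤ centralizer ({u} : Set Y) := fun u => map_subtype_le _
  have hθodd : ∀ u, ¬ 2 ∣ Nat.card (θ u) := fun u => by
    rw [hθ]
    simp only [centralizerPPrimeCore]
    rw [card_map_of_injective (subtype_injective _)]
    exact Core.not_dvd_card_pPrimeCore
  have hAC : ∀ u ∈ A', A' ≤ centralizer ({u} : Set Y) := fun u hu b hb =>
    mem_centralizer_singleton_iff.2 (hab b hb u hu)
  -- the centralizer of an involution of the Sylow subgroup has a normal complement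
  have key : ∀ u ∈ A', u ≠ 1 → ∀ g : Y, g * u = u * g →
      (¬ 2 ∣ orderOf g → g ∈ θ u) ∧ ∃ a ∈ A', ∃ w ∈ θ u, g = w * a := by
    intro u hu hu1 g hg
    set Cu := centralizer ({u} : Set Y) with hCu
    let P : Sylow 2 Cu := A.subtype (hAC u hu)
    have hP : (P : Subgroup Cu) = A'.subgroupOf Cu := A.coe_subtype _
    have hN : normalizer ((P : Subgroup Cu) : Set Cu) ≤ centralizer ((P : Subgroup Cu) : Set Cu) := by
      intro n hn
      have hn' : (n : Y) ∈ normalizer (A' : Set Y) := by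
        rw [mem_normalizer_iff]
        intro b
        constructor
        · intro hb
          have := ((mem_normalizer_iff.1 hn) ⟨b, hAC u hu hb⟩).1
            (by rw [hP]; exact hb)
          rw [hP] at this
          exact this
        · intro hb
          have hb' := hAC u hu hb
          have hbC : b ∈ Cu := by
            have := Cu.mul_mem (Cu.mul_mem (Cu.inv_mem n.2) hb') n.2
            simpa [mul_assoc] using this
          have := ((mem_normalizer_iff.1 hn) ⟨b, hbC⟩).2 (by rw [hP]; exact hb)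
          rw [hP] at this
          exact this
      rw [mem_centralizer_iff]
      intro b hb
      rw [hP] at hb
      exact Subtype.ext (hfix u hu hu1 _ hn' (mem_centralizer_singleton_iff.1 n.2) _ hb).symm
    set N := (MonoidHom.transferSylow P hN).ker with hNd
    have hcomp : N.IsComplement' (P : Subgroup Cu) := MonoidHom.ker_transferSylow_isComplement' P hN
    have hNodd : ¬ 2 ∣ Nat.card N := by
      rw [← hcomp.index_eq_card]
      exact P.not_dvd_index
    have hNθ : ∀ m ∈ N, (m : Y) ∈ θ u := fun m hm =>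
      mem_map_of_mem _ (Core.le_pPrimeCore (p := 2)
        (Nat.prime_two.coprime_iff_not_dvd.2 hNodd).symm hm)
    refine ⟨fun ho => ?_, ?_⟩
    · have hgC : g ∈ Cu := mem_centralizer_singleton_iff.2 hg
      refine hNθ ⟨g, hgC⟩ ?_
      rw [← QuotientGroup.eq_one_iff, ← orderOf_eq_one_iff]
      have h1 : orderOf ((⟨g, hgC⟩ : Cu) : Cu ⧸ N) ∣ orderOf (⟨g, hgC⟩ : Cu) :=
        orderOf_map_dvd (QuotientGroup.mk' N) _
      rw [Subgroup.orderOf_mk] at h1
      have h2 : orderOf ((⟨g, hgC⟩ : Cu) : Cu ⧸ N) ∣ Nat.card (P : Subgroup Cu) := by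
        rw [← hcomp.symm.index_eq_card]
        exact orderOf_dvd_natCard _
      obtain ⟨k, hk⟩ := IsPGroup.iff_card.1 P.2
      rw [hk] at h2
      obtain ⟨j, -, hj⟩ := (Nat.dvd_prime_pow Nat.prime_two).1 h2
      rcases Nat.eq_zero_or_pos j with rfl | hj0
      · simpa using hj
      · exact absurd ((hj ▸ dvd_pow_self 2 hj0.ne').trans h1) ho
    · obtain ⟨⟨m, b⟩, hmb, -⟩ := hcomp.existsUnique ⟨g, mem_centralizer_singleton_iff.2 hg⟩
      have hb : ((b : Cu) : Y) ∈ A' := by
        exact (SetLike.ext_iff.1 hP _).1 b.2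
      exact ⟨_, hb, _, hNθ m m.2, congrArg Subtype.val hmb.symm⟩
  have hθcomm : ∀ u, ∀ w ∈ θ u, w * u = u * w := fun u w hw =>
    mem_centralizer_singleton_iff.1 (hθC u hw)
  have hθord : ∀ u, ∀ w ∈ θ u, ¬ 2 ∣ orderOf w := fun u w hw => odd_orderOf_of_mem (hθodd u) hw
  obtain ⟨hWodd, -⟩ := S0217.result A' hab (fun a ha => by rw [sq]; exact hel a ha)
    (by norm_num; exact h8) θ (fun a _ _ => hθC a) (fun a _ _ => hθodd a)
    (fun a ha ha1 b hb w hw => (key a ha ha1 _ (by
      have h1 := hθcomm a w hw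
      have h2 := hab b hb a ha
      calc b * w * b⁻¹ * a = b * w * (b⁻¹ * a * b) * b⁻¹ := by group
        _ = b * w * a * b⁻¹ := by rw [mul_assoc b⁻¹ a b, ← h2, inv_mul_cancel_left]
        _ = b * (a * w) * b⁻¹ := by rw [← h1, mul_assoc b w a]
        _ = a * (b * w * b⁻¹) := by rw [← mul_assoc b a w, h2]; group)).1
      (by rw [Invol.orderOf_conj]; exact hθord a w hw))
    (fun a _ _ => S0205.result (Nat.odd_iff.2 (by have := hθodd a; omega)))
    (fun a _ _ b hb hb1 w hw => (key b hb hb1 w (mem_centralizer_singleton_iff.1 hw.2)).1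
      (hθord a w hw.1))
  set W := ⨆ a : {a : Y // a ∈ A' ∧ a ≠ 1}, θ a with hW
  have hθW : ∀ a ∈ A', a ≠ 1 → θ a ≤ W := fun a ha ha1 =>
    le_iSup (fun a : {a : Y // a ∈ A' ∧ a ≠ 1} => θ a) ⟨a, ha, ha1⟩
  -- the normalizer of the Sylow subgroup normalizes the closure
  have hNA : normalizer (A' : Set Y) ≤ normalizer (W : Set Y) := by
    have hmap : ∀ n ∈ normalizer (A' : Set Y), ∀ w ∈ W, n * w * n⁻¹ ∈ W := by
      intro n hn w hw
      have hle : W ≤ W.comap (MulAut.conj n).toMonoidHom := by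
        rw [hW]
        refine iSup_le fun a => ?_
        intro c hc
        refine hθW _ ((mem_normalizer_iff.1 hn a.1).1 a.2.1) (conj_eq_one_iff.not.2 a.2.2) ?_
        refine (key _ ((mem_normalizer_iff.1 hn a.1).1 a.2.1) (conj_eq_one_iff.not.2 a.2.2) _ ?_).1 ?_
        · show n * c * n⁻¹ * (n * a.1 * n⁻¹) = n * a.1 * n⁻¹ * (n * c * n⁻¹)
          have := hθcomm _ c hc
          calc n * c * n⁻¹ * (n * a.1 * n⁻¹) = n * (c * a.1) * n⁻¹ := by group
            _ = n * (a.1 * c) * n⁻¹ := by rw [this]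
            _ = n * a.1 * n⁻¹ * (n * c * n⁻¹) := by group
        · show ¬ 2 ∣ orderOf (n * c * n⁻¹)
          rw [Invol.orderOf_conj]
          exact hθord _ c hc
      exact hle hw
    intro n hn
    rw [mem_normalizer_iff]
    refine fun w => ⟨hmap n hn w, fun h => ?_⟩
    have := hmap n⁻¹ (inv_mem hn) _ h
    simpa [mul_assoc] using this
  have hCle : ∀ u ∈ A', u ≠ 1 → centralizer ({u} : Set Y) ≤ normalizer (W : Set Y) := by
    intro u hu hu1 g hg
    obtain ⟨a, ha, w, hw, rfl⟩ := (key u hu hu1 g (mem_centralizer_singleton_iff.1 hg)).2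
    exact mul_mem (le_normalizer (hθW u hu hu1 hw)) (hNA (le_normalizer ha))
  have hinv : ∀ u : Y, orderOf u = 2 → ∃ j, orderOf u = 2 ^ j := fun u hu => ⟨1, by simpa using hu⟩
  have hWn : normalizer (W : Set Y) = ⊤ := by
    by_contra hne
    have hAM : A' ≤ normalizer (W : Set Y) := le_trans le_normalizer hNA
    obtain ⟨t, htA, ht⟩ : ∃ t ∈ A', orderOf t = 2 :=
      Invol.exists_involution_of_ne_bot A.2 (fun h => by rw [show A' = ⊥ from h, card_bot] at h8; omega)
    have hse : IsStronglyEmbedded (normalizer (W : Set Y)) := by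
      rw [Invol.se_iff]
      refine ⟨hne, even_iff_two_dvd.2 ?_, fun t g ht htM hgM => ?_⟩
      · have := Subgroup.orderOf_dvd_natCard _ (hAM htA)
        rwa [show orderOf t = 2 from ‹_›] at this
      set M := normalizer (W : Set Y)
      let P : Sylow 2 M := A.subtype hAM
      obtain ⟨m, hm⟩ := Invol.exists_conj_mem_of_isPGroup P (x := (⟨t, htM⟩ : M))
        ⟨1, by rw [Subgroup.orderOf_mk, pow_one]; exact ht⟩
      obtain ⟨m', hm'⟩ := Invol.exists_conj_mem_of_isPGroup P (x := (⟨g⁻¹ * t * g, hgM⟩ : M))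
        ⟨1, by
          rw [Subgroup.orderOf_mk, pow_one]
          have := Invol.orderOf_conj g⁻¹ t
          rw [inv_inv] at this
          rw [this, ht]⟩
      rw [A.coe_subtype _] at hm hm'
      set a := (m : Y) * t * (m : Y)⁻¹
      set b := (m' : Y) * (g⁻¹ * t * g) * (m' : Y)⁻¹
      have ha : a ∈ A' := hm
      have hb : b ∈ A' := hm'
      have ha1 : a ≠ 1 := Invol.ne_one (by rw [Invol.orderOf_conj, ht])
      set h := (m : Y) * g * (m' : Y)⁻¹
      have hab' : h * b * h⁻¹ = a := by simp only [h, b, a]; group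
      have hmem : ∀ c, c ∈ ((h • A : Sylow 2 Y) : Subgroup Y) ↔ h⁻¹ * c * h ∈ A' := fun c => by
        rw [Sylow.coe_subgroup_smul, mem_pointwise_smul_iff_inv_smul_mem]
        simp [MulAut.smul_def, hA']
      have hle : ((h • A : Sylow 2 Y) : Subgroup Y) ≤ centralizer ({a} : Set Y) := by
        intro c hc
        rw [mem_centralizer_singleton_iff, ← hab']
        have := hab _ ((hmem c).1 hc) b hb
        calc c * (h * b * h⁻¹) = h * (h⁻¹ * c * h * b) * h⁻¹ := by group
          _ = h * (b * (h⁻¹ * c * h)) * h⁻¹ := by rw [this]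
          _ = h * b * h⁻¹ * c := by group
      obtain ⟨k, hk⟩ := MulAction.exists_smul_eq (centralizer ({a} : Set Y))
        (A.subtype (hAC a ha)) ((h • A).subtype hle)
      have hkA : ∀ c ∈ A', h⁻¹ * ((k : Y) * c * (k : Y)⁻¹) * h ∈ A' := by
        intro c hc
        have h1 : k * ⟨c, hAC a ha hc⟩ * k⁻¹ ∈
            ((h • A).subtype hle : Subgroup (centralizer ({a} : Set Y))) := by
          rw [← hk, Sylow.coe_subgroup_smul]
          exact smul_mem_pointwise_smul _ (MulAut.conj k) _ (by rw [A.coe_subtype _]; exact hc)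
        rw [Sylow.coe_subtype] at h1
        exact (hmem _).1 h1
      have hn : h⁻¹ * (k : Y) ∈ normalizer (A' : Set Y) := by
        have hle' : A'.map (MulAut.conj (h⁻¹ * (k : Y))).toMonoidHom = A' := by
          refine eq_of_le_of_card_ge ?_ ?_
          · rintro _ ⟨c, hc, rfl⟩
            have := hkA c hc
            simpa [mul_assoc] using this
          · rw [card_map_of_injective (MulEquiv.injective _)]
        rw [mem_normalizer_iff]
        intro c
        conv_rhs => rw [← hle']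
        exact (mem_map_iff_mem (f := (MulAut.conj (h⁻¹ * (k : Y))).toMonoidHom)
          (MulEquiv.injective _)).symm
      have hh : h ∈ M := by
        have := mul_mem (hCle a ha ha1 k.2) (inv_mem (hNA hn))
        simpa [mul_assoc] using this
      have := mul_mem (mul_mem (inv_mem m.2) hh) m'.2
      simpa [h, mul_assoc] using this
    exact hxy (Invol.se_isConj_all hse hx hy)
  have hWN : W.Normal := normalizer_eq_top_iff.1 hWn
  refine ⟨W, hWN, hWodd, ?_, fun c hc ho => ?_⟩
  swap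
  · obtain ⟨t, htA, ht⟩ : ∃ t ∈ A', orderOf t = 2 :=
      Invol.exists_involution_of_ne_bot A.2 (fun h => by rw [show A' = ⊥ from h, card_bot] at h8; omega)
    exact hθW t htA (Invol.ne_one ht) ((key t htA (Invol.ne_one ht) c (hc t htA)).1 ho)
  have hC : ∀ u ∈ A', u ≠ 1 → ∀ g : Y, g * u = u * g → g ∈ A' ⊔ W := by
    intro u hu hu1 g hg
    obtain ⟨a, ha, w, hw, rfl⟩ := (key u hu hu1 g hg).2
    exact mul_mem (mem_sup_right (hθW u hu hu1 hw)) (mem_sup_left ha)
  have hconjA : ∀ u : Y, orderOf u = 2 → ∃ d : Y, d * u * d⁻¹ ∈ A' := fun u hu =>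
    Invol.exists_conj_mem_of_isPGroup A (hinv u hu)
  have step : ∀ a ∈ A', ∀ u : Y, orderOf a = 2 → orderOf u = 2 → ¬ IsConj a u → u ∈ A' ⊔ W := by
    intro a ha u ha2 hu2 hau
    obtain ⟨k, -, -, hw2, hwa, hwu, -⟩ := TwoTransfer.exists_commuting_involution ha2 hu2 hau
    set w := (a * u) ^ k
    have ha1 := Invol.ne_one ha2
    let P : Sylow 2 (centralizer ({a} : Set Y)) := A.subtype (hAC a ha)
    have hwC : w ∈ centralizer ({a} : Set Y) := mem_centralizer_singleton_iff.2 hwa.eq
    obtain ⟨c, hc⟩ := Invol.exists_conj_mem_of_isPGroup P (x := ⟨w, hwC⟩)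
      ⟨1, by rw [Subgroup.orderOf_mk, pow_one]; exact hw2⟩
    rw [A.coe_subtype _] at hc
    have hc' : (c : Y) ∈ A' ⊔ W := hC a ha ha1 _ (mem_centralizer_singleton_iff.1 c.2)
    have hb : (c : Y) * w * (c : Y)⁻¹ ∈ A' := hc
    have h2 : (c : Y) * u * (c : Y)⁻¹ ∈ A' ⊔ W := by
      refine hC _ hb (Invol.ne_one (by rw [Invol.orderOf_conj]; exact hw2)) _ ?_
      calc (c : Y) * u * (c : Y)⁻¹ * (c * w * (c : Y)⁻¹) = c * (u * w) * (c : Y)⁻¹ := by group
        _ = c * (w * u) * (c : Y)⁻¹ := by rw [hwu.eq]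
        _ = c * w * (c : Y)⁻¹ * (c * u * (c : Y)⁻¹) := by group
    have := mul_mem (mul_mem (inv_mem hc') h2) hc'
    simpa [mul_assoc] using this
  intro a ha g
  by_cases ha1 : a = 1
  · subst ha1; simp
  have ha2 : orderOf (g * a * g⁻¹) = 2 := by
    rw [Invol.orderOf_conj]; exact Invol.orderOf_eq_two_iff.2 ⟨ha1, hel a ha⟩
  obtain ⟨d, hd⟩ := hconjA x hx
  obtain ⟨e, he⟩ := hconjA y hy
  have hd2 : orderOf (d * x * d⁻¹) = 2 := by rw [Invol.orderOf_conj, hx]
  have he2 : orderOf (e * y * e⁻¹) = 2 := by rw [Invol.orderOf_conj, hy]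
  by_cases h1 : IsConj (d * x * d⁻¹) (g * a * g⁻¹)
  · refine step _ he _ he2 ha2 fun h2 => hxy ?_
    exact ((isConj_iff.2 ⟨d, rfl⟩ : IsConj x _).trans (h1.trans h2.symm)).trans
      (isConj_iff.2 ⟨e, rfl⟩ : IsConj y _).symm
  · exact step _ hd _ hd2 ha2 h1

end Cfsg.Agent.M12Type
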