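import Cfsg.Agent.M12Type.Orbit
import Cfsg.Agent.M12Type.AbelSylow
import Cfsg.Agent.Core.PCore

/-!
The centralizer of the central involution modulo its core: an extension of the extraspecial group of
order 32 by the symmetric group of degree three.
-/

set_option autoImplicit false
set_option synthInstance.maxSize 2000

namespace Cfsg.Agent.M12Type

open Subgroup

/-- The cyclic permutation of the three points. -/
def cy : Fin 3 → Fin 3 := ![1, 2, 0]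

/-- The transposition of the last two points. -/
def tw : Fin 3 → Fin 3 := ![0, 2, 1]

instance (σ : Fin 3 → Fin 3) : Decidable (Function.Injective σ) :=
  decidable_of_iff (∀ i j, σ i = σ j → i = j) ⟨fun h _ _ e => h _ _ e, fun h _ _ e => h e⟩

theorem perm3 : (∀ σ : Fin 3 → Fin 3, Function.Injective σ → σ^[2] = id ∨ σ^[3] = id) ∧
    (∀ σ : Fin 3 → Fin 3, Function.Injective σ → σ^[3] = id → σ = id ∨ ∀ i, σ i ≠ i) ∧
    (∀ σ : Fin 3 → Fin 3, Function.Injective σ → (∀ i, σ i ≠ i) →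
      ∀ P : Fin 3 → Bool, (∀ i, P i = P (σ i)) → ∀ i j, P i = P j) ∧
    (∀ σ : Fin 3 → Fin 3, Function.Injective σ → σ 0 = 1 → σ = cy ∨ σ ∘ tw = cy) ∧
    (∀ σ : Fin 3 → Fin 3, Function.Injective σ →
      ∃ i : Fin 3, σ = cy^[(i : ℕ)] ∨ σ = tw ∘ cy^[(i : ℕ)]) ∧
    cy^[4] = cy ∧ cy^[3] = id ∧ tw ∘ cy ∘ tw ∘ cy = id ∧ ∀ i, cy i ≠ i := by decide +kernel

theorem a1_facts : (∃ g : ↥SM, g * a1 * g⁻¹ = a1 * zs) ∧
    (∃ g : ↥SM, g * bs * g⁻¹ = pe 2) := by decide +kernel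

theorem exists_parts {X : Type*} [Group X] [Finite X] (n : X) :
    ∃ a b : X, n = a * b ∧ IsPGroup 2 (zpowers a) ∧ ¬ 2 ∣ orderOf b ∧
      a ∈ zpowers n ∧ b ∈ zpowers n := by
  obtain ⟨k, m, hm, hkm⟩ := Nat.exists_eq_pow_mul_and_not_dvd (orderOf_pos n).ne' 2 (by norm_num)
  have hcop : Nat.Coprime (2 ^ k) m :=
    Nat.Coprime.pow_left k (Nat.prime_two.coprime_iff_not_dvd.2 hm)
  obtain ⟨u, v, huv⟩ := Int.isCoprime_iff_gcd_eq_one.2
    (show Int.gcd ((2 ^ k : ℕ) : ℤ) (m : ℤ) = 1 by rw [Int.gcd_natCast_natCast]; exact hcop)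
  refine ⟨n ^ (v * (m : ℤ)), n ^ (u * ((2 ^ k : ℕ) : ℤ)), ?_, ?_, ?_, ⟨_, rfl⟩, ⟨_, rfl⟩⟩
  · rw [← zpow_add, add_comm, huv, zpow_one]
  · have h1 : (n ^ (v * (m : ℤ))) ^ 2 ^ k = 1 := by
      rw [← zpow_natCast, ← zpow_mul, mul_assoc, ← Nat.cast_mul, mul_comm m, ← hkm, mul_comm,
        zpow_mul, zpow_natCast, pow_orderOf_eq_one, one_zpow]
    obtain ⟨j, -, hj⟩ := (Nat.dvd_prime_pow Nat.prime_two).1 (orderOf_dvd_of_pow_eq_one h1)
    exact IsPGroup.of_card (n := j) (by rw [Nat.card_zpowers, hj])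
  · have h1 : (n ^ (u * ((2 ^ k : ℕ) : ℤ))) ^ m = 1 := by
      rw [← zpow_natCast, ← zpow_mul, mul_assoc, ← Nat.cast_mul, ← hkm, mul_comm,
        zpow_mul, zpow_natCast, pow_orderOf_eq_one, one_zpow]
    exact fun h2 => hm (h2.trans (orderOf_dvd_of_pow_eq_one h1))

theorem mem_of_odd_of_index_two {X : Type*} [Group X] [Finite X] {H : Subgroup X}
    (hH : H.index = 2) {x : X} (hx : ¬ 2 ∣ orderOf x) : x ∈ H := by
  obtain ⟨j, hj⟩ : ∃ j, orderOf x = 2 * j + 1 := ⟨orderOf x / 2, by omega⟩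
  have h : x = (x ^ 2) ^ (j + 1) := by
    rw [← pow_mul, show 2 * (j + 1) = orderOf x + 1 by omega, pow_succ, pow_orderOf_eq_one, one_mul]
  rw [h]
  exact pow_mem (by rw [sq]; exact Subgroup.mul_self_mem_of_index_two hH x) _

namespace Base

variable {G : Type*} [Group G] (B : Base G)

/-- The three points. -/
def pt (i : Fin 3) : B.XZ := B.pr (pe i)

theorem pt_mem (i : Fin 3) : B.pt i ∈ B.QX := mem_map_of_mem _ (pe_facts.1 i).1

theorem pt_inj {i j : Fin 3} (h : B.pt i = B.pt j) : i = j := pe_facts.2.1 i j (B.pr_eq_iff.1 h)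

/-- The action of an element on the three points. -/
def Acts (n : B.XZ) (σ : Fin 3 → Fin 3) : Prop := ∀ i, n * B.pt i * n⁻¹ = B.pt (σ i)

variable {B}

theorem Acts.mul {n m : B.XZ} {σ τ : Fin 3 → Fin 3} (hn : B.Acts n σ) (hm : B.Acts m τ) :
    B.Acts (n * m) (σ ∘ τ) := fun i => by
  rw [show n * m * B.pt i * (n * m)⁻¹ = n * (m * B.pt i * m⁻¹) * n⁻¹ by group, hm, hn]; rfl

theorem Acts.pow {n : B.XZ} {σ : Fin 3 → Fin 3} (hn : B.Acts n σ) (k : ℕ) :
    B.Acts (n ^ k) (σ^[k]) := by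
  induction k with
  | zero => intro i; simp
  | succ k ih => rw [pow_succ, Function.iterate_succ]; exact ih.mul hn

theorem Acts.injective {n : B.XZ} {σ : Fin 3 → Fin 3} (hn : B.Acts n σ) :
    Function.Injective σ := fun i j e => B.pt_inj (by
  have h : n * B.pt i * n⁻¹ = n * B.pt j * n⁻¹ := by rw [hn, hn, e]
  exact mul_left_cancel (mul_right_cancel h))

theorem Acts.unique {n : B.XZ} {σ τ : Fin 3 → Fin 3} (hn : B.Acts n σ) (hm : B.Acts n τ) :
    σ = τ := funext fun i => B.pt_inj ((hn i).symm.trans (hm i))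

theorem acts_id_of_mem {n : B.XZ} (h : n ∈ centralizer (Set.range B.pt)) : B.Acts n id := fun i => by
  rw [← mem_centralizer_iff.1 h _ ⟨i, rfl⟩, mul_inv_cancel_right]; rfl

theorem mem_of_acts_id {n : B.XZ} (h : B.Acts n id) : n ∈ centralizer (Set.range B.pt) := by
  rw [mem_centralizer_iff]
  rintro _ ⟨i, rfl⟩
  exact (mul_inv_eq_iff_eq_mul.1 (h i)).symm

theorem Acts.div {n w : B.XZ} {σ : Fin 3 → Fin 3} (hn : B.Acts n σ) (hw : B.Acts w σ) :
    B.Acts (n * w⁻¹) id := fun i => by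
  obtain ⟨j, rfl⟩ := (Finite.injective_iff_surjective.1 hw.injective) i
  rw [show n * w⁻¹ * B.pt (σ j) * (n * w⁻¹)⁻¹ = n * (w⁻¹ * B.pt (σ j) * w) * n⁻¹ by group]
  nth_rw 1 [← hw j]
  rw [show w⁻¹ * (w * B.pt j * w⁻¹) * w = B.pt j by group, hn]
  rfl

variable (B)

theorem acts_ts : B.Acts (B.pr ts) tw := fun i => by
  rw [pt, pt, ← map_mul, ← map_inv, ← map_mul, B.pr_eq_iff]
  exact pe_facts.2.2.2.2.2.2.1 i

variable [Finite G]

/-- The normalizer of the image of `QS` permutes the three points. -/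
theorem exists_acts (h : B.Simp) (hb : IsConj B.z (B.f bs)) {n : B.XZ}
    (hn : n ∈ normalizer (B.QX : Set B.XZ)) : ∃ σ, B.Acts n σ := by
  have key : ∀ i, ∃ j, n * B.pt i * n⁻¹ = B.pt j := by
    intro i
    obtain ⟨hQ, he2, he1⟩ := pe_facts.1 i
    obtain ⟨x, hx, hxe⟩ := (mem_normalizer_iff.1 hn _).1 (B.pt_mem i)
    obtain ⟨c, hc⟩ := B.exists_lift n
    have hzi : IsConj B.z (B.f (pe i)) := by
      fin_cases i
      · exact B.z_conj_v h
      · exact hb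
      · obtain ⟨g, hg⟩ := a1_facts.2
        exact hb.trans (B.isConj_f hg)
    obtain ⟨x', hx', hxx, hx'c⟩ :
        ∃ x' ∈ QS, eqz x' x ∧ (c : G) * B.f (pe i) * (c : G)⁻¹ = B.f x' := by
      rcases B.mk_conj (c := c) (r := pe i) (s := x) (by rw [hc]; exact hxe.symm) with h' | h'
      · exact ⟨x, hx, Or.inl rfl, h'⟩
      · exact ⟨x * zs, mul_mem hx QS_facts.2.1, Or.inr rfl, h'⟩
    have hzx : IsConj B.z (B.f x') := hzi.trans (isConj_iff.2 ⟨c, hx'c⟩)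
    have hx2 : x' * x' = 1 := B.inj (by
      rw [map_mul, ← hx'c, map_one, show (c : G) * B.f (pe i) * (c : G)⁻¹ *
        ((c : G) * B.f (pe i) * (c : G)⁻¹) = c * (B.f (pe i) * B.f (pe i)) * (c : G)⁻¹ by group,
        ← map_mul, he2, map_one]
      group)
    have hx1 : ¬ eqz x' 1 := fun e => he1 (by
      rw [← B.pr_eq_one_iff] at e ⊢
      rw [B.pr_eq_iff.2 hxx, hxe, conj_eq_one_iff] at e
      exact e)
    by_cases hg : ∃ g : ↥SM, g * x' * g⁻¹ ∈ [vs, bs, a2]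
    · obtain ⟨g, hg⟩ := hg
      simp only [List.mem_cons, List.not_mem_nil, or_false] at hg
      have hg' : g * x' * g⁻¹ ∈ [vs, bs] := by
        rcases hg with hg | hg | hg
        · simp [hg]
        · simp [hg]
        · exact absurd (hzx.trans (B.isConj_f hg)) ((B.b_or_a2 h).1 hb)
      obtain ⟨j, hj⟩ := pe_facts.2.2.1 x' hx' hx2 ⟨g, hg'⟩
      refine ⟨j, ?_⟩
      show n * B.pr (pe i) * n⁻¹ = B.pr (pe j)
      rw [← B.pr_eq_iff.2 hj, B.pr_eq_iff.2 hxx, hxe]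
      rfl
    · simp only [not_exists] at hg
      obtain ⟨l, hl, hle⟩ := L_facts.1 x' hx' hx2 hx1 hg
      obtain ⟨-, g, hgl⟩ := L_facts.2.2.1 l hl
      simp only [List.mem_cons, List.not_mem_nil, or_false] at hgl
      obtain ⟨e, he⟩ := a1_facts.1
      obtain ⟨hn1, hn3⟩ := B.not_conj_a h
      rcases hle with hle | hle
      · rw [hle] at hzx
        rcases hgl with hgl | hgl
        · exact absurd (hzx.trans (B.isConj_f hgl)) hn1
        · exact absurd (hzx.trans (B.isConj_f hgl)) hn3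
      · rw [hle] at hzx
        have hgz : g * (l * zs) * g⁻¹ = g * l * g⁻¹ * zs := by
          rw [← mul_assoc, mul_assoc (g * l) zs, ← zs_facts.2.2.1, ← mul_assoc]
        rcases hgl with hgl | hgl
        · exact absurd ((hzx.trans (B.isConj_f (hgz.trans (by rw [hgl])))).trans
            (B.isConj_f he).symm) hn1
        · obtain ⟨e', he'⟩ := (show ∃ g : ↥SM, g * a3 * g⁻¹ = a3 * zs by decide +kernel)
          exact absurd ((hzx.trans (B.isConj_f (hgz.trans (by rw [hgl])))).trans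
            (B.isConj_f he').symm) hn3
  exact ⟨fun i => (key i).choose, fun i => (key i).choose_spec⟩

/-- Commuting with the three points is preserved. -/
theorem pattern {n : B.XZ} {σ : Fin 3 → Fin 3} (hn : B.Acts n σ) {q r : ↥SM}
    (hqr : n * B.pr q * n⁻¹ = B.pr r) (i : Fin 3) :
    q * pe i = pe i * q ↔ r * pe (σ i) = pe (σ i) * r := by
  obtain ⟨c, hc⟩ := B.exists_lift n
  obtain ⟨q', e1, h1⟩ : ∃ q', eqz q' r ∧ (c : G) * B.f q * (c : G)⁻¹ = B.f q' := by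
    rcases B.mk_conj (c := c) (r := q) (s := r) (by rw [hc]; exact hqr) with h | h
    exacts [⟨r, Or.inl rfl, h⟩, ⟨r * zs, Or.inr rfl, h⟩]
  obtain ⟨p', e2, h2⟩ : ∃ p', eqz p' (pe (σ i)) ∧ (c : G) * B.f (pe i) * (c : G)⁻¹ = B.f p' := by
    rcases B.mk_conj (c := c) (r := pe i) (s := pe (σ i)) (by rw [hc]; exact hn i) with h | h
    exacts [⟨_, Or.inl rfl, h⟩, ⟨_, Or.inr rfl, h⟩]
  have step : q * pe i = pe i * q ↔ q' * p' = p' * q' := by
    rw [← B.inj.eq_iff, ← B.inj.eq_iff (a := q' * p'), map_mul, map_mul, map_mul, map_mul, ← h1, ← h2,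
      show (c : G) * B.f q * (c : G)⁻¹ * ((c : G) * B.f (pe i) * (c : G)⁻¹) =
        c * (B.f q * B.f (pe i)) * (c : G)⁻¹ by group,
      show (c : G) * B.f (pe i) * (c : G)⁻¹ * ((c : G) * B.f q * (c : G)⁻¹) =
        c * (B.f (pe i) * B.f q) * (c : G)⁻¹ by group, mul_left_inj, mul_right_inj]
  have hz : ∀ a b : ↥SM, (a * zs) * b = b * (a * zs) ↔ a * b = b * a := by
    intro a b
    rw [mul_assoc, ← zs_facts.2.2.1 b, ← mul_assoc, ← mul_assoc, mul_left_inj]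
  have hz' : ∀ a b : ↥SM, a * (b * zs) = (b * zs) * a ↔ a * b = b * a := by
    intro a b
    rw [eq_comm, hz, eq_comm]
  rw [step]
  rcases e1 with rfl | rfl <;> rcases e2 with rfl | rfl
  · exact Iff.rfl
  · exact hz' _ _
  · exact hz _ _
  · rw [hz, hz']

theorem acts_fpf {n : B.XZ} {σ : Fin 3 → Fin 3} (hn : B.Acts n σ) (hσ : ∀ i, σ i ≠ i) {q : ↥SM}
    (hq : q ∈ QS) (hfix : n * B.pr q * n⁻¹ = B.pr q) : B.pr q = 1 := by
  have hc := perm3.2.2.1 σ hn.injective hσ (fun i => decide (q * pe i = pe i * q))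
    (fun i => decide_eq_decide.2 (B.pattern hn hfix i))
  rcases pe_facts.2.2.2.1 q hq (fun i j => decide_eq_decide.1 (hc i j)) with h | ⟨i, h⟩
  · exact B.pr_eq_one_iff.2 h
  · exfalso
    rw [B.pr_eq_iff.2 h] at hfix
    exact hσ i (B.pt_inj ((hn i).symm.trans hfix))

/-- An element of odd order fixing the three points centralizes the image of `QS`. -/
theorem acts_id_cent {n : B.XZ} (hN : n ∈ normalizer (B.QX : Set B.XZ)) (hn : B.Acts n id)
    (ho : ¬ 2 ∣ orderOf n) : ∀ x ∈ B.QX, Commute n x := by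
  rintro _ ⟨q, hq, rfl⟩
  obtain ⟨r, hr, hre⟩ := (mem_normalizer_iff.1 hN _).1 (mem_map_of_mem B.pr hq)
  rcases pe_facts.2.2.2.2.1 q hq r hr (fun i => B.pattern hn hre.symm i) with h | ⟨i, h⟩
  · exact mul_inv_eq_iff_eq_mul.1 (hre.symm.trans (B.pr_eq_iff.2 h))
  · exfalso
    have h1 : n * B.pr q * n⁻¹ = B.pr q * B.pt i := by
      rw [← hre, B.pr_eq_iff.2 h, map_mul]; rfl
    have hk : ∀ k : ℕ, n ^ k * B.pr q * (n ^ k)⁻¹ = B.pr q * B.pt i ^ k := by
      intro k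
      induction k with
      | zero => simp
      | succ k ih =>
        have hi : n ^ k * B.pt i * (n ^ k)⁻¹ = B.pt i := by
          have := hn.pow k i
          rwa [Function.iterate_id] at this
        rw [pow_succ, show n ^ k * n * B.pr q * (n ^ k * n)⁻¹ =
          n ^ k * (n * B.pr q * n⁻¹) * (n ^ k)⁻¹ by group, h1,
          show n ^ k * (B.pr q * B.pt i) * (n ^ k)⁻¹ =
            n ^ k * B.pr q * (n ^ k)⁻¹ * (n ^ k * B.pt i * (n ^ k)⁻¹) by group, ih, hi, mul_assoc,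
          ← pow_succ]
    have h2 := hk (orderOf n)
    obtain ⟨j, hj⟩ : ∃ j, orderOf n = 2 * j + 1 := ⟨orderOf n / 2, by omega⟩
    rw [pow_orderOf_eq_one, hj, pow_succ, pow_mul, sq (B.pt i), B.QX_sq _ (B.pt_mem i), one_pow,
      one_mul, one_mul, inv_one, mul_one, left_eq_mul] at h2
    exact (pe_facts.1 i).2.2 (B.pr_eq_one_iff.1 h2)

theorem odd_acts {n : B.XZ} {σ : Fin 3 → Fin 3} (hn : B.Acts n σ) (ho : ¬ 2 ∣ orderOf n) :
    σ = id ∨ ∀ i, σ i ≠ i := by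
  have hm : σ^[orderOf n] = id := by
    refine (hn.pow (orderOf n)).unique fun i => ?_
    rw [pow_orderOf_eq_one]; simp
  rcases perm3.1 σ hn.injective with h | h
  · left
    obtain ⟨j, hj⟩ : ∃ j, orderOf n = 2 * j + 1 := ⟨orderOf n / 2, by omega⟩
    rwa [hj, Function.iterate_succ, Function.iterate_mul, h, Function.iterate_id,
      Function.id_comp] at hm
  · exact perm3.2.1 σ hn.injective h

/-- The odd core of the quotient: odd elements centralizing the image of `QS`, and normality. -/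
theorem core_facts (h : B.Simp) (hb : IsConj B.z (B.f bs)) :
    (∀ c : B.XZ, (∀ x ∈ B.QX, Commute c x) → ¬ 2 ∣ orderOf c → c ∈ pPrimeCore 2 B.XZ) ∧
    ∀ g : B.XZ, ∃ o ∈ pPrimeCore 2 B.XZ, ∃ n ∈ normalizer (B.QX : Set B.XZ), g = o * n := by
  have : Fact (Nat.Prime 2) := ⟨Nat.prime_two⟩
  obtain ⟨Y, A, hY, hYi, hQY, hA, htY⟩ := B.exists_Y
  have memA : ∀ a : Y, a ∈ A ↔ (a : B.XZ) ∈ B.QX := fun a => by
    show a ∈ (A : Subgroup Y) ↔ _
    rw [hA]; rfl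
  have hfix : ∀ u ∈ A, u ≠ 1 → ∀ n ∈ normalizer ((A : Subgroup Y) : Set Y), Commute n u →
      ∀ a ∈ A, Commute n a := by
    intro u hu hu1 n hn hnu a ha
    have hN : (n : B.XZ) ∈ normalizer (B.QX : Set B.XZ) := mem_normalizer_of_le fun x hx =>
      (memA _).1 ((mem_normalizer_iff.1 hn ⟨x, hQY hx⟩).1 ((memA ⟨x, hQY hx⟩).2 hx))
    obtain ⟨p, q, rfl, hp, hq, hpn, hqn⟩ := exists_parts n
    have hq' : ¬ 2 ∣ orderOf (q : B.XZ) := by rwa [Subgroup.orderOf_coe]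
    have hqN' : q ∈ normalizer ((A : Subgroup Y) : Set Y) := zpowers_le.2 hn hqn
    have hqN : (q : B.XZ) ∈ normalizer (B.QX : Set B.XZ) := mem_normalizer_of_le fun x hx =>
      (memA _).1 ((mem_normalizer_iff.1 hqN' ⟨x, hQY hx⟩).1 ((memA ⟨x, hQY hx⟩).2 hx))
    obtain ⟨σ, hσ⟩ := B.exists_acts h hb hqN
    have hqu : Commute q u := by
      obtain ⟨k, hk⟩ := hqn
      have := hnu.zpow_left k
      rwa [show (p * q) ^ k = q from hk] at this
    have hqa : Commute q a := by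
      rcases B.odd_acts hσ hq' with rfl | hfp
      · exact Subtype.ext (B.acts_id_cent hqN hσ hq' _ ((memA a).1 ha)).eq
      · exfalso
        obtain ⟨r, hr, hre⟩ := (memA u).1 hu
        refine hu1 (Subtype.ext (hre.symm.trans (B.acts_fpf hσ hfp hr ?_)))
        rw [hre, mul_inv_eq_iff_eq_mul]
        exact congrArg Subtype.val hqu.eq
    have hpN : p ∈ normalizer ((A : Subgroup Y) : Set Y) := zpowers_le.2 hn hpn
    obtain ⟨c, hcN, hc⟩ := sylow_conj_into A le_normalizer hp (zpowers_le.2 hpN)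
    have hpA : p ∈ (A : Subgroup Y) := (mem_normalizer_iff.1 hcN p).2 (hc p (mem_zpowers p))
    have hpa : Commute p a :=
      Subtype.ext (B.QX_comm _ ((memA p).1 hpA) _ ((memA a).1 ha))
    exact hpa.mul_left hqa
  have hv : B.pr vs ∈ B.QX := mem_map_of_mem _ v_facts.2.2.2.2.2.1
  have ha : B.pr a1 ∈ B.QX := mem_map_of_mem _ (four_facts a1 (by simp)).2.2.2.1
  have ho : ∀ r : ↥SM, r ∈ QS → ¬ eqz r 1 → ∀ hr : B.pr r ∈ Y, orderOf (⟨B.pr r, hr⟩ : Y) = 2 := by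
    intro r hrQ hr1 hr
    rw [Subgroup.orderOf_mk, Invol.orderOf_eq_two_iff]
    exact ⟨fun e => hr1 (B.pr_eq_one_iff.1 e), B.pr_sq hrQ⟩
  have hne : ¬ IsConj (⟨B.pr vs, hQY hv⟩ : Y) ⟨B.pr a1, hQY ha⟩ := by
    intro hc
    obtain ⟨g, hg⟩ := isConj_iff.1 hc
    obtain ⟨c, hc'⟩ := B.exists_lift (g : B.XZ)
    have hzv := B.z_conj_v h
    obtain ⟨e, he⟩ := a1_facts.1
    rcases B.mk_conj (c := c) (r := vs) (s := a1)
      (by rw [hc']; exact congrArg Subtype.val hg) with h' | h'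
    · exact (B.not_conj_a h).1 (hzv.trans (isConj_iff.2 ⟨c, h'⟩))
    · exact (B.not_conj_a h).1 ((hzv.trans (isConj_iff.2 ⟨c, h'⟩)).trans (B.isConj_f he).symm)
  have h1 : ∀ r : ↥SM, r = vs ∨ r = a1 → ¬ eqz r 1 := by decide +kernel
  obtain ⟨W, hW, hWodd, hWconj, hWc⟩ := abel_normal A
    (fun a ha b hb => Subtype.ext (B.QX_comm _ ((memA a).1 ha) _ ((memA b).1 hb)))
    (fun a ha => Subtype.ext (B.QX_sq _ ((memA a).1 ha)))
    (by rw [hA, Nat.card_congr (subgroupOfEquivOfLe hQY).toEquiv, B.card_QX]; norm_num)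
    hfix (ho vs v_facts.2.2.2.2.2.1 (h1 _ (Or.inl rfl)) _)
    (ho a1 (four_facts a1 (by simp)).2.2.2.1 (h1 _ (Or.inr rfl)) _) hne
  set O := pPrimeCore 2 B.XZ
  have : O.Normal := Core.pPrimeCore_normal
  have hWO : W.map Y.subtype ≤ O := by
    have h2 : W ≤ pPrimeCore 2 Y :=
      Core.le_pPrimeCore (Nat.prime_two.coprime_iff_not_dvd.2 hWodd).symm
    exact (map_mono h2).trans ((Core.map_pPrimeCore_normal Y).le.trans inf_le_left)
  refine ⟨fun c hc hco => ?_, fun g => ?_⟩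
  · have hcY : c ∈ Y := mem_of_odd_of_index_two hYi hco
    exact hWO ⟨⟨c, hcY⟩, hWc _ (fun a ha => Subtype.ext (hc _ ((memA a).1 ha)).eq)
      (by rwa [Subgroup.orderOf_mk]), rfl⟩
  set L := B.QX ⊔ O
  have hL : ∀ g ∈ Y, ∀ x ∈ B.QX, g * x * g⁻¹ ∈ L := by
    intro g hg x hx
    have h2 := hWconj ⟨x, hQY hx⟩ ((memA _).2 hx) ⟨g, hg⟩
    have h3 := mem_map_of_mem Y.subtype h2
    rw [Subgroup.map_sup, hA] at h3
    exact (sup_le_sup (subgroupOf_map_subtype B.QX Y ▸ inf_le_left) hWO) h3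
  have hL' : ∀ x ∈ B.QX, g * x * g⁻¹ ∈ L := by
    intro x hx
    by_cases hg : g ∈ Y
    · exact hL g hg x hx
    · have hg' : g * (B.pr ts)⁻¹ ∈ Y :=
        (Subgroup.mul_mem_iff_of_index_two hYi).2
          ⟨fun h' => absurd h' hg, fun h' => absurd (inv_mem_iff.1 h') htY⟩
      have := hL _ hg' (B.pr ts * x * (B.pr ts)⁻¹)
        ((mem_normalizer_iff.1 (B.pr_range_le_normalizer ⟨ts, rfl⟩) x).1 hx)
      simpa [mul_assoc] using this
  have hOY : ∀ x ∈ O, x ∈ Y := fun x hx => mem_of_odd_of_index_two hYi fun h2 =>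
    Core.not_dvd_card_pPrimeCore (p := 2) (h2.trans (Subgroup.orderOf_dvd_natCard O hx))
  have hLY : L ≤ Y := sup_le hQY hOY
  set T := B.QX.map (MulAut.conj g).toMonoidHom
  have hTY : T ≤ Y := by
    rintro _ ⟨q, hq, rfl⟩
    exact hY.conj_mem q (hQY hq) g
  have hTp : IsPGroup 2 (T.subgroupOf Y) := IsPGroup.of_card (n := 4) (by
    rw [Nat.card_congr (subgroupOfEquivOfLe hTY).toEquiv,
      card_map_of_injective (K := B.QX) (f := (MulAut.conj g).toMonoidHom) (MulAut.conj g).injective,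
      B.card_QX]; norm_num)
  obtain ⟨c, hcL, hc⟩ := sylow_conj_into A (H := L.subgroupOf Y)
    (fun a ha => mem_sup_left ((memA a).1 ha)) hTp (fun t ht => by
      obtain ⟨q, hq, hqe⟩ := ht
      have h' := hL' q hq
      rw [show g * q * g⁻¹ = (t : B.XZ) from hqe] at h'
      exact mem_subgroupOf.2 h')
  have hn : (c : B.XZ) * g ∈ normalizer (B.QX : Set B.XZ) := mem_normalizer_of_le fun q hq => by
    have h' := (memA _).1 (hc ⟨g * q * g⁻¹, hTY ⟨q, hq, rfl⟩⟩ (mem_subgroupOf.2 ⟨q, hq, rfl⟩))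
    rw [show (c : B.XZ) * g * q * ((c : B.XZ) * g)⁻¹ =
      (c : B.XZ) * (g * q * g⁻¹) * (c : B.XZ)⁻¹ by group]
    exact h'
  obtain ⟨q, hq, o, ho', hqo⟩ := mem_sup_of_normal_right.1 (inv_mem (mem_subgroupOf.1 hcL))
  refine ⟨q * o * q⁻¹, ‹O.Normal›.conj_mem o ho' q, q * ((c : B.XZ) * g),
    mul_mem (le_normalizer hq) hn, ?_⟩
  rw [show q * o * q⁻¹ * (q * ((c : B.XZ) * g)) = q * o * ((c : B.XZ) * g) by group, hqo]
  group

/-- An element of the normalizer fixing the three points. -/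
theorem acts_id_mem (h : B.Simp) (hb : IsConj B.z (B.f bs)) {n : B.XZ}
    (hN : n ∈ normalizer (B.QX : Set B.XZ)) (hn : B.Acts n id) :
    ∃ q ∈ QS, ∃ o ∈ pPrimeCore 2 B.XZ, n = B.pr q * o := by
  obtain ⟨a, b, rfl, ha, hbo, han, hbn⟩ := exists_parts n
  have hbO := (B.core_facts h hb).1 b (B.acts_id_cent (zpowers_le.2 hN hbn)
    (acts_id_of_mem (zpowers_le.2 (mem_of_acts_id hn) hbn)) hbo) hbo
  obtain ⟨S, hS⟩ := B.exists_sylow
  have haN : a ∈ normalizer (B.QX : Set B.XZ) := zpowers_le.2 hN han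
  obtain ⟨d, hdN, hd⟩ := sylow_conj_into S (hS.le.trans B.pr_range_le_normalizer) ha
    (zpowers_le.2 haN)
  obtain ⟨s, hs⟩ := (hS ▸ hd a (mem_zpowers a) : d * a * d⁻¹ ∈ B.pr.range)
  obtain ⟨σ, hσ⟩ := B.exists_acts h hb hdN
  have haid : B.Acts a id := acts_id_of_mem (zpowers_le.2 (mem_of_acts_id hn) han)
  have hsQ : s ∈ QS := by
    refine pe_facts.2.2.2.2.2.1 s fun i => B.pr_eq_iff.1 ?_
    obtain ⟨j, rfl⟩ := (Finite.injective_iff_surjective.1 hσ.injective) i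
    rw [map_mul, map_mul, map_inv, hs, ← hσ.unique hσ]
    show d * a * d⁻¹ * B.pt (σ j) * (d * a * d⁻¹)⁻¹ = B.pt (σ j)
    nth_rw 1 [← hσ j]
    rw [show d * a * d⁻¹ * (d * B.pt j * d⁻¹) * (d * a * d⁻¹)⁻¹ =
      d * (a * B.pt j * a⁻¹) * d⁻¹ by group, haid j]
    exact hσ j
  obtain ⟨q, hq, hqe⟩ : ∃ q ∈ QS, B.pr q = a := by
    have hQ : a ∈ B.QX := (mem_normalizer_iff.1 hdN a).2 (hs ▸ mem_map_of_mem _ hsQ)
    obtain ⟨q, hq, he⟩ := hQ
    exact ⟨q, hq, he⟩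
  exact ⟨q, hq, b, hbO, by rw [hqe]⟩

/-- Lifting the odd core. -/
theorem lift_core : (∀ c : B.CZ, (c : B.XZ) ∈ pPrimeCore 2 B.XZ → ¬ 2 ∣ orderOf c →
      (c : G) ∈ centralizerPPrimeCore 2 B.z) ∧
    ∀ c : B.CZ, (c : B.XZ) ∈ pPrimeCore 2 B.XZ →
      ∃ o ∈ centralizerPPrimeCore 2 B.z, ∃ s ∈ [1, zs], (c : G) = o * B.f s := by
  have : Fact (Nat.Prime 2) := ⟨Nat.prime_two⟩
  set O := pPrimeCore 2 B.XZ
  have hOn : O.Normal := Core.pPrimeCore_normal
  set P0 := O.comap (QuotientGroup.mk' B.NZ)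
  have hP0 : P0.Normal := hOn.comap _
  let r : P0 →* B.XZ := (QuotientGroup.mk' B.NZ).comp P0.subtype
  have hrange : r.range = O := by
    ext x
    constructor
    · rintro ⟨c, rfl⟩; exact c.2
    · intro hx
      obtain ⟨c, rfl⟩ := QuotientGroup.mk'_surjective B.NZ x
      exact ⟨⟨c, hx⟩, rfl⟩
  have hker : r.ker.index = Nat.card O := by rw [Subgroup.index_ker, hrange]
  have hzP : B.fc zs ∈ P0 := by
    show ((B.fc zs : B.CZ) : B.XZ) ∈ O
    rw [show ((B.fc zs : B.CZ) : B.XZ) = B.pr zs from rfl, B.pr_zs]; exact one_mem _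
  have hk2 : Nat.card r.ker = 2 := by
    rw [Nat.card_eq_two_iff]
    refine ⟨1, ⟨⟨B.fc zs, hzP⟩, B.pr_zs⟩, fun e => zs_facts.1 (B.inj ?_), ?_⟩
    · rw [map_one]
      exact (congrArg (fun w : r.ker => (((w : P0) : B.CZ) : G)) e).symm
    · refine Set.eq_univ_of_forall fun x => ?_
      rcases B.mem_NZ.1 ((QuotientGroup.eq_one_iff _).1 x.2) with e | e
      · exact Or.inl (Subtype.ext (Subtype.ext (Subtype.ext e)))
      · exact Or.inr (Subtype.ext (Subtype.ext (Subtype.ext e)))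
  have hOodd : ¬ 2 ∣ Nat.card O := Core.not_dvd_card_pPrimeCore
  obtain ⟨H, hH⟩ := Subgroup.exists_right_complement'_of_coprime (N := r.ker)
    (by rw [hk2, hker]; exact Nat.prime_two.coprime_iff_not_dvd.2 hOodd)
  have hHodd : ¬ 2 ∣ Nat.card H := by
    rw [← hH.symm.index_eq_card]
    exact hker ▸ hOodd
  have hHi : H.index = 2 := hH.index_eq_card.trans hk2
  have hin : ∀ c : P0, ¬ 2 ∣ orderOf c → c ∈ H := fun c hc => mem_of_odd_of_index_two hHi hc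
  set K := H.map P0.subtype
  have hKn : K.Normal := ⟨by
    rintro _ ⟨c, hc, rfl⟩ g
    refine ⟨⟨g * c * g⁻¹, hP0.conj_mem _ c.2 g⟩, hin _ ?_, rfl⟩
    rw [Subgroup.orderOf_mk, Invol.orderOf_conj, Subgroup.orderOf_coe]
    exact fun h2 => hHodd (h2.trans (Subgroup.orderOf_dvd_natCard H hc))⟩
  have hK : ∀ c : P0, c ∈ H → ((c : B.CZ) : G) ∈ centralizerPPrimeCore 2 B.z := fun c hc =>
    mem_map_of_mem _ (Core.le_pPrimeCore (p := 2) (N := K) (by
      rw [card_map_of_injective P0.subtype_injective]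
      exact (Nat.prime_two.coprime_iff_not_dvd.2 hHodd).symm) ⟨c, hc, rfl⟩)
  refine ⟨fun c hc ho => hK ⟨c, hc⟩ (hin _ (by rw [← Subgroup.orderOf_coe]; exact ho)), fun c hc => ?_⟩
  by_cases hcH : (⟨c, hc⟩ : P0) ∈ H
  · exact ⟨c, hK _ hcH, 1, by simp, by rw [map_one, mul_one]⟩
  · have hzH : (⟨B.fc zs, hzP⟩ : P0) ∉ H := fun hzH => hHodd (by
      refine dvd_trans (dvd_of_eq ?_) (Subgroup.orderOf_dvd_natCard H hzH)
      rw [Subgroup.orderOf_mk, ← Subgroup.orderOf_coe]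
      exact B.orderOf_z.symm)
    have h2 := (Subgroup.mul_mem_iff_of_index_two hHi (a := (⟨c, hc⟩ : P0)) (b := ⟨B.fc zs, hzP⟩)).2
      ⟨fun h' => absurd h' hcH, fun h' => absurd h' hzH⟩
    refine ⟨(c : G) * B.z, hK _ h2, zs, by simp, ?_⟩
    rw [show B.f zs = B.z from rfl, mul_assoc, Invol.mul_self_eq_one B.orderOf_z, mul_one]

/-- The structure of the centralizer of the central involution modulo its core. -/
theorem cent (h : B.Simp) (hb : IsConj B.z (B.f bs)) : B.Cent := by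
  have : Fact (Nat.Prime 2) := ⟨Nat.prime_two⟩
  have hbs : bs ∈ QS := (four_facts bs (by simp)).2.2.2.1
  obtain ⟨c, hc, hce⟩ := B.conj_b h hb
  obtain ⟨n0, hn0, hn0e⟩ := B.burnside v_facts.2.2.2.2.2.1 hbs
    (g := ((⟨c, mem_centralizer_singleton_iff.2 hc.eq⟩ : B.CZ) : B.XZ))
    (B.mk_eq_pr_iff.2 (Or.inl hce))
  obtain ⟨σ, hσ⟩ := B.exists_acts h hb hn0
  have hσ0 : σ 0 = 1 := B.pt_inj ((hσ 0).symm.trans hn0e)
  obtain ⟨n, hnN, hn⟩ : ∃ n ∈ normalizer (B.QX : Set B.XZ), B.Acts n cy := by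
    rcases perm3.2.2.2.1 σ hσ.injective hσ0 with e | e
    · exact ⟨n0, hn0, e ▸ hσ⟩
    · exact ⟨n0 * B.pr ts, mul_mem hn0 (B.pr_range_le_normalizer ⟨ts, rfl⟩), e ▸ hσ.mul B.acts_ts⟩
  obtain ⟨k, m, hm, hkm⟩ := Nat.exists_eq_pow_mul_and_not_dvd (orderOf_pos n).ne' 2 (by norm_num)
  obtain ⟨y, hy⟩ : ∃ y, y = n ^ 4 ^ k := ⟨_, rfl⟩
  have hyN : y ∈ normalizer (B.QX : Set B.XZ) := hy ▸ pow_mem hnN _
  have hcy : ∀ j : ℕ, cy^[4 ^ j] = cy := fun j => by
    induction j with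
    | zero => rfl
    | succ j ih => rw [pow_succ, Function.iterate_mul, ih]; exact perm3.2.2.2.2.2.1
  have hya : B.Acts y cy := by
    have h4 := hn.pow (4 ^ k)
    rw [hcy k] at h4
    exact hy ▸ h4
  have hyo : ¬ 2 ∣ orderOf y := by
    have h1 : y ^ m = 1 := by
      rw [hy, ← pow_mul, show 4 ^ k * m = 2 ^ k * (2 ^ k * m) by
        rw [← mul_assoc, ← mul_pow]; norm_num, ← hkm, mul_comm, pow_mul, pow_orderOf_eq_one, one_pow]
    exact fun h2 => hm (h2.trans (orderOf_dvd_of_pow_eq_one h1))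
  obtain ⟨c0, hc0⟩ := B.exists_lift y
  obtain ⟨a, x, hax, ha, hxo, han, -⟩ := exists_parts c0
  have hx : (x : B.XZ) = y := by
    have hone : (a : B.XZ) = 1 := by
      obtain ⟨j, hj⟩ := han
      obtain ⟨i, hi⟩ := IsPGroup.iff_card.1 ha
      have h1 : orderOf (a : B.XZ) ∣ 2 ^ i := by
        rw [← hi, Nat.card_zpowers]; exact orderOf_map_dvd (QuotientGroup.mk' B.NZ) a
      have h2 : orderOf (a : B.XZ) ∣ orderOf y := by
        have hj' : c0 ^ j = a := hj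
        rw [← hj', QuotientGroup.mk_zpow, hc0]
        exact orderOf_dvd_of_mem_zpowers ⟨j, rfl⟩
      rw [← orderOf_eq_one_iff]
      exact Nat.eq_one_of_dvd_coprimes (Nat.Coprime.pow_left i
        (Nat.prime_two.coprime_iff_not_dvd.2 hyo)) h1 h2
    rw [← hc0, hax, QuotientGroup.mk_mul, hone, one_mul]
  obtain ⟨hO1, hO2⟩ := B.core_facts h hb
  obtain ⟨hl1, hl2⟩ := B.lift_core
  have hOn : (pPrimeCore 2 B.XZ).Normal := Core.pPrimeCore_normal
  have hy3 : y ^ 3 ∈ pPrimeCore 2 B.XZ := by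
    have h3 : B.Acts (y ^ 3) id := by
      have := hya.pow 3
      rwa [perm3.2.2.2.2.2.2.1] at this
    have ho : ¬ 2 ∣ orderOf (y ^ 3) := fun h2 => hyo (h2.trans (orderOf_pow_dvd 3))
    exact hO1 _ (B.acts_id_cent (pow_mem hyN 3) h3 ho) ho
  have absorb : ∀ {u : G} {q : ↥SM}, q ∈ QS → (u = B.f q ∨ u = B.f (q * zs)) →
      ∃ q' ∈ QS, u = B.f q' := by
    rintro u q hq (e | e)
    exacts [⟨q, hq, e⟩, ⟨q * zs, mul_mem hq QS_facts.2.1, e⟩]
  refine ⟨⟨(x : G), mem_centralizer_singleton_iff.1 x.2, ?_, ?_, ?_, ?_, ?_, ?_⟩, B.conj_b h hb, ?_,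
    (B.not_conj_a h).1⟩
  · refine hl1 (x ^ 3) (by rw [QuotientGroup.mk_pow, hx]; exact hy3) ?_
    exact fun h2 => hxo (h2.trans (orderOf_pow_dvd 3))
  · intro q hq
    obtain ⟨r, hr, hre⟩ := (mem_normalizer_iff.1 hyN _).1 (mem_map_of_mem B.pr hq)
    exact absorb hr (B.mk_conj (c := x) (r := q) (s := r) (by rw [hx]; exact hre.symm))
  · intro q hq hfix
    have hy' : y * B.pr q * y⁻¹ = B.pr q := by
      rw [← hx]; exact B.mk_eq_pr_iff.2 (Or.inl hfix)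
    rcases B.pr_eq_one_iff.1 (B.acts_fpf hya perm3.2.2.2.2.2.2.2.2 hq hy') with e | e
    · exact Or.inl e
    · exact Or.inr (e.trans (one_mul zs))
  · intro q hq
    obtain ⟨hqQ, e | ⟨i, e⟩⟩ := ES_facts.1 q hq
    · refine ⟨q, hq, ?_⟩
      have hxz : Commute (x : G) (B.f q) := by
        rcases e with rfl | rfl
        · rw [map_one]; exact Commute.one_right _
        · rw [map_mul, map_one, one_mul]
          exact mem_centralizer_singleton_iff.1 x.2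
      rw [hxz.eq, mul_inv_cancel_right]
    · have h' : y * B.pr q * y⁻¹ = B.pr (pe (cy i)) := by rw [B.pr_eq_iff.2 e]; exact hya i
      rcases B.mk_conj (c := x) (r := q) (s := pe (cy i)) (by rw [hx]; exact h') with e' | e'
      · exact ⟨_, (ES_facts.2.1 _).1, e'⟩
      · exact ⟨_, (ES_facts.2.1 _).2, e'⟩
  · set τ := B.pr ts
    have hτ : τ⁻¹ = τ := inv_eq_of_mul_eq_one_right (by rw [← map_mul, t_facts.1, map_one])
    have hτN : τ ∈ normalizer (B.QX : Set B.XZ) := B.pr_range_le_normalizer ⟨ts, rfl⟩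
    have hid : B.Acts (τ * y * τ * y) id := by
      have := ((B.acts_ts.mul hya).mul B.acts_ts).mul hya
      rwa [show ((tw ∘ cy) ∘ tw) ∘ cy = id from perm3.2.2.2.2.2.2.2.1] at this
    obtain ⟨q, hq, o, ho, he⟩ := B.acts_id_mem h hb
      (mul_mem (mul_mem (mul_mem hτN hyN) hτN) hyN) hid
    let tc : B.CZ := B.fc ts
    let qc : B.CZ := B.fc q
    have hmk : ((tc * x * tc⁻¹ * (qc * x ^ 2)⁻¹ : B.CZ) : B.XZ) ∈ pPrimeCore 2 B.XZ := by
      rw [QuotientGroup.mk_mul, QuotientGroup.mk_mul, QuotientGroup.mk_mul, QuotientGroup.mk_inv,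
        QuotientGroup.mk_inv, QuotientGroup.mk_mul, QuotientGroup.mk_pow, hx]
      show τ * y * τ⁻¹ * (B.pr q * y ^ 2)⁻¹ ∈ _
      rw [hτ, show τ * y * τ * (B.pr q * y ^ 2)⁻¹ =
        τ * y * τ * y * (y ^ 3)⁻¹ * (B.pr q)⁻¹ by group, he,
        show B.pr q * o * (y ^ 3)⁻¹ * (B.pr q)⁻¹ = B.pr q * (o * (y ^ 3)⁻¹) * (B.pr q)⁻¹ by group]
      exact hOn.conj_mem _ (mul_mem ho (inv_mem hy3)) _
    obtain ⟨o', ho', s, hs, hoe⟩ := hl2 _ hmk
    have hsQ : s * q ∈ QS := by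
      refine mul_mem ?_ hq
      simp only [List.mem_cons, List.not_mem_nil, or_false] at hs
      rcases hs with rfl | rfl
      exacts [one_mem _, QS_facts.2.1]
    refine ⟨o', ho', s * q, hsQ, ?_⟩
    have hoe' : B.f ts * (x : G) * (B.f ts)⁻¹ * (B.f q * (x : G) ^ 2)⁻¹ = o' * B.f s := hoe
    rw [mul_inv_eq_iff_eq_mul] at hoe'
    rw [hoe', map_mul]
    group
  · intro g hg
    let gc : B.CZ := ⟨g, mem_centralizer_singleton_iff.2 hg.eq⟩
    obtain ⟨o, ho, n1, hn1, hgn⟩ := hO2 (gc : B.XZ)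
    obtain ⟨τ1, hτ1⟩ := B.exists_acts h hb hn1
    obtain ⟨s0, i, hw⟩ : ∃ s0 : ↥SM, ∃ i : Fin 3, B.Acts (B.pr s0 * y ^ (i : ℕ)) τ1 := by
      obtain ⟨i, e | e⟩ := perm3.2.2.2.2.1 τ1 hτ1.injective
      · exact ⟨1, i, by rw [map_one, one_mul, e]; exact hya.pow _⟩
      · exact ⟨ts, i, by rw [e]; exact B.acts_ts.mul (hya.pow _)⟩
    have hwN : B.pr s0 * y ^ (i : ℕ) ∈ normalizer (B.QX : Set B.XZ) :=
      mul_mem (B.pr_range_le_normalizer ⟨s0, rfl⟩) (pow_mem hyN _)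
    obtain ⟨q, hq, o1, ho1, he⟩ := B.acts_id_mem h hb (mul_mem hn1 (inv_mem hwN)) (hτ1.div hw)
    have hmk : ((gc * (B.fc (q * s0) * x ^ (i : ℕ))⁻¹ : B.CZ) : B.XZ) ∈ pPrimeCore 2 B.XZ := by
      rw [QuotientGroup.mk_mul, QuotientGroup.mk_inv, QuotientGroup.mk_mul, QuotientGroup.mk_pow,
        hx, hgn]
      show o * n1 * (B.pr (q * s0) * y ^ (i : ℕ))⁻¹ ∈ _
      rw [map_mul, show o * n1 * (B.pr q * B.pr s0 * y ^ (i : ℕ))⁻¹ =
        o * (n1 * (B.pr s0 * y ^ (i : ℕ))⁻¹ * (B.pr q)⁻¹) by group, he]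
      exact mul_mem ho (hOn.conj_mem o1 ho1 _)
    obtain ⟨o', ho', s, hs, hoe⟩ := hl2 _ hmk
    refine ⟨o', ho', s * (q * s0), i, ?_⟩
    have hoe' : g * (B.f (q * s0) * (x : G) ^ (i : ℕ))⁻¹ = o' * B.f s := hoe
    rw [mul_inv_eq_iff_eq_mul] at hoe'
    rw [hoe', map_mul B.f s]
    group
  · intro s hs
    have hmem : s ∈ [bs, a1, a2, a3] := by
      simp only [List.mem_cons, List.not_mem_nil, or_false] at hs ⊢
      rcases hs with rfl | rfl <;> simp
    refine B.fused_of_not h hmem ?_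
    simp only [List.mem_cons, List.not_mem_nil, or_false] at hs
    rcases hs with rfl | rfl
    · exact (B.b_or_a2 h).1 hb
    · exact (B.not_conj_a h).2

end Base

end Cfsg.Agent.M12Type
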