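import Cfsg.Agent.M12Type.Model

/-!
An automorphism of the model exchanging the classes of `bs` and `a2`.
-/

set_option autoImplicit false
set_option maxRecDepth 20000
set_option maxHeartbeats 1000000

namespace Cfsg.Agent.M12Type

/-- The table of the automorphism. -/
def sgTab : List (ℕ × ℕ) :=
  [(0, 0), (5, 53), (7, 47), (9, 57), (14, 29), (16, 24), (18, 33), (23, 23), (24, 16),
    (29, 14), (31, 151), (33, 18), (38, 110), (40, 160), (42, 114), (47, 7), (48, 48), (53, 5),
    (55, 95), (57, 9), (62, 77), (64, 72), (66, 81), (71, 71), (72, 64), (77, 62), (79, 103),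
    (81, 66), (86, 158), (88, 112), (90, 162), (95, 55), (96, 136), (101, 134), (103, 79), (105, 138),
    (110, 38), (112, 88), (114, 42), (119, 127), (120, 120), (125, 173), (127, 119), (129, 177), (134, 101),
    (136, 96), (138, 105), (143, 143), (144, 184), (149, 182), (151, 31), (153, 186), (158, 86), (160, 40),
    (162, 90), (167, 175), (168, 168), (173, 125), (175, 167), (177, 129), (182, 149), (184, 144), (186, 153),
    (191, 191)]

/-- The underlying map. -/
def sgFun (x : ↥SM) : ↥SM := el ((sgTab.lookup (ix x)).getD 0)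

theorem sgFun_check : (∀ x y : ↥SM, sgFun (x * y) = sgFun x * sgFun y) ∧
    (∀ x : ↥SM, sgFun (sgFun x) = x) := by decide +kernel

/-- The automorphism. -/
def sg : ↥SM ≃* ↥SM where
  toFun := sgFun
  invFun := sgFun
  left_inv := sgFun_check.2
  right_inv := sgFun_check.2
  map_mul' := sgFun_check.1

theorem sg_facts : sg zs = zs ∧ sg bs = a2 := by decide +kernel

namespace Base

variable {G : Type*} [Group G] (B : Base G)

/-- The twisted embedding. -/
def twist : Base G where
  f := B.f.comp sg.toMonoidHom
  inj := B.inj.comp sg.injective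
  sylow := by
    obtain ⟨P, hP⟩ := B.sylow
    refine ⟨P, hP.trans ?_⟩
    ext x
    constructor
    · rintro ⟨s, rfl⟩
      exact ⟨sg.symm s, by simp⟩
    · rintro ⟨s, rfl⟩
      exact ⟨sg s, rfl⟩

theorem twist_z : B.twist.z = B.z := congrArg B.f sg_facts.1

theorem twist_simp (h : B.Simp) : B.twist.Simp :=
  ⟨by rw [twist_z]; exact h.two, h.no_index_two, by rw [twist_z]; exact h.not_isolated⟩

theorem twist_bs : B.twist.f bs = B.f a2 := congrArg B.f sg_facts.2

end Base

end Cfsg.Agent.M12Type
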