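import Cfsg.Agent.M12Type.Cent
import Cfsg.Agent.M12Type.Twist
import Cfsg.Agent.M12Cent.Host
import Cfsg.Agent.Invol.ZStar

/-!
A simple group with the Sylow 2-subgroup of the Mathieu group of degree twelve and two classes of
involutions satisfies the hypotheses of the local analysis.
-/

set_option autoImplicit false

namespace Cfsg.Agent.M12Type

open Subgroup

/-- A Sylow 2-subgroup of the Mathieu group of degree twelve is the model. -/
theorem exists_model_sylow (P : Sylow 2 ↥Spor.M12) : Nonempty (↥SM ≃* ↥(P : Subgroup ↥Spor.M12)) := by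
  haveI := M12Cent.finite_m12
  haveI : Fact (Nat.Prime 2) := ⟨Nat.prime_two⟩
  have h64 : Nat.card ↥(SM.map M12Cent.emb) = 2 ^ 6 := by
    rw [← Nat.card_congr (SM.equivMapOfInjective M12Cent.emb M12Cent.emb_injective).toEquiv,
      Nat.card_eq_fintype_card, card_SM]
    norm_num
  let P0 : Sylow 2 ↥Spor.M12 := (IsPGroup.of_card h64).toSylow (by
    intro h2
    have h := (SM.map M12Cent.emb).card_mul_index
    rw [h64, Compute.card_m12] at h
    omega)
  exact ⟨((SM.equivMapOfInjective M12Cent.emb M12Cent.emb_injective).trans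
    (MulEquiv.subgroupCongr (show SM.map M12Cent.emb = (P0 : Subgroup ↥Spor.M12) from rfl))).trans
    (P0.equiv P)⟩

theorem simp_of_simple {G : Type*} [Group G] [Finite G] [IsSimpleGroup G] (B : Base G)
    (h2 : ∃ x y : G, orderOf x = 2 ∧ orderOf y = 2 ∧ ¬ IsConj x y) : B.Simp := by
  haveI : Fact (Nat.Prime 2) := ⟨Nat.prime_two⟩
  have h64 : 64 ∣ Nat.card G := B.card_range ▸ card_subgroup_dvd_card B.f.range
  refine ⟨?_, fun N hN hi => ?_, ?_⟩
  · obtain ⟨x, y, hx, hy, hxy⟩ := h2
    by_cases h : IsConj B.z x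
    · exact ⟨y, hy, fun h' => hxy (h.symm.trans h')⟩
    · exact ⟨x, hx, h⟩
  · rcases hN.eq_bot_or_eq_top with rfl | rfl
    · rw [index_bot] at hi
      rw [hi] at h64
      omega
    · rw [index_top] at hi
      omega
  · by_contra hcon
    simp only [not_exists, not_and, not_not] at hcon
    have hz : IsIsolatedInvolution B.z := ⟨B.orderOf_z, fun g hc => hcon g hc.symm.eq⟩
    have hO : oddCore G = ⊥ := by
      rcases (Core.pPrimeCore_normal (p := 2) (G := G)).eq_bot_or_eq_top with h | h
      · exact h
      · exfalso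
        have h1 := Core.not_dvd_card_pPrimeCore (p := 2) (G := G)
        rw [h, card_top] at h1
        omega
    have hzc : B.z ∈ center G := mem_center_iff.2 fun g => by
      have h := Invol.zstar hz g
      rw [hO, mem_bot, mul_inv_eq_one, mul_inv_eq_iff_eq_mul] at h
      exact h.symm
    rcases (inferInstance : (center G).Normal).eq_bot_or_eq_top with h | h
    · rw [h, mem_bot] at hzc
      exact Invol.ne_one B.orderOf_z hzc
    · have hcomm : ∀ a b : G, a * b = b * a := fun a b =>
        mem_center_iff.1 (h ▸ mem_top b) a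
      rcases (⟨fun n hn g => by rw [hcomm g n, mul_inv_cancel_right]; exact hn⟩ :
        (zpowers B.z).Normal).eq_bot_or_eq_top with h' | h'
      · exact Invol.ne_one B.orderOf_z (zpowers_eq_bot.1 h')
      · have := Nat.card_zpowers B.z
        rw [h', card_top, B.orderOf_z] at this
        omega

/-- The local structure. -/
theorem exists_base {G : Type*} [Group G] [Finite G] [IsSimpleGroup G]
    (S : Sylow 2 G) (P : Sylow 2 ↥Spor.M12)
    (hS : Nonempty (↥(S : Subgroup G) ≃* ↥(P : Subgroup ↥Spor.M12)))
    (h2 : ∃ x y : G, orderOf x = 2 ∧ orderOf y = 2 ∧ ¬ IsConj x y) :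
    ∃ B : Base G, B.Simp ∧ B.Fus ∧ B.Cent := by
  obtain ⟨e⟩ := hS
  obtain ⟨e'⟩ := exists_model_sylow P
  let B : Base G :=
    { f := (S : Subgroup G).subtype.comp (e'.trans e.symm).toMonoidHom
      inj := (S : Subgroup G).subtype_injective.comp (e'.trans e.symm).injective
      sylow := ⟨S, by
        rw [MonoidHom.range_comp, MonoidHom.range_eq_top.2 (e'.trans e.symm).surjective,
          ← MonoidHom.range_eq_map, range_subtype]⟩ }
  have h := simp_of_simple B h2
  by_cases hb : IsConj B.z (B.f bs)
  · exact ⟨B, h, B.fus h, B.cent h hb⟩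
  · have h' := B.twist_simp h
    refine ⟨B.twist, h', B.twist.fus h', B.twist.cent h' ?_⟩
    rw [B.twist_z, B.twist_bs]
    by_contra ha
    exact hb ((B.b_or_a2 h).2 ha)

end Cfsg.Agent.M12Type
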