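import Cfsg.Agent.M12Type.CoreQuot
import Cfsg.Agent.Signalizer.RankGraph
import Cfsg.Agent.S0205
import Cfsg.Agent.S0217

/-!
Balance for the conjugates of the central involution, and the closures of the cores of their
centralizers over elementary abelian subgroups of order eight.
-/

set_option autoImplicit false

namespace Cfsg.Agent.M12Type

open Subgroup

section general

variable {Y : Type*} [Group Y] [Finite Y]

/-- An element commuting with an involution modulo an odd normal subgroup can be corrected. -/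
theorem lift_comm {N : Subgroup Y} (hN : N.Normal) (hodd : ¬ 2 ∣ Nat.card N) {c : Y} (hc : c * c = 1)
    {g : Y} (hg : g * c * g⁻¹ * c⁻¹ ∈ N) : ∃ w ∈ N, w * g * c = c * (w * g) := by
  set d := g * c * g⁻¹ * c with hd
  have hci : c⁻¹ = c := inv_eq_of_mul_eq_one_left hc
  have hdN : d ∈ N := by rwa [hci] at hg
  obtain ⟨m, hm⟩ : ∃ m, orderOf d = 2 * m + 1 := ⟨orderOf d / 2, by
    have : ¬ 2 ∣ orderOf d := fun h => hodd (h.trans (Subgroup.orderOf_dvd_natCard N hdN))
    omega⟩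
  have hinv : c * d * c⁻¹ = d⁻¹ := by
    rw [hd, mul_inv_rev, mul_inv_rev, mul_inv_rev, inv_inv, hci]
    calc c * (g * c * g⁻¹ * c) * c = c * (g * c * g⁻¹) * (c * c) := by group
      _ = c * (g * (c * g⁻¹)) := by rw [hc, mul_one]; group
  have hpow : c * d ^ m * c⁻¹ = (d ^ m)⁻¹ := by rw [← conj_pow, hinv, inv_pow]
  refine ⟨d ^ m, pow_mem hdN m, ?_⟩
  have h2 : d ^ m * d * d ^ m = 1 := by
    rw [← pow_succ, ← pow_add, show m + 1 + m = orderOf d by omega, pow_orderOf_eq_one]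
  have hcd : c * d ^ m = (d ^ m)⁻¹ * c := by rw [← hpow, inv_mul_cancel_right]
  have hdg : d * (c * g) = g * c := by
    rw [hd, show g * c * g⁻¹ * c * (c * g) = g * c * g⁻¹ * (c * c) * g by group, hc, mul_one,
      inv_mul_cancel_right]
  calc d ^ m * g * c = d ^ m * d * (c * g) := by rw [mul_assoc (d ^ m) d, hdg, mul_assoc]
    _ = (d ^ m)⁻¹ * c * g := by
        rw [← mul_assoc, ← eq_inv_of_mul_eq_one_left h2]
    _ = c * (d ^ m * g) := by rw [← hcd, mul_assoc]

end general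

namespace Base

variable {G : Type*} [Group G] (B : Base G)

/-- The core of the centralizer. -/
def theta (u : G) : Subgroup G :=
  centralizerPPrimeCore 2 u

variable [Finite G]

omit B in
theorem theta_le (u : G) : theta u ≤ centralizer ({u} : Set G) := map_subtype_le _

omit B in
theorem theta_odd (u : G) : ¬ 2 ∣ Nat.card (theta u) := by
  haveI : Fact (Nat.Prime 2) := ⟨Nat.prime_two⟩
  rw [theta, centralizerPPrimeCore, card_map_of_injective (subtype_injective _)]
  exact Core.not_dvd_card_pPrimeCore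

omit B in
theorem theta_conj (u g : G) : theta (g * u * g⁻¹) = (theta u).map (MulAut.conj g).toMonoidHom :=
  Signalizer.core_conj (p := 2) u g

omit B in
theorem theta_mem_conj {u g o : G} (ho : o ∈ theta u) : g * o * g⁻¹ ∈ theta (g * u * g⁻¹) := by
  rw [theta_conj]; exact ⟨o, ho, rfl⟩

variable (K : B.Cent)
include K

/-- The quotient of a subgroup containing the centralizer of `z` by an odd normal subgroup
containing its core. -/
theorem exists_mod (H : Subgroup G) (N : Subgroup H) [N.Normal] (hN : ¬ 2 ∣ Nat.card N)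
    (hH : centralizer ({B.z} : Set G) ≤ H) (hO : ∀ o : H, (o : G) ∈ theta B.z → o ∈ N) :
    ∃ D : Mod (H ⧸ N), (∀ (s : ↥SM) (hs : B.f s ∈ H), D.f s = (⟨B.f s, hs⟩ : H)) := by
  haveI : Fact (Nat.Prime 2) := ⟨Nat.prime_two⟩
  obtain ⟨x, hxz, hx3, hxQ, hxfix, -, ⟨o, ho, q, hq, htx⟩, hcov⟩ := K.structure'
  have hfH : ∀ s, B.f s ∈ H := fun s => hH (B.range_le ⟨s, rfl⟩)
  let f₀ : ↥SM →* H := B.f.codRestrict H hfH
  let π := QuotientGroup.mk' N
  have hinj : Function.Injective (π.comp f₀) := by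
    refine (injective_iff_map_eq_one _).2 fun s hs => B.inj ?_
    have hm : f₀ s ∈ N := (QuotientGroup.eq_one_iff _).1 hs
    have h1 : orderOf (f₀ s) ∣ 64 := by
      refine orderOf_dvd_of_pow_eq_one ?_
      rw [← map_pow, show (64 : ℕ) = Nat.card ↥SM by rw [Nat.card_eq_fintype_card, card_SM],
        pow_card_eq_one', map_one]
    obtain ⟨j, -, hj⟩ := (Nat.dvd_prime_pow Nat.prime_two).1 (show orderOf (f₀ s) ∣ 2 ^ 6 by simpa using h1)
    rcases Nat.eq_zero_or_pos j with rfl | hj0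
    · rw [map_one]
      exact congrArg Subtype.val (orderOf_eq_one_iff.1 (hj.trans (pow_zero 2)))
    · exact absurd ((hj ▸ dvd_pow_self 2 hj0.ne').trans (Subgroup.orderOf_dvd_natCard N hm)) hN
  set x' : H := ⟨x, hH (mem_centralizer_singleton_iff.2 hxz.eq)⟩ with hx'
  have hπ : ∀ a b : H, (a : G) = (b : G) → π a = π b := fun a b e => congrArg π (Subtype.ext e)
  have hfix : ∀ s t : ↥SM, π (x' * f₀ s * x'⁻¹) = π (f₀ t) → s ∈ QS → x * B.f s * x⁻¹ = B.f t := by
    intro s t h hs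
    obtain ⟨s', -, he⟩ := hxQ s hs
    have e2 : π (x' * f₀ s * x'⁻¹) = π (f₀ s') := hπ _ _ he
    rw [he]
    exact congrArg B.f (hinj (e2.symm.trans h))
  refine ⟨{
    f := π.comp f₀
    inj := hinj
    x := π x'
    x3 := ?_
    xz := ?_
    xQ := fun s hs => ?_
    fix := fun s hs h => hxfix s hs (hfix s s (by simpa using h) hs)
    twisted := ?_
    sylow := ?_
    cover := ?_ }, fun s hs => rfl⟩
  · rw [← map_pow]
    exact (QuotientGroup.eq_one_iff _).2 (hO _ hx3)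
  · show π x' * π (f₀ zs) = π (f₀ zs) * π x'
    rw [← map_mul, ← map_mul]
    exact hπ _ _ hxz.eq
  · obtain ⟨s', hs', he⟩ := hxQ s hs
    refine ⟨s', hs', ?_⟩
    show π x' * π (f₀ s) * (π x')⁻¹ = π (f₀ s')
    rw [← map_inv, ← map_mul, ← map_mul]
    exact hπ _ _ he
  · refine ⟨q, hq, ?_⟩
    have hoH : o ∈ H := hH (theta_le _ ho)
    show π (f₀ ts) * π x' * (π (f₀ ts))⁻¹ = π (f₀ q) * (π x') ^ 2
    rw [← map_pow, ← map_inv, ← map_mul, ← map_mul, ← map_mul,
      hπ (f₀ ts * x' * (f₀ ts)⁻¹) (⟨o, hoH⟩ * (f₀ q * x' ^ 2)) (by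
        show B.f ts * x * (B.f ts)⁻¹ = o * (B.f q * x ^ 2)
        rw [htx, mul_assoc]), map_mul, show π ⟨o, hoH⟩ = 1 from
        (QuotientGroup.eq_one_iff _).2 (hO ⟨o, hoH⟩ ho), one_mul]
  · obtain ⟨P, hP⟩ := B.sylow
    have hPH : (P : Subgroup G) ≤ H := by rw [hP]; rintro _ ⟨s, rfl⟩; exact hfH s
    refine ⟨(P.subtype hPH).mapSurjective (QuotientGroup.mk'_surjective N), ?_⟩
    rw [Sylow.coe_mapSurjective, Sylow.coe_subtype, hP]
    ext w
    constructor
    · rintro ⟨c, ⟨s, hs⟩, rfl⟩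
      exact ⟨s, hπ _ _ hs⟩
    · rintro ⟨s, rfl⟩
      exact ⟨f₀ s, ⟨s, rfl⟩, rfl⟩
  · intro g hg
    obtain ⟨g, rfl⟩ := QuotientGroup.mk'_surjective N g
    have hc : g * f₀ zs * g⁻¹ * (f₀ zs)⁻¹ ∈ N := by
      rw [← QuotientGroup.eq_one_iff]
      show π (g * f₀ zs * g⁻¹ * (f₀ zs)⁻¹) = 1
      rw [map_mul, map_mul, map_mul, map_inv, map_inv]
      rw [show π g * π (f₀ zs) = π (f₀ zs) * π g from hg]
      group
    obtain ⟨w, hw, hwg⟩ := lift_comm (inferInstance : N.Normal) hN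
      (show f₀ zs * f₀ zs = 1 by rw [← map_mul, zs_facts.2.1, map_one]) hc
    obtain ⟨o, ho, s, i, he⟩ := hcov ((w * g : H) : G) (congrArg Subtype.val hwg)
    have hoH : o ∈ H := hH (theta_le _ ho)
    refine ⟨s, i, ?_⟩
    show π g = π (f₀ s) * (π x') ^ (i : ℕ)
    rw [← map_pow, ← map_mul, show π g = π (w * g) by
      rw [map_mul, show π w = 1 from (QuotientGroup.eq_one_iff _).2 hw, one_mul],
      hπ (w * g) (⟨o, hoH⟩ * (f₀ s * x' ^ (i : ℕ))) (by rw [he]; exact mul_assoc _ _ _),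
      map_mul, show π ⟨o, hoH⟩ = 1 from (QuotientGroup.eq_one_iff _).2 (hO ⟨o, hoH⟩ ho), one_mul]

/-- An element of odd order centralizing `z` and another conjugate commuting with it lies in the
core. -/
theorem odd_core_z (hF : B.Fus) {w g : G} (hw : IsConj B.z w) (hwz : Commute w B.z) (hne : w ≠ B.z)
    (hgz : Commute g B.z) (hgw : Commute g w) (ho : ¬ 2 ∣ orderOf g) : g ∈ theta B.z := by
  haveI : Fact (Nat.Prime 2) := ⟨Nat.prime_two⟩
  obtain ⟨c, hcz, hc⟩ := hF.extremal w (Invol.orderOf_eq_two_of_isConj hw B.orderOf_z) hwz hw hne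
  set C := centralizer ({B.z} : Set G)
  obtain ⟨D, hD⟩ := B.exists_mod K C (pPrimeCore 2 ↥C) Core.not_dvd_card_pPrimeCore le_rfl
    (fun o ⟨o', ho', he⟩ => (Subtype.ext he : o' = o) ▸ ho')
  have hfC : ∀ s, B.f s ∈ C := fun s => B.range_le ⟨s, rfl⟩
  set g' := c * g * c⁻¹ with hg'
  have hg'z : Commute g' B.z := (hcz.mul_left hgz).mul_left hcz.inv_left
  set G' : C := ⟨g', mem_centralizer_singleton_iff.2 hg'z.eq⟩
  have hord : ¬ 2 ∣ orderOf (QuotientGroup.mk' (pPrimeCore 2 ↥C) G') := fun h2 => ho (by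
    refine (h2.trans (orderOf_map_dvd _ _)).trans (dvd_of_eq ?_)
    rw [Subgroup.orderOf_mk, hg', Invol.orderOf_conj])
  have key : ∀ r : ↥SM, c * w * c⁻¹ = B.f r → (r ∈ QS ∧ ¬ eqz r 1 ∨ r = ts) → g' ∈ theta B.z := by
    intro r hr hcase
    have h1 : QuotientGroup.mk' (pPrimeCore 2 ↥C) G' = 1 := by
      refine D.odd_free ?_ hord hcase ?_
      · rw [hD zs (hfC zs)]
        exact congrArg (QuotientGroup.mk' (pPrimeCore 2 ↥C))
          (show G' * ⟨_, hfC zs⟩ = ⟨_, hfC zs⟩ * G' from Subtype.ext hg'z.eq)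
      · rw [hD r (hfC r)]
        refine congrArg (QuotientGroup.mk' (pPrimeCore 2 ↥C))
          (show G' * ⟨_, hfC r⟩ = ⟨_, hfC r⟩ * G' from Subtype.ext ?_)
        show g' * B.f r = B.f r * g'
        rw [← hr, hg', show c * g * c⁻¹ * (c * w * c⁻¹) = c * (g * w) * c⁻¹ by group, hgw.eq]
        group
    exact ⟨G', (QuotientGroup.eq_one_iff _).1 h1, rfl⟩
  have hg'O : g' ∈ theta B.z := by
    rcases hc with hc | hc
    · refine key vs hc (Or.inl ⟨v_facts.2.2.2.2.2.1, ?_⟩)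
      rintro (e | e)
      exacts [v_facts.2.1 e, v_facts.2.2.1 (e.trans (one_mul zs))]
    · exact key ts hc (Or.inr rfl)
  have := theta_mem_conj (g := c⁻¹) hg'O
  rwa [show c⁻¹ * g' * c⁻¹⁻¹ = g by rw [hg']; group,
    show c⁻¹ * B.z * c⁻¹⁻¹ = B.z by rw [hcz.inv_left.eq, mul_inv_cancel_right]] at this

theorem odd_core (hF : B.Fus) {u w g : G} (hu : IsConj B.z u) (hw : IsConj B.z w) (huw : Commute w u)
    (hne : w ≠ u) (hgu : Commute g u) (hgw : Commute g w) (ho : ¬ 2 ∣ orderOf g) : g ∈ theta u := by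
  obtain ⟨k, rfl⟩ := isConj_iff.1 hu
  have hz : k⁻¹ * (k * B.z * k⁻¹) * k = B.z := by group
  have cm : ∀ a b : G, Commute a b → Commute (k⁻¹ * a * k) (k⁻¹ * b * k) := fun a b h => by
    show k⁻¹ * a * k * (k⁻¹ * b * k) = k⁻¹ * b * k * (k⁻¹ * a * k)
    rw [show k⁻¹ * a * k * (k⁻¹ * b * k) = k⁻¹ * (a * b) * k by group, h.eq]
    group
  have h : k⁻¹ * g * k ∈ theta B.z := by
    refine B.odd_core_z K hF (w := k⁻¹ * w * k) (hw.trans (isConj_iff.2 ⟨k⁻¹, by group⟩))
      (hz ▸ cm _ _ huw) (fun e => hne ?_) (hz ▸ cm _ _ hgu) (cm _ _ hgw) ?_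
    · rw [← e]; group
    · have := Invol.orderOf_conj k⁻¹ g
      rw [inv_inv] at this
      rwa [this]
  have := theta_mem_conj (g := k) h
  rwa [show k * (k⁻¹ * g * k) * k⁻¹ = g by group] at this

omit K in
/-- The subgroup generated by the cores of a four-group. -/
def four (p q : G) : Subgroup G :=
  theta p ⊔ theta q ⊔ theta (p * q)

omit K B in
theorem four_conj_map (g p q : G) :
    four (g * p * g⁻¹) (g * q * g⁻¹) = (four p q).map (MulAut.conj g).toMonoidHom := by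
  rw [four, four, Subgroup.map_sup, Subgroup.map_sup, ← theta_conj, ← theta_conj, ← theta_conj,
    show g * p * g⁻¹ * (g * q * g⁻¹) = g * (p * q) * g⁻¹ by group]

/-- The signalizer functor theorem on an elementary abelian subgroup of order at least eight all of
whose involutions are conjugate to `z`. -/
theorem sig (hF : B.Fus) (A : Subgroup ↥SM) (hc : ∀ a ∈ A, ∀ b ∈ A, a * b = b * a)
    (h2 : ∀ a ∈ A, a * a = 1) (h8 : Nat.card A = 8) (hz : ∀ a ∈ A, a ≠ 1 → IsConj B.z (B.f a)) :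
    ∃ W : Subgroup G, ¬ 2 ∣ Nat.card W ∧
      (∀ a ∈ A, a ≠ 1 → W ⊓ centralizer ({B.f a} : Set G) = theta (B.f a)) ∧
      ∀ p ∈ A, ∀ q ∈ A, p ≠ 1 → q ≠ 1 → p ≠ q → four (B.f p) (B.f q) = W := by
  haveI : Fact (Nat.Prime 2) := ⟨Nat.prime_two⟩
  set A' := A.map B.f
  have hc' : ∀ a ∈ A', ∀ b ∈ A', a * b = b * a := by
    rintro _ ⟨a, ha, rfl⟩ _ ⟨b, hb, rfl⟩
    rw [← map_mul, ← map_mul, hc a ha b hb]
  have hzc : ∀ a ∈ A', a ≠ 1 → IsConj B.z a := by
    rintro _ ⟨a, ha, rfl⟩ ha1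
    exact hz a ha fun e => ha1 (by rw [e, map_one])
  have hinv : ∀ a ∈ A', a ≠ 1 → ∀ b ∈ A', ∀ w ∈ theta a, b * w * b⁻¹ ∈ theta a := by
    intro a ha _ b hb w hw
    have := theta_mem_conj (g := b) hw
    rwa [show b * a * b⁻¹ = a by rw [hc' b hb a ha, mul_inv_cancel_right]] at this
  obtain ⟨hodd, hcap⟩ := S0217.result A' hc'
    (by rintro _ ⟨a, ha, rfl⟩; rw [pow_two, ← map_mul, h2 a ha, map_one])
    (by rw [card_map_of_injective B.inj, h8]; norm_num) theta (fun a _ _ => theta_le a)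
    (fun a _ _ => theta_odd a) hinv
    (fun a _ _ => S0205.result (Nat.odd_iff.2 (by have := theta_odd a; omega)))
    (fun a ha ha1 b hb hb1 w hw => by
      by_cases hab : a = b
      · exact hab ▸ hw.1
      · exact B.odd_core K hF (hzc b hb hb1) (hzc a ha ha1) (hc' a ha b hb) hab
          (mem_centralizer_singleton_iff.1 hw.2)
          (mem_centralizer_singleton_iff.1 (theta_le a hw.1))
          (fun h => theta_odd a (h.trans (Subgroup.orderOf_dvd_natCard _ hw.1))))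
  set W := ⨆ a : {a : G // a ∈ A' ∧ a ≠ 1}, theta (a : G) with hW
  have hle : ∀ a ∈ A', a ≠ 1 → theta a ≤ W := fun a ha ha1 =>
    le_iSup (fun a : {a : G // a ∈ A' ∧ a ≠ 1} => theta (a : G)) ⟨a, ha, ha1⟩
  refine ⟨W, hodd, fun a ha ha1 => hcap _ (mem_map_of_mem _ ha)
    (fun e => ha1 (B.inj (e.trans (map_one B.f).symm))), ?_⟩
  intro p hp q hq hp1 hq1 hpq
  set P := B.f p with hP
  set Q := B.f q with hQ
  have hPA : P ∈ A' := mem_map_of_mem _ hp
  have hQA : Q ∈ A' := mem_map_of_mem _ hq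
  have hP1 : P ≠ 1 := fun e => hp1 (B.inj (e.trans (map_one B.f).symm))
  have hQ1 : Q ≠ 1 := fun e => hq1 (B.inj (e.trans (map_one B.f).symm))
  have hPP : P * P = 1 := by rw [hP, ← map_mul, h2 p hp, map_one]
  have hQQ : Q * Q = 1 := by rw [hQ, ← map_mul, h2 q hq, map_one]
  have hcomm := hc' P hPA Q hQA
  have hPQ1 : P * Q ≠ 1 := fun e => hpq (B.inj (mul_right_cancel (e.trans hQQ.symm)))
  refine le_antisymm (sup_le (sup_le (hle _ hPA hP1) (hle _ hQA hQ1))
    (hle _ (mul_mem hPA hQA) hPQ1)) ?_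
  set U := closure ({P, Q} : Set G) with hU
  have hUA : U ≤ A' := (closure_le _).2 (by rintro x (rfl | rfl); exacts [hPA, hQA])
  haveI : IsMulCommutative U := ⟨⟨fun a b => Subtype.ext (hc' _ (hUA a.2) _ (hUA b.2))⟩⟩
  have hUN : U ≤ normalizer (W : Set G) := by
    intro b hb
    have hb' := hUA hb
    have hmap : ∀ y ∈ A', W ≤ W.comap (MulAut.conj y).toMonoidHom := fun y hy => by
      rw [hW]
      refine iSup_le fun a => ?_
      intro w hw
      exact hle _ a.2.1 a.2.2 (hinv _ a.2.1 a.2.2 y hy w hw)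
    rw [mem_normalizer_iff]
    refine fun w => ⟨fun hw => hmap b hb' hw, fun hw => ?_⟩
    have := hmap b⁻¹ (inv_mem hb') hw
    rw [mem_comap] at this
    simpa [mul_assoc] using this
  have hmemU : ∀ a ∈ U, a = 1 ∨ a = P ∨ a = Q ∨ a = P * Q := by
    intro a ha
    induction ha using closure_induction with
    | mem x hx => rcases hx with rfl | rfl <;> simp
    | one => simp
    | mul x y _ _ hx hy =>
      have e1 : Q * P = P * Q := hcomm.symm
      have e2 : P * (P * Q) = Q := by rw [← mul_assoc, hPP, one_mul]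
      have e3 : Q * (P * Q) = P := by rw [← mul_assoc, e1, mul_assoc, hQQ, mul_one]
      have e4 : P * Q * P = Q := by rw [mul_assoc, e1, e2]
      have e5 : P * Q * Q = P := by rw [mul_assoc, hQQ, mul_one]
      have e6 : P * Q * (P * Q) = 1 := by rw [mul_assoc, e3, hPP]
      rcases hx with rfl | rfl | rfl | rfl <;> rcases hy with rfl | rfl | rfl | rfl <;>
        simp [hPP, hQQ, e1, e2, e3, e4, e5, e6]
    | inv x _ hx =>
      have hi : (P * Q)⁻¹ = P * Q := by
        rw [mul_inv_rev, inv_eq_of_mul_eq_one_left hPP, inv_eq_of_mul_eq_one_left hQQ, hcomm]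
      rcases hx with rfl | rfl | rfl | rfl
      · simp
      · simp [inv_eq_of_mul_eq_one_left hPP]
      · simp [inv_eq_of_mul_eq_one_left hQQ]
      · simp [hi]
  have hcyc : ¬ IsCyclic U := fun hcy => hpq (B.inj
    (Invol.eq_of_isCyclic_of_orderOf_two hcy (B.orderOf_f (h2 p hp) hp1) (B.orderOf_f (h2 q hq) hq1)
      (subset_closure (Set.mem_insert _ _)) (subset_closure (Set.mem_insert_of_mem _ rfl))))
  have hcop : (Nat.card U).Coprime (Nat.card W) := by
    refine Nat.Coprime.coprime_dvd_left (card_dvd_of_le hUA) ?_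
    rw [card_map_of_injective B.inj, h8]
    exact ((Nat.prime_two.coprime_iff_not_dvd).2 hodd).pow_left 3
  refine (Coprime.iSup_centralizer_eq hcyc hUN hcop).ge.trans (iSup₂_le fun a ha => ?_)
  rw [hcap a (hUA ha.1) ha.2]
  rcases hmemU a ha.1 with e | e | e | e
  · exact absurd e ha.2
  · exact e ▸ le_sup_of_le_left le_sup_left
  · exact e ▸ le_sup_of_le_left le_sup_right
  · exact e ▸ le_sup_right

end Base

end Cfsg.Agent.M12Type
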