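import Cfsg.Agent.M12Type.CoreQuot
import Cfsg.Agent.Cent32.M12Case

/-!
Recognition: either the elementary abelian subgroup of order eight is normal, or the group is the
Mathieu group of degree twelve and the second centralizer has order 240.
-/

set_option autoImplicit false

namespace Cfsg.Agent.M12Type

open Subgroup

theorem perm_five_fifteen : ∀ s : Equiv.Perm (Fin 5), s ^ 15 = 1 → s ^ 3 = 1 ∨ s ^ 5 = 1 := by
  decide +kernel

namespace Mod

variable {K : Type*} [Group K] [Finite K] (D : Mod K)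

/-- A normal elementary abelian subgroup of order eight is the image of `EG`. -/
theorem normal_eight (hv : ∃ g : K, g * D.f zs * g⁻¹ = D.f vs)
    (hb : ∃ g : K, g * D.f zs * g⁻¹ = D.f bs) {N : Subgroup K} (hN : N.Normal)
    (hc : ∀ a ∈ N, ∀ b ∈ N, a * b = b * a) (h2 : ∀ n ∈ N, n * n = 1) (h8 : Nat.card N = 8) :
    ∀ y : K, ∀ e ∈ EG, ∃ e' ∈ EG, y * D.f e * y⁻¹ = D.f e' := by
  haveI : Fact (Nat.Prime 2) := ⟨Nat.prime_two⟩
  haveI := hN
  obtain ⟨P, hP⟩ := D.sylow
  have hNle : N ≤ D.f.range := by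
    obtain ⟨Q, hQ⟩ := (IsPGroup.of_card (n := 3) (h8.trans (by norm_num)) : IsPGroup 2 N).exists_le_sylow
    obtain ⟨g, hg⟩ := MulAction.exists_smul_eq K Q P
    intro x hx
    rw [← hP, ← hg, Sylow.coe_subgroup_smul, mem_pointwise_smul_iff_inv_smul_mem]
    exact hQ (by simpa [MulAut.smul_def] using hN.conj_mem x hx g⁻¹)
  obtain ⟨w, hw, hwN⟩ : ∃ w : ↥SM, w ≠ 1 ∧ D.f w ∈ N := by
    have : Nontrivial N := Finite.one_lt_card_iff_nontrivial.1 (by omega)
    obtain ⟨⟨x, hx⟩, hx1⟩ := exists_ne (1 : N)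
    obtain ⟨w, hw⟩ := hNle hx
    exact ⟨w, fun e => hx1 (Subtype.ext (show x = 1 by rw [← hw, e, map_one])), hw ▸ hx⟩
  have hz : D.f zs ∈ N := by
    by_cases hwz : w = zs
    · exact hwz ▸ hwN
    · have hconj : ∀ g : ↥SM, D.f (g * w * g⁻¹) ∈ N := fun g => by
        rw [map_mul, map_mul, map_inv]; exact hN.conj_mem _ hwN _
      obtain ⟨g, hg⟩ := sq_z w hw (D.inj (by rw [map_mul, map_one]; exact h2 _ hwN)) hwz
        (fun g => D.inj (by rw [map_mul D.f (g * w * g⁻¹), map_mul D.f w]; exact hc _ (hconj g) _ hwN))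
      rw [← hg, map_mul]
      exact mul_mem (hconj g) hwN
  have hle : EG.map D.f ≤ N := by
    rintro _ ⟨e, he, rfl⟩
    by_cases he1 : e = 1
    · rw [he1, map_one]; exact one_mem _
    rcases EG_facts.2.2.2.2.2.2.2.2 e he he1 with rfl | ⟨g, hg⟩
    · exact hz
    · have hm : D.f (g * e * g⁻¹) ∈ N := by
        simp only [List.mem_cons, List.not_mem_nil, or_false] at hg
        rcases hg with h | h <;> rw [h]
        · obtain ⟨k, hk⟩ := hv; rw [← hk]; exact hN.conj_mem _ hz k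
        · obtain ⟨k, hk⟩ := hb; rw [← hk]; exact hN.conj_mem _ hz k
      have := hN.conj_mem _ hm (D.f g)⁻¹
      simpa [mul_assoc] using this
  have heq : EG.map D.f = N := eq_of_le_of_card_ge hle (by
    rw [h8, card_map_of_injective D.inj, Nat.card_eq_fintype_card, Fintype.card_subtype,
      EG_facts.2.2.1])
  intro y e he
  obtain ⟨e', he', hee⟩ : y * D.f e * y⁻¹ ∈ EG.map D.f := by
    rw [heq]; exact hN.conj_mem _ (hle (mem_map_of_mem _ he)) y
  exact ⟨e', he', hee.symm⟩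

/-- The two cases. -/
theorem dicho (hv : ∃ g : K, g * D.f zs * g⁻¹ = D.f vs) :
    (∃ N : Subgroup K, N.Normal ∧ (∀ a ∈ N, ∀ b ∈ N, a * b = b * a) ∧ (∀ n ∈ N, n * n = 1) ∧
      Nat.card N = 8) ∨
    (Cfsg.Spor.IsoM12 K ∧ ∀ a : K, orderOf a = 2 → ¬ IsConj (D.f zs) a →
      Nat.card (centralizer ({a} : Set K)) = 240 ∧
      ∀ g : K, g * a = a * g → g ^ 15 = 1 → g ^ 3 = 1 ∨ g ^ 5 = 1) := by
  classical
  obtain ⟨h, v, hv2, hv3, hvc⟩ := D.exists_emb hv
  have hv' : M12Cent.M.ty v = 2 := by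
    by_contra hne
    exact h.not_conj_b (hvc.trans (h.conj_three (by omega)).symm)
  have hza : IsConj (D.f zs) (h.ι M12Cent.M.aM) := hvc.trans (h.conj_two hv').symm
  by_cases hzc : IsConj (D.f zs) (h.ι M12Cent.M.cM)
  swap
  · obtain ⟨N, hN, hNc, hN2, hN8, -⟩ := (Cent32.norm8M h hza hzc).main
    exact Or.inl ⟨N, hN,
      fun a ha b hb => congrArg Subtype.val (hNc.is_comm.comm (⟨a, ha⟩ : N) ⟨b, hb⟩),
      fun n hn => by rw [← pow_two]; exact hN2 n hn, hN8⟩
  obtain ⟨hsimp, hna⟩ := Cent32.simpleM h hza hzc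
  have hcard := h.card_eq hna
  refine Or.inr ⟨?_, fun a ha haz => ?_⟩
  · haveI := Cfsg.Agent.Compute.isSimpleGroup_m12
    haveI := M12Cent.finite_m12
    letI := Fintype.ofFinite K
    letI := Fintype.ofFinite Cfsg.Spor.M12
    exact Fg24.M12.unique_95040 (K := Cfsg.Spor.M12) hcard Cfsg.Agent.Compute.card_m12
  obtain ⟨n, hn, ψ, hi, hr, hb⟩ := h.exists_psi hna
  have hf := h.order_formula hna
  rw [h.pairs_z hna, hcard] at hf
  obtain rfl : n = 5 := by
    rcases hn with rfl | rfl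
    · exfalso
      rw [h.class_psi hna M12Cent.Two.pow_sixty_four M12Cent.Two.zcls_iff_four
        M12Cent.Two.double_conj_four ψ hi hr hb, M12Cent.Two.cnt_four, h.card_psi hna ψ hi hr] at hf
      norm_num [Nat.factorial] at hf
    · rfl
  obtain ⟨c, hc⟩ : ∃ c : K, c * a * c⁻¹ = h.ι M12Cent.M.bM := by
    rcases h.two_classes hna ha with hc | hc
    · exact absurd hc.symm haz
    · exact isConj_iff.1 hc
  constructor
  · rw [Base.card_centralizer_conj (isConj_iff.2 ⟨c, hc⟩), h.card_psi hna ψ hi hr]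
    norm_num [Nat.factorial]
  · intro g hg hg15
    have hg' : c * g * c⁻¹ ∈ ψ.range := by
      rw [hr, mem_centralizer_singleton_iff, ← hc, show c * g * c⁻¹ * (c * a * c⁻¹) = c * (g * a) * c⁻¹
        by group, hg]
      group
    obtain ⟨p, hp⟩ := hg'
    have hp15 : p ^ 15 = 1 := hi (by rw [map_pow, hp, conj_pow, hg15, map_one]; group)
    have h1 : p.1 = 1 := by
      rcases M12Cent.Two.c2_cases p.1 with e | e
      · exact e
      · exfalso
        have := congrArg Prod.fst hp15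
        rw [Prod.pow_fst, e, Prod.fst_one, show 15 = 2 * 7 + 1 from rfl, pow_succ, pow_mul, pow_two,
          M12Cent.Two.sq_one, one_pow, one_mul] at this
        exact M12Cent.Two.gen_ne this
    have key : ∀ k : ℕ, p.2 ^ k = 1 → g ^ k = 1 := by
      intro k hk
      have hpk : p ^ k = 1 := Prod.ext (by rw [Prod.pow_fst, h1, one_pow, Prod.fst_one])
        (by rw [Prod.pow_snd, hk, Prod.snd_one])
      have hk' := congrArg ψ hpk
      rw [map_pow, hp, map_one, conj_pow] at hk'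
      exact conj_eq_one_iff.1 hk'
    rcases perm_five_fifteen p.2 (congrArg Prod.snd hp15) with e | e
    exacts [Or.inl (key 3 e), Or.inr (key 5 e)]

end Mod

end Cfsg.Agent.M12Type
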