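import Cfsg.Agent.M12Type.Control
import Cfsg.Agent.M12Type.CoreRecog
import Cfsg.Agent.S1225
import Cfsg.Agent.Invol.StronglyEmbedded
import Cfsg.Agent.Invol.SEPairs
import Cfsg.Agent.ElatFree.Six

/-!
The centralizer of an involution of the second class lies in the normalizer of the closure.
-/

set_option autoImplicit false

namespace Cfsg.Agent.M12Type

open Subgroup

theorem mul_two_key : ∀ a b : Multiplicative (ZMod 2), (a * a = 1) ∧ (a ≠ 1 → b ≠ 1 → a * b = 1) := by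
  decide

namespace Base

variable {G : Type*} [Group G] [Finite G] (B : Base G) (h : B.Simp) (hF : B.Fus) (K : B.Cent)
include h hF K

theorem not_conj_four {r : ↥SM} (hr : r ∈ [a1, a2, a3]) : ¬ IsConj B.z (B.f r) := by
  simp only [List.mem_cons, List.not_mem_nil, or_false] at hr
  rcases hr with rfl | hr
  · exact K.not_conj_a
  · obtain ⟨c, -, hc⟩ := K.conj_a r (by simpa using hr)
    exact fun hz => K.not_conj_a (hz.trans (isConj_iff.2 ⟨c, hc⟩ : IsConj (B.f a1) _).symm)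

theorem card_UG : Nat.card (UG.map B.f) = 4 := by
  rw [card_map_of_injective B.inj, Nat.card_eq_fintype_card, Fintype.card_subtype]
  exact UG_facts.1

/-- The normal subgroup of the centralizer of `a1` with Sylow subgroup the image of `UG`. -/
theorem exists_N : ∃ N : Subgroup G, N ≤ centralizer ({B.f a1} : Set G) ∧
    (∀ c ∈ centralizer ({B.f a1} : Set G), ∀ n ∈ N, c * n * c⁻¹ ∈ N) ∧
    (∀ c ∈ centralizer ({B.f a1} : Set G), c * c ∈ N) ∧
    UG.map B.f ≤ N ∧ ∃ P : Sylow 2 N, (P : Subgroup N) = (UG.map B.f).subgroupOf N := by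
  classical
  haveI : Fact (Nat.Prime 2) := ⟨Nat.prime_two⟩
  set C := centralizer ({B.f a1} : Set G)
  obtain ⟨c16, -, -, -, hcc, -⟩ := four_facts a1 (by simp)
  obtain ⟨hU4, hA8, hB8, hU, hA, hB, hB1, hA1, hA2, hB2, h21, h12, hne21, hzU, huU, -, -⟩ := UG_facts
  have hTcard : Nat.card ((B.centS a1).subgroupOf C) = 2 ^ 4 := by
    rw [Nat.card_congr (subgroupOfEquivOfLe (B.centS_le a1)).toEquiv, B.card_centS, hcc]; norm_num
  let S : Sylow 2 C := IsPGroup.toSylow (IsPGroup.of_card hTcard) fun h2 => by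
    have h32 : 32 ∣ Nat.card C := by
      rw [← ((B.centS a1).subgroupOf C).card_mul_index, hTcard]
      exact Nat.mul_dvd_mul_left 16 h2
    obtain ⟨c, -, hc⟩ := B.grown (by simp) h32
    exact K.not_conj_a ((B.conj_z_v hF K).trans (isConj_iff.2 ⟨c, hc⟩ : IsConj (B.f a1) _).symm)
  have hS : (S : Subgroup C) = (B.centS a1).subgroupOf C := rfl
  have memS : ∀ {g : C}, g ∈ (S : Subgroup C) → ∃ s : ↥SM, s * a1 = a1 * s ∧ B.f s = g := by
    intro g hg
    rw [hS] at hg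
    obtain ⟨s, hs, he⟩ := hg
    exact ⟨s, mem_centralizer_singleton_iff.1 hs, he⟩
  have inC : ∀ {s : ↥SM}, s * a1 = a1 * s → B.f s ∈ C := fun hs =>
    mem_centralizer_singleton_iff.2 (by rw [← map_mul, ← map_mul, hs])
  have inS : ∀ {s : ↥SM} (hs : s * a1 = a1 * s), (⟨B.f s, inC hs⟩ : C) ∈ (S : Subgroup C) :=
    fun {s} hs => by
      rw [hS]
      exact ⟨s, mem_centralizer_singleton_iff.2 hs, rfl⟩
  have memX : ∀ {X : Subgroup ↥SM} {g : C} {s : ↥SM}, B.f s = g →
      (g ∈ (X.map B.f).subgroupOf C ↔ s ∈ X) := fun {X g s} e => by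
    rw [mem_subgroupOf, ← e]
    exact mem_map_iff_mem B.inj
  have rel : ∀ X : Subgroup ↥SM, (∀ u ∈ X, u * a1 = a1 * u) → Nat.card X = 8 →
      ((X.map B.f).subgroupOf C).relIndex (S : Subgroup C) = 2 := by
    intro X hX h8
    have hle : (X.map B.f).subgroupOf C ≤ (S : Subgroup C) := by
      intro g hg
      obtain ⟨s, hs, he⟩ := hg
      rw [hS]
      exact ⟨s, mem_centralizer_singleton_iff.2 (hX s hs), he⟩
    have hm : Nat.card ((X.map B.f).subgroupOf C) = 8 := by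
      rw [Nat.card_congr (subgroupOfEquivOfLe (by rintro _ ⟨s, hs, rfl⟩; exact inC (hX s hs))).toEquiv,
        card_map_of_injective B.inj, h8]
    have hk := relIndex_mul_relIndex ⊥ ((X.map B.f).subgroupOf C) (S : Subgroup C) bot_le hle
    rw [relIndex_bot_left, relIndex_bot_left, hm, hS, hTcard] at hk
    rw [hS]; omega
  set aC : C := ⟨B.f a1, inC rfl⟩
  set xC : C := ⟨B.f a2, inC h21⟩
  have hac : ∀ g : C, g⁻¹ * aC * g = aC := fun g => by
    rw [mul_assoc, show aC * g = g * aC from Subtype.ext (mem_centralizer_singleton_iff.1 g.2).symm,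
      inv_mul_cancel_left]
  -- conjugates in the Sylow subgroup
  have conjs : ∀ (g : C) (r : ↥SM) (hr : r * a1 = a1 * r), g⁻¹ * ⟨B.f r, inC hr⟩ * g ∈ (S : Subgroup C) →
      ∃ s : ↥SM, s * a1 = a1 * s ∧ B.f s = ((g⁻¹ * ⟨B.f r, inC hr⟩ * g : C) : G) ∧
        IsConj (B.f r) (B.f s) := by
    intro g r hr hg
    obtain ⟨s, hs, he⟩ := memS hg
    refine ⟨s, hs, he, isConj_iff.2 ⟨(g : G)⁻¹, ?_⟩⟩
    rw [he, inv_inv]; rfl
  have conjU : ∀ (X : Subgroup ↥SM), (∀ u ∈ UG, u ∈ X) → ∀ (u : ↥SM) (hu : u ∈ UG) (g : C),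
      g⁻¹ * ⟨B.f u, inC (hU u hu).1⟩ * g ∈ (S : Subgroup C) →
        g⁻¹ * ⟨B.f u, inC (hU u hu).1⟩ * g ∈ (X.map B.f).subgroupOf C := by
    intro X hX u hu g hg
    obtain ⟨s, hs, he, hconj⟩ := conjs g u (hU u hu).1 hg
    refine (memX he).2 ?_
    by_cases hu1 : u = 1
    · subst hu1
      have : s = 1 := B.inj (by
        rw [map_one, ← isConj_one_right (α := G)]
        rwa [map_one] at hconj)
      rw [this]; exact one_mem X
    have hzc : IsConj B.z (B.f s) := (B.conj_E hF K (hU u hu).2.1 hu1).trans hconj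
    have ho : orderOf s = 2 := by
      rw [← orderOf_injective B.f B.inj]; exact Invol.orderOf_eq_two_of_isConj hzc B.orderOf_z
    rcases a1_inv s hs (Invol.orderOf_eq_two_iff.1 ho).2 (Invol.ne_one ho) with hsU | ⟨k, hk⟩
    · exact hX s hsU
    · exact absurd (hzc.trans (B.isConj_f rfl : IsConj (B.f s) (B.f (k * s * k⁻¹))))
        (B.not_conj_four h hF K hk)
  obtain ⟨φA, hφa, hφA⟩ := exists_sgn S _ (rel CA hA (by
      rw [Nat.card_eq_fintype_card, Fintype.card_subtype]; exact hA8))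
    (x := aC) (inS rfl) (Subtype.ext (by
      show B.f a1 * B.f a1 = 1
      rw [← map_mul, c16, map_one]))
    (fun g _ => by rw [hac]; exact fun hm => hA1 ((memX rfl).1 hm))
  have hx2 : a2 * a2 = 1 := (four_facts a2 (by simp)).1
  obtain ⟨φB, hφx, hφB⟩ := exists_sgn S _ (rel CB hB (by
      rw [Nat.card_eq_fintype_card, Fintype.card_subtype]; exact hB8))
    (x := xC) (inS h21) (Subtype.ext (by
      show B.f a2 * B.f a2 = 1
      rw [← map_mul, hx2, map_one]))
    (fun g hg hgM => by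
      obtain ⟨s, -, he, hconj⟩ := conjs g a2 h21 hg
      have hsB : s ∈ CB := (memX he).1 hgM
      have hso : orderOf s = 2 := by
        rw [← orderOf_injective B.f B.inj]
        exact Invol.orderOf_eq_two_of_isConj hconj (B.orderOf_f hx2 (four_facts a2 (by simp)).2.1)
      rcases CB_inv s hsB (Invol.orderOf_eq_two_iff.1 hso).2 with e | e | e | e
      · exact Invol.ne_one hso e
      · refine hne21 (B.inj ?_)
        have e1 : g⁻¹ * xC * g = aC := Subtype.ext (by rw [← he, e])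
        have e2 : xC = aC := by
          calc xC = g * (g⁻¹ * xC * g) * g⁻¹ := by group
            _ = g * aC * g⁻¹ := by rw [e1]
            _ = aC := by
              have := hac g⁻¹
              rwa [inv_inv] at this
        exact congrArg Subtype.val e2
      · exact B.not_conj_four h hF K (r := a2) (by simp)
          ((B.conj_E hF K (hU s e).2.1 (Invol.ne_one hso)).trans hconj.symm)
      · by_cases h1 : a1 * s = 1
        · have : s = a1 := by
            calc s = a1 * a1 * s := by rw [c16, one_mul]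
              _ = a1 := by rw [mul_assoc, h1, mul_one]
          rw [this] at hso he
          refine hne21 (B.inj ?_)
          have e1 : g⁻¹ * xC * g = aC := Subtype.ext (by rw [← he])
          have e2 : xC = aC := by
            calc xC = g * (g⁻¹ * xC * g) * g⁻¹ := by group
              _ = g * aC * g⁻¹ := by rw [e1]
              _ = aC := by
                have := hac g⁻¹
                rwa [inv_inv] at this
          exact congrArg Subtype.val e2
        refine B.not_conj_four h hF K (r := a3) (by simp) ((B.conj_E hF K (hU _ e).2.1 h1).trans ?_)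
        refine isConj_iff.2 ⟨(g : G), ?_⟩
        have hga := mem_centralizer_singleton_iff.1 g.2
        rw [← h12, map_mul, map_mul, he]
        show (g : G) * (B.f a1 * ((g : G)⁻¹ * B.f a2 * g)) * (g : G)⁻¹ = B.f a1 * B.f a2
        rw [show (g : G) * (B.f a1 * ((g : G)⁻¹ * B.f a2 * g)) * (g : G)⁻¹ =
          (g : G) * B.f a1 * (g : G)⁻¹ * B.f a2 by group, hga, mul_inv_cancel_right])
  have hBa : φB aC = 1 := hφB aC (inS rfl) (Subtype.ext (by
      show B.f a1 * B.f a1 = 1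
      rw [← map_mul, c16, map_one]))
    (fun g _ => by rw [hac]; exact (memX rfl).2 hB1)
  have hUker : ∀ (u : ↥SM) (hu : u ∈ UG), φA ⟨B.f u, inC (hU u hu).1⟩ = 1 ∧
      φB ⟨B.f u, inC (hU u hu).1⟩ = 1 := fun u hu =>
    ⟨hφA _ (inS (hU u hu).1) (Subtype.ext (by
        show B.f u * B.f u = 1
        rw [← map_mul, (hU u hu).2.2.2.2, map_one]))
      fun g hg => conjU CA (fun v hv => (hU v hv).2.2.1) u hu g hg,
    hφB _ (inS (hU u hu).1) (Subtype.ext (by
        show B.f u * B.f u = 1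
        rw [← map_mul, (hU u hu).2.2.2.2, map_one]))
      fun g hg => conjU CB (fun v hv => (hU v hv).2.2.2.1) u hu g hg⟩
  set N := (φA.ker ⊓ φB.ker).map C.subtype with hN
  have hNC : N ≤ C := map_subtype_le _
  have hnorm : (φA.ker ⊓ φB.ker).Normal := inferInstance
  have hconjN : ∀ c ∈ C, ∀ n ∈ N, c * n * c⁻¹ ∈ N := by
    rintro c hc _ ⟨n, hn, rfl⟩
    exact ⟨_, hnorm.conj_mem n hn ⟨c, hc⟩, rfl⟩
  have hUN : UG.map B.f ≤ N := by
    rintro _ ⟨u, hu, rfl⟩
    exact ⟨⟨B.f u, inC (hU u hu).1⟩, ⟨(hUker u hu).1, (hUker u hu).2⟩, rfl⟩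
  refine ⟨N, hNC, hconjN, ?_, hUN, ?_⟩
  · intro c hc
    refine ⟨⟨c, hc⟩ * ⟨c, hc⟩, ⟨?_, ?_⟩, rfl⟩
    · exact (map_mul φA _ _).trans (mul_two_key _ 1).1
    · exact (map_mul φB _ _).trans (mul_two_key _ 1).1
  -- the Sylow subgroup
  have hTN : ∀ s : ↥SM, s * a1 = a1 * s → B.f s ∈ N → s ∈ UG := by
    intro s hs hsN
    obtain ⟨n, ⟨hnA, hnB⟩, hne⟩ := hsN
    have hn : n = ⟨B.f s, inC hs⟩ := Subtype.ext hne
    subst hn
    have hnA' : φA ⟨B.f s, inC hs⟩ = 1 := hnA
    have hnB' : φB ⟨B.f s, inC hs⟩ = 1 := hnB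
    rcases CA_split s hs with e | e | e | e
    · exact e
    · have h1 := (hUker _ e).1
      rw [show (⟨B.f (s * a1), inC (hU _ e).1⟩ : C) = ⟨B.f s, inC hs⟩ * aC from Subtype.ext (map_mul _ _ _),
        map_mul, hnA', one_mul] at h1
      exact absurd h1 hφa
    · have h1 := (hUker _ e).2
      rw [show (⟨B.f (s * a2), inC (hU _ e).1⟩ : C) = ⟨B.f s, inC hs⟩ * xC from Subtype.ext (map_mul _ _ _),
        map_mul, hnB', one_mul] at h1
      exact absurd h1 hφx
    · have h1 := (hUker _ e).2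
      rw [show (⟨B.f (s * a2 * a1), inC (hU _ e).1⟩ : C) = ⟨B.f s, inC hs⟩ * xC * aC from
          Subtype.ext (by show B.f (s * a2 * a1) = B.f s * B.f a2 * B.f a1; rw [map_mul, map_mul]),
        map_mul, map_mul, hnB', hBa, one_mul, mul_one] at h1
      exact absurd h1 hφx
  have hp : IsPGroup 2 ((UG.map B.f).subgroupOf N) := IsPGroup.of_card (n := 2) (by
    rw [Nat.card_congr (subgroupOfEquivOfLe hUN).toEquiv, B.card_UG h hF K]; norm_num)
  obtain ⟨Q, hQ⟩ := hp.exists_le_sylow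
  refine ⟨Q, (eq_of_le_of_card_ge hQ ?_).symm⟩
  set Q' := ((Q : Subgroup N).map N.subtype).subgroupOf C
  have hQC : (Q : Subgroup N).map N.subtype ≤ C := (map_subtype_le _).trans hNC
  have hQp : IsPGroup 2 Q' := (Q.2.map _).comap_subtype
  obtain ⟨c, -, hc⟩ := sylow_conj_into S (le_top : (S : Subgroup C) ≤ ⊤) hQp le_top
  rw [Nat.card_congr (subgroupOfEquivOfLe hUN).toEquiv,
    ← card_map_of_injective (K := (Q : Subgroup N)) N.subtype_injective,
    ← card_map_of_injective (K := (Q : Subgroup N).map N.subtype)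
      (f := (MulAut.conj (c : G)).toMonoidHom) (MulEquiv.injective _)]
  refine card_le_of_le ?_
  rintro _ ⟨x, hx, rfl⟩
  obtain ⟨s, hs, he⟩ := memS (hc ⟨x, hQC hx⟩ hx)
  exact ⟨s, hTN s hs (by rw [he]; exact hconjN _ c.2 _ (map_subtype_le _ hx)), he⟩

/-- The centralizer of `a1` lies in the normalizer of the closure. -/
theorem cent_a1_le : centralizer ({B.f a1} : Set G) ≤ B.MW := by
  classical
  haveI : Fact (Nat.Prime 2) := ⟨Nat.prime_two⟩
  obtain ⟨hU4, -, -, hU, -, -, -, -, -, -, -, -, -, hzU, huU, huz, hu1⟩ := UG_facts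
  obtain ⟨N, hNC, hconjN, hsq, hUN, P, hP⟩ := B.exists_N h hF K
  set C := centralizer ({B.f a1} : Set G)
  -- 2-subgroups of `N` move into `UG`
  have move : ∀ R : Subgroup G, IsPGroup 2 R → R ≤ N →
      ∃ n ∈ N, ∀ x ∈ R, ∃ u ∈ UG, n * x * n⁻¹ = B.f u := by
    intro R hR hRN
    obtain ⟨n, -, hn⟩ := sylow_conj_into P (le_top : (P : Subgroup N) ≤ ⊤)
      (hR.comap_subtype (K := N)) le_top
    refine ⟨n, n.2, fun x hx => ?_⟩
    have : n * ⟨x, hRN hx⟩ * n⁻¹ ∈ (P : Subgroup N) := hn ⟨x, hRN hx⟩ hx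
    rw [hP] at this
    obtain ⟨u, hu, he⟩ := this
    exact ⟨u, hu, he.symm⟩
  have hinvN : ∀ u ∈ N, orderOf u = 2 → IsConj B.z u := by
    intro u hu hu2
    obtain ⟨n, hn, hns⟩ := move (zpowers u)
      (IsPGroup.of_card (n := 1) (by rw [Nat.card_zpowers, hu2, pow_one])) (zpowers_le.2 hu)
    obtain ⟨r, hr, he⟩ := hns u (mem_zpowers u)
    have hr1 : r ≠ 1 := fun e => Invol.ne_one hu2 (by rwa [e, map_one, conj_eq_one_iff] at he)
    exact (B.conj_E hF K (hU r hr).2.1 hr1).trans (isConj_iff.2 ⟨n, he⟩ : IsConj u _).symm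
  have hzN : B.z ∈ N := hUN (mem_map_of_mem _ hzU)
  have huN : B.f us ∈ N := hUN (mem_map_of_mem _ huU)
  by_cases hNM : N ≤ B.MW
  · intro c hc
    obtain ⟨n, hn, hns⟩ := move ((UG.map B.f).map (MulAut.conj c).toMonoidHom)
      (IsPGroup.of_card (n := 2) (by
        rw [card_map_of_injective (MulEquiv.injective _), B.card_UG h hF K]; norm_num))
      (by rintro _ ⟨x, hx, rfl⟩; exact hconjN c hc x (hUN hx))
    obtain ⟨p, hp, hpe⟩ := hns (c * B.z * c⁻¹) ⟨_, mem_map_of_mem _ hzU, rfl⟩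
    obtain ⟨q, hq, hqe⟩ := hns (c * B.f us * c⁻¹) ⟨_, mem_map_of_mem _ huU, rfl⟩
    have e1 : n * c * B.f zs * (n * c)⁻¹ = B.f p := by rw [← hpe, Base.z]; group
    have e2 : n * c * B.f us * (n * c)⁻¹ = B.f q := by rw [← hqe]; group
    have hm : n * c ∈ B.MW := by
      refine B.mem_MW (p := B.f zs) (q := B.f us)
        (B.four_E hF K (hU zs hzU).2.1 (hU us huU).2.1 zs_facts.1 hu1 fun e => huz e.symm) ?_
      rw [e1, e2]
      refine B.four_E hF K (hU p hp).2.1 (hU q hq).2.1 ?_ ?_ ?_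
      · intro e
        rw [e, map_one, conj_eq_one_iff] at e1
        exact zs_facts.1 (B.inj (e1.trans (map_one B.f).symm))
      · intro e
        rw [e, map_one, conj_eq_one_iff] at e2
        exact hu1 (B.inj (e2.trans (map_one B.f).symm))
      · intro e
        exact huz (B.inj (mul_left_cancel (mul_right_cancel (e2.trans (e ▸ e1.symm)))))
    simpa using mul_mem (inv_mem (hNM hn)) hm
  exfalso
  obtain ⟨u0, hu0, hu0M⟩ := SetLike.not_le_iff_exists.1 hNM
  set H := B.MW.subgroupOf N with hH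
  have hord : ∀ t : N, orderOf (t : G) = orderOf t := fun t => Subgroup.orderOf_coe t
  have hse : IsStronglyEmbedded H := by
    refine (Invol.se_iff H).2 ⟨fun e => hu0M (mem_subgroupOf.1 (show (⟨u0, hu0⟩ : N) ∈ H from e.symm ▸ mem_top _)),
      even_iff_two_dvd.2 ?_, fun t g ht htH hg => ?_⟩
    · have := Subgroup.orderOf_dvd_natCard H (show (⟨B.z, hzN⟩ : N) ∈ H from
        mem_subgroupOf.2 (B.z_mem hF K))
      rwa [Subgroup.orderOf_mk, B.orderOf_z] at this
    · have := B.strong hF K (mem_subgroupOf.1 htH) (hinvN _ t.2 (by rw [hord, ht]))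
        (g := (g : G)⁻¹) (by simpa using mem_subgroupOf.1 hg)
      exact mem_subgroupOf.2 (inv_mem_iff.1 this)
  set u : N := ⟨u0 * B.z * u0⁻¹, mul_mem (mul_mem hu0 hzN) (inv_mem hu0)⟩ with hu
  have hu2 : orderOf u = 2 := by rw [← hord]; exact (Invol.orderOf_conj _ _).trans B.orderOf_z
  have huH : u ∉ H := fun hm => hu0M (B.strong hF K (B.z_mem hF K) (IsConj.refl _) (mem_subgroupOf.1 hm))
  have hDodd := hse.2.2 u huH
  set DG := (H ⊓ H.map (MulAut.conj u).toMonoidHom).map N.subtype with hDG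
  have hDG' : DG ≤ N ⊓ B.MW := by
    rintro _ ⟨d, hd, rfl⟩
    exact ⟨d.2, mem_subgroupOf.1 hd.1⟩
  have trans' : ∀ s t : G, s ∈ N → t ∈ N → s ∈ B.MW → t ∈ B.MW → orderOf s = 2 → orderOf t = 2 →
      ∃ d ∈ DG, d * s * d⁻¹ = t := by
    intro s t hsN htN hsM htM hs ht
    obtain ⟨d, hd, he⟩ := (S1225.result H hse u hu2 huH ⟨s, hsN⟩ ⟨t, htN⟩
      (by rw [Subgroup.orderOf_mk, hs]) (mem_subgroupOf.2 hsM)
      (by rw [Subgroup.orderOf_mk, ht]) (mem_subgroupOf.2 htM)).1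
    exact ⟨d, mem_map_of_mem _ hd, congrArg Subtype.val he⟩
  -- the quotient
  obtain ⟨D, hD, hv, hb⟩ := B.exists_modM hF K
  set π := QuotientGroup.mk' B.NW
  have hfM := B.f_mem hF K
  have hDf : ∀ s, D.f s = π ⟨B.f s, hfM s⟩ := fun s => hD s (hfM s)
  have hπa : ∀ {m : B.MW}, (m : G) ∈ C → π m * D.f a1 = D.f a1 * π m := fun {m} hm => by
    rw [hDf]
    exact congrArg π (show m * ⟨_, hfM a1⟩ = ⟨_, hfM a1⟩ * m from
      Subtype.ext (mem_centralizer_singleton_iff.1 hm))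
  rcases D.dicho hv with ⟨N8, hN8, hc8, h28, hcard8⟩ | ⟨-, h240⟩
  · obtain ⟨d, hd, he⟩ := trans' B.z (B.f us) hzN huN (B.z_mem hF K) (hfM us) B.orderOf_z
      (B.orderOf_f (hU us huU).2.2.2.2 hu1)
    obtain ⟨hdN, hdM⟩ := hDG' hd
    obtain ⟨e', he', hye⟩ := D.normal_eight hv hb hN8 hc8 h28 hcard8 (π ⟨d, hdM⟩) bs
      EG_facts.2.2.2.2.2.1
    have hya := hπa (m := ⟨d, hdM⟩) (hNC hdN)
    have h1 : π ⟨d, hdM⟩ * D.f zs * (π ⟨d, hdM⟩)⁻¹ = D.f us := by
      rw [hDf, hDf]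
      exact congrArg π (show (⟨d, hdM⟩ : B.MW) * ⟨_, hfM zs⟩ * ⟨d, hdM⟩⁻¹ = ⟨_, hfM us⟩ from Subtype.ext he)
    have h2 : D.f us = D.f (e' * a1 * e'⁻¹ * a1⁻¹) := by
      rw [← h1, ← comm_a1.2]
      simp only [map_mul, map_inv]
      rw [show ∀ y : B.MW ⧸ B.NW, y * (D.f bs * D.f a1 * (D.f bs)⁻¹ * (D.f a1)⁻¹) * y⁻¹ =
        y * D.f bs * y⁻¹ * (y * D.f a1 * y⁻¹) * (y * D.f bs * y⁻¹)⁻¹ * (y * D.f a1 * y⁻¹)⁻¹ from
        fun y => by group, hye, hya, mul_inv_cancel_right]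
    rcases comm_a1.1 e' he' with e | e <;> rw [e] at h2
    exacts [hu1 (D.inj h2), huz (D.inj h2)]
  -- the second case
  have hWodd := B.NW_odd hF K
  have ha1o : a1 * a1 = 1 := (four_facts a1 (by simp)).1
  have ha1ne : a1 ≠ 1 := (four_facts a1 (by simp)).2.1
  have hna : ¬ IsConj (D.f zs) (D.f a1) := by
    intro hc
    obtain ⟨g, hg⟩ := isConj_iff.1 hc
    obtain ⟨g, rfl⟩ := QuotientGroup.mk'_surjective B.NW g
    rw [hDf, hDf, ← map_inv, ← map_mul, ← map_mul] at hg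
    have hg' : π (g * ⟨_, hfM zs⟩ * g⁻¹ * ⟨_, hfM a1⟩) = 1 := by
      rw [map_mul, hg, ← map_mul, show (⟨_, hfM a1⟩ : B.MW) * ⟨_, hfM a1⟩ = 1 from Subtype.ext (by
        show B.f a1 * B.f a1 = 1
        rw [← map_mul, ha1o, map_one]), map_one]
    have hmem : (g : G) * B.z * (g : G)⁻¹ * B.f a1 ∈ B.W :=
      B.mem_NW.1 ((QuotientGroup.eq_one_iff _).1 hg')
    refine K.not_conj_a ((isConj_iff.2 ⟨(g : G), rfl⟩ : IsConj B.z _).trans (Invol.isConj_of_odd
      ((Invol.orderOf_conj _ _).trans B.orderOf_z) (B.orderOf_f ha1o ha1ne)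
      (Nat.odd_iff.2 ?_)))
    have h2 : ¬ 2 ∣ orderOf ((g : G) * B.z * (g : G)⁻¹ * B.f a1) := fun h2 =>
      (B.W_spec hF K).1 (h2.trans (Subgroup.orderOf_dvd_natCard _ hmem))
    omega
  have hDa : orderOf (D.f a1) = 2 := by
    rw [orderOf_injective D.f D.inj]
    exact Invol.orderOf_eq_two_iff.2 ⟨ha1ne, ha1o⟩
  obtain ⟨hcard240, h15⟩ := h240 _ hDa hna
  set CA' := centralizer ({D.f a1} : Set (B.MW ⧸ B.NW))
  set HN := (N ⊓ B.MW).subgroupOf B.MW with hHN
  set HB := HN.map π with hHB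
  have hHBC : HB ≤ CA' := by
    rintro _ ⟨m, hm, rfl⟩
    exact mem_centralizer_singleton_iff.2 (hπa (hNC (mem_subgroupOf.1 hm).1))
  have hsqB : ∀ x ∈ CA', x * x ∈ HB := by
    intro x hx
    obtain ⟨g, rfl⟩ := QuotientGroup.mk'_surjective B.NW x
    have hc : g * ⟨_, hfM a1⟩ * g⁻¹ * (⟨_, hfM a1⟩ : B.MW)⁻¹ ∈ B.NW := by
      rw [← QuotientGroup.eq_one_iff]
      show π (g * ⟨_, hfM a1⟩ * g⁻¹ * (⟨_, hfM a1⟩ : B.MW)⁻¹) = 1
      rw [map_mul, map_mul, map_mul, map_inv, map_inv, ← hDf,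
        show π g * D.f a1 = D.f a1 * π g from mem_centralizer_singleton_iff.1 hx]
      group
    obtain ⟨w, hw, hwg⟩ := lift_comm (inferInstance : B.NW.Normal) hWodd (show (⟨_, hfM a1⟩ : B.MW) *
      ⟨_, hfM a1⟩ = 1 from Subtype.ext (by
        show B.f a1 * B.f a1 = 1
        rw [← map_mul, ha1o, map_one])) hc
    refine ⟨(w * g) * (w * g), mem_subgroupOf.2 ⟨hsq _ ?_, SetLike.coe_mem _⟩, ?_⟩
    · exact mem_centralizer_singleton_iff.2 (congrArg Subtype.val hwg)
    · rw [map_mul, map_mul, show π w = 1 from (QuotientGroup.eq_one_iff _).2 hw, one_mul]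
  have hoddB : ∀ p, p.Prime → p ≠ 2 → p ∣ Nat.card CA' → p ∣ Nat.card HB := by
    intro p hp hp2 hd
    haveI := Fact.mk hp
    obtain ⟨x, hx⟩ := exists_prime_orderOf_dvd_card' (G := CA') p hd
    rw [← Subgroup.orderOf_coe] at hx
    obtain ⟨k, hk⟩ := hp.odd_of_ne_two hp2
    have hmem : (x : B.MW ⧸ B.NW) ∈ HB := by
      have := pow_mem (hsqB x x.2) (k + 1)
      rwa [← pow_two, ← pow_mul, show 2 * (k + 1) = p + 1 by omega, pow_succ, ← hx, pow_orderOf_eq_one,
        one_mul] at this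
    exact hx ▸ Subgroup.orderOf_dvd_natCard HB hmem
  have hUB : ∀ u ∈ UG, D.f u ∈ HB := fun u hu => by
    rw [hDf]
    exact mem_map_of_mem _ (mem_subgroupOf.2 ⟨hUN (mem_map_of_mem _ hu), hfM u⟩)
  have hUimg : Nat.card (UG.map D.f) = 4 := by
    rw [card_map_of_injective D.inj, Nat.card_eq_fintype_card, Fintype.card_subtype]
    exact hU4
  have h8 : ¬ 8 ∣ Nat.card HB := by
    intro h8
    have h1 : Nat.card HB ∣ Nat.card N := by
      refine (card_map_dvd _ _).trans ?_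
      rw [hHN, Nat.card_congr (subgroupOfEquivOfLe inf_le_right).toEquiv]
      exact card_dvd_of_le inf_le_left
    have h2 := h8.trans h1
    rw [← (P : Subgroup N).card_mul_index, hP, Nat.card_congr (subgroupOfEquivOfLe hUN).toEquiv,
      B.card_UG h hF K] at h2
    exact P.not_dvd_index (by rw [hP]; omega)
  have h60 : Nat.card HB = 60 := by
    have h3 := hoddB 3 Nat.prime_three (by norm_num) (by rw [hcard240]; norm_num)
    have h5 := hoddB 5 Nat.prime_five (by norm_num) (by rw [hcard240]; norm_num)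
    have h4 : 4 ∣ Nat.card HB := hUimg ▸ card_dvd_of_le (by rintro _ ⟨u, hu, rfl⟩; exact hUB u hu)
    have hd : Nat.card HB ∣ 240 := hcard240 ▸ card_dvd_of_le hHBC
    have hle := Nat.le_of_dvd (by norm_num) hd
    have h60 : 60 ∣ Nat.card HB := Nat.Coprime.mul_dvd_of_dvd_of_dvd (by norm_num : Nat.Coprime 12 5)
      (Nat.Coprime.mul_dvd_of_dvd_of_dvd (by norm_num : Nat.Coprime 4 3) h4 h3) h5
    obtain ⟨j, hj⟩ := h60
    rw [hj] at hd h8 hle ⊢
    have hj4 : j ≤ 4 := by omega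
    interval_cases j <;> omega
  set CZ := HB ⊓ centralizer ({D.f zs} : Set (B.MW ⧸ B.NW)) with hCZ
  have hCZ4 : Nat.card CZ ≤ 4 := by
    have hp2 : ∀ p, p.Prime → p ∣ Nat.card CZ → p = 2 := by
      intro p hp hd
      by_contra hp2
      haveI := Fact.mk hp
      obtain ⟨x, hx⟩ := exists_prime_orderOf_dvd_card' (G := CZ) p hd
      rw [← Subgroup.orderOf_coe] at hx
      have hx1 : (x : B.MW ⧸ B.NW) = 1 := by
        refine D.odd_free (mem_centralizer_singleton_iff.1 x.2.2) ?_ (Or.inl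
          ⟨(four_facts a1 (by simp)).2.2.2.1, ?_⟩) (mem_centralizer_singleton_iff.1 (hHBC x.2.1))
        · rw [hx]
          exact fun h2 => hp2 ((Nat.prime_dvd_prime_iff_eq Nat.prime_two hp).1 h2).symm
        · rintro (e | e)
          exacts [ha1ne e, (four_facts a1 (by simp)).2.2.1 (e.trans (one_mul zs))]
      rw [hx1, orderOf_one] at hx
      exact hp.ne_one hx.symm
    have hd : Nat.card CZ ∣ 60 := h60 ▸ card_dvd_of_le inf_le_left
    have hle := Nat.le_of_dvd (by norm_num) hd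
    have hdiv : ∀ p, p.Prime → p ≠ 2 → ¬ p ∣ Nat.card CZ := fun p hp hne hd' => hne (hp2 p hp hd')
    have h3 := hdiv 3 Nat.prime_three (by norm_num)
    have h5 := hdiv 5 Nat.prime_five (by norm_num)
    have h4 : Nat.card CZ ∣ 4 := by
      refine Nat.Coprime.dvd_of_dvd_mul_right ((Nat.prime_three.coprime_iff_not_dvd.2 h3).symm) ?_
      refine Nat.Coprime.dvd_of_dvd_mul_right ((Nat.prime_five.coprime_iff_not_dvd.2 h5).symm) ?_
      norm_num
      exact hd
    exact Nat.le_of_dvd (by norm_num) h4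
  set J := (DG.subgroupOf B.MW).map π with hJ
  have hJH : J ≤ HB := map_mono fun x hx => mem_subgroupOf.2 (hDG' (mem_subgroupOf.1 hx))
  have hJodd : ¬ 2 ∣ Nat.card J := fun h2 => by
    have h1 : Nat.card J ∣ Nat.card DG := by
      refine (card_map_dvd _ _).trans ?_
      rw [Nat.card_congr (subgroupOfEquivOfLe (hDG'.trans inf_le_right)).toEquiv]
    rw [hDG, card_map_of_injective N.subtype_injective] at h1
    exact (Nat.not_even_iff_odd.2 hDodd) (even_iff_two_dvd.2 (h2.trans h1))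
  have hcover : ∀ y ∈ HB, ∃ j ∈ J, ∃ c ∈ CZ, y = j * c := by
    rintro _ ⟨m, hm, rfl⟩
    obtain ⟨hmN, hmM⟩ := mem_subgroupOf.1 hm
    obtain ⟨d, hd, he⟩ := trans' B.z ((m : G) * B.z * (m : G)⁻¹) hzN
      (mul_mem (mul_mem hmN hzN) (inv_mem hmN)) (B.z_mem hF K)
      (mul_mem (mul_mem hmM (B.z_mem hF K)) (inv_mem hmM)) B.orderOf_z
      ((Invol.orderOf_conj _ _).trans B.orderOf_z)
    set dM : B.MW := ⟨d, (hDG' hd).2⟩
    have hj : π dM ∈ J := mem_map_of_mem _ (mem_subgroupOf.2 hd)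
    have hmB : π m ∈ HB := mem_map_of_mem _ hm
    refine ⟨π dM, hj, (π dM)⁻¹ * π m,
      mem_inf.2 ⟨HB.mul_mem (HB.inv_mem (hJH hj)) hmB, mem_centralizer_singleton_iff.2 ?_⟩,
      by rw [mul_inv_cancel_left]⟩
    rw [hDf, ← map_inv, ← map_mul, ← map_mul, ← map_mul]
    refine congrArg π (Subtype.ext ?_)
    show d⁻¹ * (m : G) * B.z = B.z * (d⁻¹ * (m : G))
    calc d⁻¹ * (m : G) * B.z = d⁻¹ * ((m : G) * B.z * (m : G)⁻¹) * m := by group
      _ = B.z * (d⁻¹ * (m : G)) := by rw [← he]; group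
  have hJ15 : Nat.card J = 15 := by
    have hle : 60 ≤ Nat.card J * Nat.card CZ := by
      rw [← h60, ← Nat.card_prod]
      refine Nat.card_le_card_of_surjective (fun p : J × CZ =>
        (⟨(p.1 : B.MW ⧸ B.NW) * p.2, mul_mem (hJH p.1.2) p.2.2.1⟩ : HB)) fun y => ?_
      obtain ⟨j, hj, c, hc, e⟩ := hcover y.1 y.2
      exact ⟨(⟨j, hj⟩, ⟨c, hc⟩), Subtype.ext e.symm⟩
    have h15le : 15 ≤ Nat.card J := by
      have := Nat.mul_le_mul_left (Nat.card J) hCZ4
      omega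
    have hd : Nat.card J ∣ 60 := h60 ▸ card_dvd_of_le hJH
    have hle60 := Nat.le_of_dvd (by norm_num) hd
    interval_cases hk : Nat.card J <;> omega
  obtain ⟨g, hg⟩ := ElatFree.exists_order_fifteen hJ15
  rw [← Subgroup.orderOf_coe] at hg
  have hg15 : (g : B.MW ⧸ B.NW) ^ 15 = 1 := by rw [← hg, pow_orderOf_eq_one]
  rcases h15 _ (mem_centralizer_singleton_iff.1 (hHBC (hJH g.2))) hg15 with e | e
  · have := orderOf_dvd_of_pow_eq_one e
    rw [hg] at this
    norm_num at this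
  · have := orderOf_dvd_of_pow_eq_one e
    rw [hg] at this
    norm_num at this

end Base

end Cfsg.Agent.M12Type
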