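import Cfsg.Agent.M12Type.Balance
import Cfsg.Agent.M12Type.CentQuot

/-!
The normalizer of the closure of the cores controls the class of the central involution and contains
its centralizers.
-/

set_option autoImplicit false

namespace Cfsg.Agent.M12Type

open Subgroup

namespace Base

variable {G : Type*} [Group G] [Finite G] (B : Base G)

/-- The closure of the cores over the four-group of `zs` and `vs`. -/
def W : Subgroup G :=
  four B.z (B.f vs)

/-- The normalizer of the closure. -/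
def MW : Subgroup G :=
  normalizer (B.W : Set G)

/-- The closure inside its normalizer. -/
def NW : Subgroup B.MW :=
  B.W.subgroupOf B.MW

instance : (B.NW).Normal :=
  normal_subgroupOf_of_le_normalizer le_rfl

variable (hF : B.Fus) (K : B.Cent)
include hF K

theorem conj_z_v : IsConj B.z (B.f vs) := by
  obtain ⟨g, hg, -⟩ := hF.mover
  exact isConj_iff.2 ⟨g, hg⟩

theorem conj_z_b : IsConj B.z (B.f bs) := by
  obtain ⟨c, -, hc⟩ := K.conj_b
  exact (B.conj_z_v hF K).trans (isConj_iff.2 ⟨c, hc⟩)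

theorem conj_E {a : ↥SM} (ha : a ∈ EG) (ha1 : a ≠ 1) : IsConj B.z (B.f a) := by
  rcases EG_facts.2.2.2.2.2.2.2.2 a ha ha1 with rfl | ⟨g, hg⟩
  · exact IsConj.refl _
  · simp only [List.mem_cons, List.not_mem_nil, or_false] at hg
    rcases hg with h | h
    · exact (B.conj_z_v hF K).trans (B.isConj_f h).symm
    · exact (B.conj_z_b hF K).trans (B.isConj_f h).symm

theorem W_spec : ¬ 2 ∣ Nat.card B.W ∧ B.W ⊓ centralizer ({B.z} : Set G) = theta B.z ∧
    ∀ p ∈ EG, ∀ q ∈ EG, p ≠ 1 → q ≠ 1 → p ≠ q → four (B.f p) (B.f q) = B.W := by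
  obtain ⟨W', hodd, hcap, hfour⟩ := B.sig K hF EG EG_facts.1 EG_facts.2.1
    (by rw [Nat.card_eq_fintype_card, Fintype.card_subtype]; exact EG_facts.2.2.1)
    (fun a ha ha1 => B.conj_E hF K ha ha1)
  have h : B.W = W' := hfour zs EG_facts.2.2.2.1 vs EG_facts.2.2.2.2.1 zs_facts.1 v_facts.2.1
    (fun e => v_facts.2.2.1 e.symm)
  rw [h]
  exact ⟨hodd, hcap zs EG_facts.2.2.2.1 zs_facts.1, hfour⟩

theorem four_E {p q : ↥SM} (hp : p ∈ EG) (hq : q ∈ EG) (hp1 : p ≠ 1) (hq1 : q ≠ 1) (hpq : p ≠ q) :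
    four (B.f p) (B.f q) = B.W :=
  (B.W_spec hF K).2.2 p hp q hq hp1 hq1 hpq

theorem four_R (ht : IsConj B.z (B.f ts)) {p q : ↥SM} (hp : p ∈ RG) (hq : q ∈ RG) (hp1 : p ≠ 1)
    (hq1 : q ≠ 1) (hpq : p ≠ q) : four (B.f p) (B.f q) = B.W := by
  obtain ⟨W', -, -, hfour⟩ := B.sig K hF RG RG_facts.1 RG_facts.2.1
    (by rw [Nat.card_eq_fintype_card, Fintype.card_subtype]; exact RG_facts.2.2.1)
    (fun a ha ha1 => by
      rcases RG_facts.2.2.2.2.2.2 a ha with h | h | ⟨g, hg⟩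
      · exact absurd h ha1
      · simp only [List.mem_cons, List.not_mem_nil, or_false] at h
        rcases h with rfl | rfl | rfl
        · exact IsConj.refl _
        · exact B.conj_z_v hF K
        · exact B.conj_E hF K EG_facts.2.2.2.2.2.2.1 v_facts.2.2.2.1
      · exact ht.trans (B.isConj_f hg).symm)
  rw [hfour p hp q hq hp1 hq1 hpq]
  exact (hfour zs RG_facts.2.2.2.1 vs RG_facts.2.2.2.2.1 zs_facts.1 v_facts.2.1
    (fun e => v_facts.2.2.1 e.symm)).symm

omit hF K in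
theorem mem_MW {g p q : G} (h1 : four p q = B.W) (h2 : four (g * p * g⁻¹) (g * q * g⁻¹) = B.W) :
    g ∈ B.MW := by
  refine mem_normalizer_of_le fun w hw => ?_
  rw [← h2, four_conj_map, h1]
  exact ⟨w, hw, rfl⟩

omit hF K in
theorem W_le : B.W ≤ B.MW := le_normalizer

theorem theta_z_le : theta B.z ≤ B.W := (B.W_spec hF K).2.1.ge.trans inf_le_left

theorem centralizer_le : centralizer ({B.z} : Set G) ≤ B.MW := by
  obtain ⟨x, hxz, -, -, hxfix, hxE, -, hcov⟩ := K.structure'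
  have hbase : four (B.f zs) (B.f vs) = B.W := rfl
  have hzc : ∀ {g : G}, Commute g B.z → g * B.f zs * g⁻¹ = B.f zs := fun h => by
    show _ * B.z * _ = B.z
    rw [h.eq, mul_inv_cancel_right]
  have hf : ∀ s, B.f s ∈ B.MW := fun s => by
    refine B.mem_MW hbase ?_
    rw [hzc (B.comm_z s), ← B.conj_f]
    refine B.four_E hF K EG_facts.2.2.2.1 (EG_facts.2.2.2.2.2.2.2.1 s vs EG_facts.2.2.2.2.1)
      zs_facts.1 (fun e => v_facts.2.1 (conj_eq_one_iff.1 e)) fun e => ?_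
    rcases v_facts.2.2.2.2.2.2.1 s with h | h <;> rw [h] at e
    · exact v_facts.2.2.1 e.symm
    · exact v_facts.2.1 (right_eq_mul.1 e)
  have hx : x ∈ B.MW := by
    refine B.mem_MW hbase ?_
    obtain ⟨q', hq', he⟩ := hxE vs (mem_EG.1 EG_facts.2.2.2.2.1)
    rw [hzc hxz, he]
    refine B.four_E hF K EG_facts.2.2.2.1 (mem_EG.2 hq') zs_facts.1 (fun e => ?_) (fun e => ?_)
    · rw [e, map_one, conj_eq_one_iff, ← map_one B.f] at he
      exact v_facts.2.1 (B.inj he)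
    · rw [← e, ← hzc hxz] at he
      exact v_facts.2.2.1 (B.inj (mul_left_cancel (mul_right_cancel he)))
  intro g hg
  obtain ⟨o, ho, s, i, rfl⟩ := hcov g (mem_centralizer_singleton_iff.1 hg)
  exact mul_mem (mul_mem (B.W_le (B.theta_z_le hF K ho)) (hf s)) (pow_mem hx _)

theorem range_le_MW : B.f.range ≤ B.MW := B.range_le.trans (B.centralizer_le hF K)

theorem f_mem (s : ↥SM) : B.f s ∈ B.MW := B.range_le_MW hF K ⟨s, rfl⟩

theorem z_mem : B.z ∈ B.MW := B.f_mem hF K zs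

omit hF K in
theorem conj_class {u g : G} (h : IsConj B.z u) : IsConj B.z (g * u * g⁻¹) :=
  h.trans (isConj_iff.2 ⟨g, rfl⟩)

/-- An element mapping `z` to `vs` and normalizing their four-group. -/
theorem exists_mover : ∃ g ∈ B.MW, g * B.z * g⁻¹ = B.f vs := by
  obtain ⟨g, hg, hq⟩ := hF.mover
  refine ⟨g, B.mem_MW (p := B.z) (q := B.f vs) rfl ?_, hg⟩
  obtain ⟨q', hq', he⟩ := hq vs (by simp)
  rw [hg, he]
  simp only [List.mem_cons, List.not_mem_nil, or_false] at hq'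
  rcases hq' with rfl | rfl | rfl
  · exact B.four_E hF K EG_facts.2.2.2.2.1 EG_facts.2.2.2.1 v_facts.2.1 zs_facts.1 v_facts.2.2.1
  · exact absurd (mul_left_cancel (mul_right_cancel (he.trans hg.symm)) : B.f vs = B.z)
      (fun e => v_facts.2.2.1 (B.inj e))
  · exact B.four_E hF K EG_facts.2.2.2.2.1 EG_facts.2.2.2.2.2.2.1 v_facts.2.1 v_facts.2.2.2.1
      (fun e => zs_facts.1 (left_eq_mul.1 e))

theorem exists_mover_b : ∃ g ∈ B.MW, g * B.z * g⁻¹ = B.f bs := by
  obtain ⟨g, hg, he⟩ := B.exists_mover hF K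
  obtain ⟨c, hc, hce⟩ := K.conj_b
  refine ⟨c * g, mul_mem (B.centralizer_le hF K (mem_centralizer_singleton_iff.2 hc.eq)) hg, ?_⟩
  rw [← hce, ← he]; group

/-- The conjugates of `z` in the normalizer are conjugate to it there. -/
theorem z_ctrl {u : G} (hu : u ∈ B.MW) (hz : IsConj B.z u) : ∃ m ∈ B.MW, m * u * m⁻¹ = B.z := by
  haveI : Fact (Nat.Prime 2) := ⟨Nat.prime_two⟩
  have hu2 := Invol.orderOf_eq_two_of_isConj hz B.orderOf_z
  obtain ⟨d, hd, hds⟩ := B.conj_into (B.range_le_MW hF K)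
    (IsPGroup.of_card (n := 1) (by rw [Nat.card_zpowers, hu2, pow_one]) : IsPGroup 2 (zpowers u))
    (zpowers_le.2 hu)
  obtain ⟨r, hr⟩ := hds u (mem_zpowers u)
  by_cases hrz : r = zs
  · exact ⟨d, hd, by rw [hr, hrz]; rfl⟩
  have hr2 : orderOf (B.f r) = 2 := by rw [← hr, Invol.orderOf_conj, hu2]
  obtain ⟨c, hc, hc'⟩ := hF.extremal (B.f r) hr2 (B.comm_z r) (hr ▸ B.conj_class hz)
    (fun e => hrz (B.inj e))
  have hcM : c ∈ B.MW := B.centralizer_le hF K (mem_centralizer_singleton_iff.2 hc.eq)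
  have key : ∀ k ∈ B.MW, k * (c * B.f r * c⁻¹) * k⁻¹ = B.z → ∃ m ∈ B.MW, m * u * m⁻¹ = B.z :=
    fun k hk he => ⟨k * c * d, mul_mem (mul_mem hk hcM) hd, by rw [← he, ← hr]; group⟩
  rcases hc' with h | h
  · obtain ⟨g, hg, hge⟩ := B.exists_mover hF K
    exact key g⁻¹ (inv_mem hg) (by rw [h, ← hge]; group)
  have ht : IsConj B.z (B.f ts) := h ▸ B.conj_class (hr ▸ B.conj_class hz)
  obtain ⟨k, hk⟩ := isConj_iff.1 ht.symm
  set w := k * B.z * k⁻¹ with hw
  have hwz : Commute w B.z := by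
    show w * B.z = B.z * w
    have h1 : k * B.z * k⁻¹ * (k * B.f ts * k⁻¹) = k * B.f ts * k⁻¹ * (k * B.z * k⁻¹) := by
      rw [show k * B.z * k⁻¹ * (k * B.f ts * k⁻¹) = k * (B.z * B.f ts) * k⁻¹ by group,
        ← (B.comm_z ts).eq]
      group
    rwa [hk] at h1
  have hwne : w ≠ B.z := fun e =>
    t_facts.2.2.1 (B.inj (mul_left_cancel (mul_right_cancel (hk.trans e.symm))))
  obtain ⟨c', hc'z, hcc⟩ := hF.extremal w (by rw [hw, Invol.orderOf_conj, B.orderOf_z]) hwz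
    (isConj_iff.2 ⟨k, rfl⟩) hwne
  set m := c' * k with hm
  have hm1 : m * B.f ts * m⁻¹ = B.z := by
    calc m * B.f ts * m⁻¹ = c' * (k * B.f ts * k⁻¹) * c'⁻¹ := by rw [hm]; group
      _ = B.z := by rw [hk, hc'z.eq, mul_inv_cancel_right]
  have hm2 : m * B.z * m⁻¹ = c' * w * c'⁻¹ := by rw [hm, hw]; group
  refine key m (B.mem_MW (p := B.f ts) (q := B.z)
    (B.four_R hF K ht RG_facts.2.2.2.2.2.1 RG_facts.2.2.2.1 t_facts.2.1 zs_facts.1 t_facts.2.2.1)
    ?_) (by rw [h, hm1])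
  rw [hm1, hm2]
  rcases hcc with h' | h' <;> rw [h']
  · rfl
  · exact B.four_R hF K ht RG_facts.2.2.2.1 RG_facts.2.2.2.2.2.1 zs_facts.1 t_facts.2.1
      (fun e => t_facts.2.2.1 e.symm)

theorem cent_le {u : G} (hu : u ∈ B.MW) (hz : IsConj B.z u) :
    centralizer ({u} : Set G) ≤ B.MW := by
  intro g hg
  obtain ⟨m, hm, he⟩ := B.z_ctrl hF K hu hz
  have h : m * g * m⁻¹ ∈ B.MW := B.centralizer_le hF K (mem_centralizer_singleton_iff.2 (by
    rw [← he, show m * g * m⁻¹ * (m * u * m⁻¹) = m * (g * u) * m⁻¹ by group,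
      mem_centralizer_singleton_iff.1 hg]
    group))
  have := mul_mem (mul_mem (inv_mem hm) h) hm
  simpa [mul_assoc] using this

/-- An element taking a conjugate of `z` in the normalizer into it lies there. -/
theorem strong {u g : G} (hu : u ∈ B.MW) (hz : IsConj B.z u) (hg : g * u * g⁻¹ ∈ B.MW) :
    g ∈ B.MW := by
  obtain ⟨m, hm, he⟩ := B.z_ctrl hF K hu hz
  obtain ⟨m', hm', he'⟩ := B.z_ctrl hF K hg (B.conj_class hz)
  have h : m' * g * m⁻¹ ∈ B.MW := B.centralizer_le hF K (mem_centralizer_singleton_iff.2 (by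
    refine mul_inv_eq_iff_eq_mul.1 ?_
    calc m' * g * m⁻¹ * B.z * (m' * g * m⁻¹)⁻¹ = m' * (g * (m⁻¹ * B.z * m) * g⁻¹) * m'⁻¹ := by group
      _ = B.z := by rw [show m⁻¹ * B.z * m = u by rw [← he]; group, he']))
  have := mul_mem (mul_mem (inv_mem hm') h) hm
  simpa [mul_assoc] using this

/-- An involution of the normalizer that is not conjugate to `z` is conjugate there to `a1`. -/
theorem a_ctrl (h : B.Simp) {u : G} (hu : u ∈ B.MW) (hu2 : orderOf u = 2) (hn : ¬ IsConj B.z u) :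
    ∃ m ∈ B.MW, m * u * m⁻¹ = B.f a1 := by
  haveI : Fact (Nat.Prime 2) := ⟨Nat.prime_two⟩
  have hz1 : ∀ {r : ↥SM}, r * r = 1 → r ≠ 1 → ¬ IsConj B.z (B.f r) → r ≠ zs := fun _ _ hr e =>
    hr (e ▸ IsConj.refl _)
  -- the classes of the model
  have four : ∀ r ∈ [a1, a2, a3], ∃ m ∈ B.MW, m * B.f r * m⁻¹ = B.f a1 := by
    intro r hr
    simp only [List.mem_cons, List.not_mem_nil, or_false] at hr
    rcases hr with rfl | hr
    · exact ⟨1, one_mem _, by group⟩
    · obtain ⟨c, hc, he⟩ := K.conj_a r (by simpa using hr)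
      exact ⟨c⁻¹, B.centralizer_le hF K (mem_centralizer_singleton_iff.2 hc.inv_left.eq),
        by rw [← he]; group⟩
  have big : ∀ r : ↥SM, r * r = 1 → r ≠ 1 → 16 ≤ cc r → ¬ IsConj B.z (B.f r) →
      ∃ m ∈ B.MW, m * B.f r * m⁻¹ = B.f a1 := by
    intro r h2 h1 hc hr
    obtain ⟨g, hg⟩ := big_cent r h2 h1 (hz1 h2 h1 hr) hc
    simp only [List.mem_cons, List.not_mem_nil, or_false] at hg
    have hne : ∀ s, g * r * g⁻¹ = s → ¬ IsConj B.z (B.f s) := fun s hs hs' =>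
      hr (hs'.trans (B.isConj_f hs).symm)
    rcases hg with hg | hg | hg
    · exact absurd (B.conj_z_v hF K) (hne _ hg)
    · exact absurd (B.conj_z_b hF K) (hne _ hg)
    · obtain ⟨m, hm, he⟩ := four (g * r * g⁻¹) (by simpa using hg)
      exact ⟨m * B.f g, mul_mem hm (B.f_mem hF K g), by rw [← he, B.conj_f]; group⟩
  have main : ∀ r : ↥SM, r * r = 1 → r ≠ 1 → ¬ IsConj B.z (B.f r) →
      ∃ m ∈ B.MW, m * B.f r * m⁻¹ = B.f a1 := by
    intro r h2 h1 hr
    obtain ⟨g, hg⟩ := inv_class r h2 h1 (hz1 h2 h1 hr)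
    obtain ⟨s, hs⟩ : ∃ s, g * r * g⁻¹ = s := ⟨_, rfl⟩
    rw [hs] at hg
    have hsz : ¬ IsConj B.z (B.f s) := fun hs' => hr (hs'.trans (B.isConj_f hs).symm)
    suffices ∃ m ∈ B.MW, m * B.f s * m⁻¹ = B.f a1 by
      obtain ⟨m, hm, he⟩ := this
      exact ⟨m * B.f g, mul_mem hm (B.f_mem hF K g), by rw [← he, ← hs, B.conj_f]; group⟩
    simp only [List.mem_cons, List.not_mem_nil, or_false] at hg
    rcases hg with rfl | rfl | rfl | hg
    · exact absurd (B.conj_z_v hF K) hsz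
    swap
    · exact absurd (B.conj_z_b hF K) hsz
    swap
    · exact four s (by simpa using hg)
    obtain ⟨t2, t1, -, -, tc, htR⟩ := t_facts
    have h16 : 2 ^ (3 + 1) ∣ Nat.card (centralizer ({B.f ts} : Set G)) := by
      rw [card_centralizer_conj (B.other_class h (B.orderOf_f t2 t1) hsz).1]
      refine (dvd_of_eq ?_).trans (card_dvd_of_le (B.centS_le a1))
      rw [B.card_centS, (four_facts a1 (by simp)).2.2.2.2.1]; norm_num
    obtain ⟨P, hPu, hP, hTP, hN⟩ := grow (n := 3) (B.card_centS ts ▸ tc) (B.centS_le ts) h16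
    have hPM : P ≤ B.MW := by
      intro k hk
      have img : ∀ p ∈ [zs, vs], ∃ q ∈ [zs, vs, vs * zs], k * B.f p * k⁻¹ = B.f q := by
        intro p hp
        have hp1 : p * ts = ts * p ∧ p ≠ 1 ∧ p ∈ [zs, vs] := ⟨(show ∀ p ∈ [zs, vs],
          p * ts = ts * p by decide +kernel) p hp, by
            simp only [List.mem_cons, List.not_mem_nil, or_false] at hp
            rcases hp with rfl | rfl
            exacts [zs_facts.1, v_facts.2.1], hp⟩
        obtain ⟨y, hy, hye⟩ := hN k hk (B.f p)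
          (mem_map_of_mem _ (mem_centralizer_singleton_iff.2 hp1.1))
        refine ⟨y, ?_, hye.symm⟩
        rcases htR y (mem_centralizer_singleton_iff.1 hy) with e | e | ⟨a, ha⟩
        · rw [e, map_one, eq_comm, conj_eq_one_iff] at hye
          exact absurd (B.inj (hye.trans (map_one B.f).symm)) hp1.2.1
        · exact e
        · refine absurd (((?_ : IsConj B.z (B.f p)).trans (isConj_iff.2 ⟨k, hye.symm⟩)).trans
            (B.isConj_f ha)) hsz
          simp only [List.mem_cons, List.not_mem_nil, or_false] at hp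
          rcases hp with rfl | rfl
          exacts [IsConj.refl _, B.conj_z_v hF K]
      obtain ⟨q, hq, hqe⟩ := img zs (by simp)
      obtain ⟨q', hq', hqe'⟩ := img vs (by simp)
      have hE : ∀ q ∈ [zs, vs, vs * zs], q ∈ EG ∧ q ≠ 1 := by decide +kernel
      refine B.mem_MW (p := B.f zs) (q := B.f vs) rfl ?_
      rw [hqe, hqe']
      refine B.four_E hF K (hE q hq).1 (hE q' hq').1 (hE q hq).2 (hE q' hq').2 fun e => ?_
      exact v_facts.2.2.1 (B.inj (mul_left_cancel (mul_right_cancel ((e ▸ hqe').trans hqe.symm))))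
    obtain ⟨c, hc, hcs⟩ := B.conj_into (B.range_le_MW hF K) (IsPGroup.of_card hP) hPM
    have htP : B.f ts ∈ P := hTP (mem_map_of_mem _ (mem_centralizer_singleton_iff.2 rfl))
    obtain ⟨r', hr'⟩ := hcs _ htP
    have hr2 : orderOf r' = 2 := by
      rw [← orderOf_injective B.f B.inj, ← hr', Invol.orderOf_conj, B.orderOf_f t2 t1]
    have hcc : 16 ≤ cc r' := by
      have hle : P.map (MulAut.conj c).toMonoidHom ≤ B.centS r' := by
        rintro _ ⟨x, hx, rfl⟩
        obtain ⟨a, ha⟩ := hcs x hx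
        refine ⟨a, mem_centralizer_singleton_iff.2 (B.inj ?_), ha.symm⟩
        rw [map_mul, map_mul, ← ha, ← hr']
        calc c * x * c⁻¹ * (c * B.f ts * c⁻¹) = c * (x * B.f ts) * c⁻¹ := by group
          _ = c * (B.f ts * x) * c⁻¹ := by rw [mem_centralizer_singleton_iff.1 (hPu hx)]
          _ = c * B.f ts * c⁻¹ * (c * x * c⁻¹) := by group
      have := card_le_of_le hle
      rw [card_map_of_injective (MulEquiv.injective _), hP, B.card_centS] at this
      norm_num at this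
      exact this
    obtain ⟨m, hm, he⟩ := big r' (Invol.orderOf_eq_two_iff.1 hr2).2 (Invol.ne_one hr2) hcc
      (fun hz => hsz (hz.trans (isConj_iff.2 ⟨c, hr'⟩ : IsConj (B.f ts) _).symm))
    exact ⟨m * c, mul_mem hm hc, by rw [← he, ← hr']; group⟩
  obtain ⟨d, hd, hds⟩ := B.conj_into (B.range_le_MW hF K)
    (IsPGroup.of_card (n := 1) (by rw [Nat.card_zpowers, hu2, pow_one]) : IsPGroup 2 (zpowers u))
    (zpowers_le.2 hu)
  obtain ⟨r, hr⟩ := hds u (mem_zpowers u)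
  have hr2 : orderOf r = 2 := by
    rw [← orderOf_injective B.f B.inj, ← hr, Invol.orderOf_conj, hu2]
  obtain ⟨m, hm, he⟩ := main r (Invol.orderOf_eq_two_iff.1 hr2).2 (Invol.ne_one hr2)
    (fun hz => hn (hz.trans (isConj_iff.2 ⟨d, hr⟩ : IsConj u _).symm))
  exact ⟨m * d, mul_mem hm hd, by rw [← he, ← hr]; group⟩

omit hF K in
theorem mem_NW {w : B.MW} : w ∈ B.NW ↔ (w : G) ∈ B.W := mem_subgroupOf

theorem NW_odd : ¬ 2 ∣ Nat.card B.NW := by
  rw [NW, Nat.card_congr (subgroupOfEquivOfLe B.W_le).toEquiv]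
  exact (B.W_spec hF K).1

/-- The quotient of the normalizer by the closure. -/
theorem exists_modM : ∃ D : Mod (B.MW ⧸ B.NW),
    (∀ (s : ↥SM) (hs : B.f s ∈ B.MW), D.f s = (⟨B.f s, hs⟩ : B.MW)) ∧
    (∃ g, g * D.f zs * g⁻¹ = D.f vs) ∧ (∃ g, g * D.f zs * g⁻¹ = D.f bs) := by
  obtain ⟨D, hD⟩ := B.exists_mod K B.MW B.NW (B.NW_odd hF K) (B.centralizer_le hF K)
    (fun o ho => B.mem_NW.2 (B.theta_z_le hF K ho))
  have tr : ∀ s : ↥SM, (∃ g ∈ B.MW, g * B.z * g⁻¹ = B.f s) → ∃ g, g * D.f zs * g⁻¹ = D.f s := by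
    rintro s ⟨g, hg, he⟩
    refine ⟨QuotientGroup.mk' B.NW ⟨g, hg⟩, ?_⟩
    rw [hD zs (B.f_mem hF K zs), hD s (B.f_mem hF K s)]
    exact congrArg (QuotientGroup.mk' B.NW)
      (show (⟨g, hg⟩ : B.MW) * ⟨_, B.f_mem hF K zs⟩ * ⟨g, hg⟩⁻¹ = ⟨_, B.f_mem hF K s⟩ from
        Subtype.ext he)
  exact ⟨D, hD, tr vs (B.exists_mover hF K), tr bs (B.exists_mover_b hF K)⟩

end Base

end Cfsg.Agent.M12Type
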