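import Cfsg.Agent.M12Type.CentA

/-!
The normalizer of the closure is strongly embedded unless it is everything; recognition.
-/

set_option autoImplicit false

namespace Cfsg.Agent.M12Type

open Subgroup

namespace Base

variable {G : Type*} [Group G] [Finite G] (B : Base G) (h : B.Simp) (hF : B.Fus) (K : B.Cent)
include h hF K

theorem strong_all {t g : G} (ht : t ∈ B.MW) (ht2 : orderOf t = 2) (hg : g * t * g⁻¹ ∈ B.MW) :
    g ∈ B.MW := by
  by_cases hz : IsConj B.z t
  · exact B.strong hF K ht hz hg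
  · obtain ⟨m, hm, he⟩ := B.a_ctrl hF K h ht ht2 hz
    obtain ⟨m', hm', he'⟩ := B.a_ctrl hF K h hg ((Invol.orderOf_conj g t).trans ht2)
      (fun e => hz (e.trans (isConj_iff.2 ⟨g, rfl⟩ : IsConj t _).symm))
    have hc : m' * g * m⁻¹ ∈ centralizer ({B.f a1} : Set G) := by
      refine mem_centralizer_singleton_iff.2 (mul_inv_eq_iff_eq_mul.1 ?_)
      calc m' * g * m⁻¹ * B.f a1 * (m' * g * m⁻¹)⁻¹ = m' * (g * (m⁻¹ * B.f a1 * m) * g⁻¹) * m'⁻¹ := by
            group
        _ = B.f a1 := by rw [show m⁻¹ * B.f a1 * m = t by rw [← he]; group, he']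
    have := mul_mem (mul_mem (inv_mem hm') (B.cent_a1_le h hF K hc)) hm
    simpa [mul_assoc] using this

theorem MW_eq_top : B.MW = ⊤ := by
  by_contra hne
  have hse : IsStronglyEmbedded B.MW := by
    refine (Invol.se_iff B.MW).2 ⟨hne, even_iff_two_dvd.2 ?_, fun t g ht htM hg => ?_⟩
    · exact B.orderOf_z ▸ Subgroup.orderOf_dvd_natCard B.MW (B.z_mem hF K)
    · exact inv_mem_iff.1 (B.strong_all h hF K (g := g⁻¹) htM ht (by rwa [inv_inv]))
  obtain ⟨u, hu, hn⟩ := h.two
  exact hn (Invol.se_isConj_all hse B.orderOf_z hu)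

end Base

/-- The recognition from the classes and the centralizer of the central involution. -/
theorem iso_of {G : Type*} [Group G] [Finite G] [IsSimpleGroup G] (B : Base G) (h : B.Simp)
    (hF : B.Fus) (K : B.Cent) : Cfsg.Spor.IsoM12 G := by
  have hM := B.MW_eq_top h hF K
  have hWn : B.W.Normal := normalizer_eq_top_iff.1 hM
  have hW : B.W = ⊥ := by
    refine hWn.eq_bot_or_eq_top.resolve_right fun e => (B.W_spec hF K).1 ?_
    rw [e, card_top]
    exact B.orderOf_z ▸ _root_.orderOf_dvd_natCard B.z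
  obtain ⟨D, -, hv, -⟩ := B.exists_modM hF K
  have hN : B.NW = ⊥ := by rw [Base.NW, hW, bot_subgroupOf]
  let e : G ≃* B.MW ⧸ B.NW :=
    ((Subgroup.topEquiv.symm.trans (MulEquiv.subgroupCongr hM.symm)).trans
      (QuotientGroup.quotientBot.symm.trans (QuotientGroup.quotientMulEquivOfEq hN.symm)))
  rcases D.dicho hv with ⟨N, hN', -, -, h8⟩ | ⟨⟨i⟩, -⟩
  · exfalso
    haveI := hN'
    have hn : (N.comap e.toMonoidHom).Normal := inferInstance
    have hc : Nat.card (N.comap e.toMonoidHom) = 8 := by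
      rw [Subgroup.comap_equiv_eq_map_symm', card_map_of_injective (MulEquiv.injective _), h8]
    rcases hn.eq_bot_or_eq_top with h1 | h1
    · rw [h1, card_bot] at hc; omega
    · rw [h1, card_top] at hc
      have := card_le_card_group B.f.range
      rw [B.card_range, hc] at this
      omega
  · exact ⟨e.trans i⟩

end Cfsg.Agent.M12Type
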