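import Cfsg.Agent.M12Type.Model2
import Cfsg.Agent.Cent32.Model

/-!
Finite facts about the model used for the core of the centralizers and for the centralizer of the
second class of involutions.
-/

set_option autoImplicit false
set_option maxRecDepth 20000
set_option synthInstance.maxSize 1000
set_option maxHeartbeats 1000000

namespace Cfsg.Agent.M12Type

open M12Cent

/-- The subgroup with the elements of `ES`. -/
def EG : Subgroup ↥SM where
  carrier := {x | decide (x ∈ ES) = true}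
  mul_mem' := fun {a b} ha hb => (show ∀ a b : ↥SM, decide (a ∈ ES) = true → decide (b ∈ ES) = true →
    decide (a * b ∈ ES) = true by decide +kernel) a b ha hb
  one_mem' := by decide +kernel
  inv_mem' := fun {a} ha => (show ∀ a : ↥SM, decide (a ∈ ES) = true → decide (a⁻¹ ∈ ES) = true
    by decide +kernel) a ha

instance : DecidablePred (· ∈ EG) := fun _ => decEq _ _

theorem mem_EG {x : ↥SM} : x ∈ EG ↔ x ∈ ES :=
  (show decide (x ∈ ES) = true ↔ x ∈ ES from decide_eq_true_iff)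

/-- The centralizer of `ts` as a subgroup. -/
def RG : Subgroup ↥SM where
  carrier := {x | decide (x * ts = ts * x) = true}
  mul_mem' := fun {a b} ha hb => (show ∀ a b : ↥SM, decide (a * ts = ts * a) = true →
    decide (b * ts = ts * b) = true → decide (a * b * ts = ts * (a * b)) = true
    by decide +kernel) a b ha hb
  one_mem' := by decide +kernel
  inv_mem' := fun {a} ha => (show ∀ a : ↥SM, decide (a * ts = ts * a) = true →
    decide (a⁻¹ * ts = ts * a⁻¹) = true by decide +kernel) a ha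

instance : DecidablePred (· ∈ RG) := fun _ => decEq _ _

theorem EG_facts : (∀ a ∈ EG, ∀ b ∈ EG, a * b = b * a) ∧ (∀ a ∈ EG, a * a = 1) ∧
    (Finset.univ.filter fun x : ↥SM => x ∈ EG).card = 8 ∧ zs ∈ EG ∧ vs ∈ EG ∧ bs ∈ EG ∧
    vs * zs ∈ EG ∧ (∀ g : ↥SM, ∀ a ∈ EG, g * a * g⁻¹ ∈ EG) ∧
    (∀ a ∈ EG, a ≠ 1 → a = zs ∨ ∃ g : ↥SM, g * a * g⁻¹ ∈ [vs, bs]) := by decide +kernel

theorem RG_facts : (∀ a ∈ RG, ∀ b ∈ RG, a * b = b * a) ∧ (∀ a ∈ RG, a * a = 1) ∧
    (Finset.univ.filter fun x : ↥SM => x ∈ RG).card = 8 ∧ zs ∈ RG ∧ vs ∈ RG ∧ ts ∈ RG ∧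
    (∀ a ∈ RG, a = 1 ∨ a ∈ [zs, vs, vs * zs] ∨ ∃ g : ↥SM, g * a * g⁻¹ = ts) := by decide +kernel

/-- Representatives for the cosets of the central involution in `QS`. -/
def low (r : ↥SM) : Prop := r ∈ QS ∧ ix r < ix (r * zs)

instance : DecidablePred low := fun r => inferInstanceAs (Decidable (_ ∧ _))

theorem low_facts : (Finset.univ.filter fun r : ↥SM => low r).card = 16 ∧
    ∀ r s : ↥SM, low r → low s → eqz r s → r = s := by decide +kernel

theorem ts_conj : (∀ q ∈ QS, ts * q * ts⁻¹ ∈ QS) ∧ ts⁻¹ = ts ∧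
    (∀ s : ↥SM, s ∉ QS → s * ts⁻¹ ∈ QS) ∧
    (∀ q ∈ QS, ∀ s : ↥SM, s * q * s⁻¹ ∈ QS) ∧ (1 : ↥SM) ∈ QS := by decide +kernel

theorem sq_z : ∀ s : ↥SM, s ≠ 1 → s * s = 1 → s ≠ zs →
    (∀ g : ↥SM, g * s * g⁻¹ * s = s * (g * s * g⁻¹)) → ∃ g : ↥SM, g * s * g⁻¹ * s = zs := by
  decide +kernel

theorem QS_center : ∀ w ∈ QS, (∀ e ∈ QS, e * w = w * e) → w = 1 ∨ w = zs := by decide +kernel

theorem no_sixteen : ∀ a b : ↥SM, a * a = 1 → b * b = 1 → a * b = b * a → a ≠ 1 → a ≠ zs →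
    b ≠ 1 → b ≠ zs → b ≠ a → b ≠ a * zs →
    (Finset.univ.filter fun c : ↥SM => c * c = 1 ∧ c * a = a * c ∧ c * b = b * c).card < 16 := by
  decide +kernel

/-- The four-group of `zs` and the involutions of `ES` commuting with `a1`. -/
def UG : Subgroup ↥SM where
  carrier := {x | decide (ix x ∈ [0, 72, 96, 168]) = true}
  mul_mem' := fun {a b} ha hb => (show ∀ a b : ↥SM, decide (ix a ∈ [0, 72, 96, 168]) = true →
    decide (ix b ∈ [0, 72, 96, 168]) = true → decide (ix (a * b) ∈ [0, 72, 96, 168]) = true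
    by decide +kernel) a b ha hb
  one_mem' := by decide +kernel
  inv_mem' := fun {a} ha => (show ∀ a : ↥SM, decide (ix a ∈ [0, 72, 96, 168]) = true →
    decide (ix a⁻¹ ∈ [0, 72, 96, 168]) = true by decide +kernel) a ha

instance : DecidablePred (· ∈ UG) := fun _ => decEq _ _

/-- A maximal subgroup of the centralizer of `a1`, avoiding it. -/
def CA : Subgroup ↥SM where
  carrier := {x | decide (ix x ∈ [0, 72, 96, 168, 16, 184, 88, 112]) = true}
  mul_mem' := fun {a b} ha hb => (show ∀ a b : ↥SM,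
    decide (ix a ∈ [0, 72, 96, 168, 16, 184, 88, 112]) = true →
    decide (ix b ∈ [0, 72, 96, 168, 16, 184, 88, 112]) = true →
    decide (ix (a * b) ∈ [0, 72, 96, 168, 16, 184, 88, 112]) = true by decide +kernel) a b ha hb
  one_mem' := by decide +kernel
  inv_mem' := fun {a} ha => (show ∀ a : ↥SM,
    decide (ix a ∈ [0, 72, 96, 168, 16, 184, 88, 112]) = true →
    decide (ix a⁻¹ ∈ [0, 72, 96, 168, 16, 184, 88, 112]) = true by decide +kernel) a ha

instance : DecidablePred (· ∈ CA) := fun _ => decEq _ _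

/-- A maximal subgroup of the centralizer of `a1`, containing it. -/
def CB : Subgroup ↥SM where
  carrier := {x | decide (ix x ∈ [0, 72, 96, 168, 7, 79, 103, 175]) = true}
  mul_mem' := fun {a b} ha hb => (show ∀ a b : ↥SM,
    decide (ix a ∈ [0, 72, 96, 168, 7, 79, 103, 175]) = true →
    decide (ix b ∈ [0, 72, 96, 168, 7, 79, 103, 175]) = true →
    decide (ix (a * b) ∈ [0, 72, 96, 168, 7, 79, 103, 175]) = true by decide +kernel) a b ha hb
  one_mem' := by decide +kernel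
  inv_mem' := fun {a} ha => (show ∀ a : ↥SM,
    decide (ix a ∈ [0, 72, 96, 168, 7, 79, 103, 175]) = true →
    decide (ix a⁻¹ ∈ [0, 72, 96, 168, 7, 79, 103, 175]) = true by decide +kernel) a ha

instance : DecidablePred (· ∈ CB) := fun _ => decEq _ _

/-- An involution of `UG` outside the centre. -/
def us : ↥SM := el 72

theorem UG_facts : (Finset.univ.filter fun x : ↥SM => x ∈ UG).card = 4 ∧
    (Finset.univ.filter fun x : ↥SM => x ∈ CA).card = 8 ∧
    (Finset.univ.filter fun x : ↥SM => x ∈ CB).card = 8 ∧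
    (∀ u ∈ UG, u * a1 = a1 * u ∧ u ∈ EG ∧ u ∈ CA ∧ u ∈ CB ∧ u * u = 1) ∧
    (∀ u ∈ CA, u * a1 = a1 * u) ∧ (∀ u ∈ CB, u * a1 = a1 * u) ∧
    a1 ∈ CB ∧ a1 ∉ CA ∧ a2 ∈ CA ∧ a2 ∉ CB ∧ a2 * a1 = a1 * a2 ∧ a1 * a2 = a3 ∧ a2 ≠ a1 ∧
    zs ∈ UG ∧ us ∈ UG ∧ us ≠ zs ∧ us ≠ 1 := by decide +kernel

theorem CA_split : ∀ s : ↥SM, s * a1 = a1 * s →
    s ∈ UG ∨ s * a1 ∈ UG ∨ s * a2 ∈ UG ∨ s * a2 * a1 ∈ UG := by decide +kernel

theorem CB_inv : ∀ m ∈ CB, m * m = 1 → m = 1 ∨ m = a1 ∨ m ∈ UG ∨ a1 * m ∈ UG := by decide +kernel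

theorem a1_inv : ∀ s : ↥SM, s * a1 = a1 * s → s * s = 1 → s ≠ 1 →
    s ∈ UG ∨ ∃ g : ↥SM, g * s * g⁻¹ ∈ [a1, a2, a3] := by decide +kernel

theorem comm_a1 : (∀ e ∈ EG, e * a1 * e⁻¹ * a1⁻¹ = 1 ∨ e * a1 * e⁻¹ * a1⁻¹ = zs) ∧
    bs * a1 * bs⁻¹ * a1⁻¹ = zs := by decide +kernel

end Cfsg.Agent.M12Type

namespace Cfsg.Agent.Cent32.V

/-- Elementary abelian of order sixteen: four commuting independent involutions. -/
theorem sixteen : ∃ L : List V, L = [mk' 168, mk' 1, mk' 6, mk' 72, mk' 0, mk' 7, mk' 73, mk' 78,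
      mk' 79, mk' 96, mk' 97, mk' 102, mk' 103, mk' 169, mk' 174, mk' 175] ∧
    L.toFinset.card = 16 ∧ (∀ a ∈ L, ∀ b ∈ L, a * b ∈ L ∧ a * b = b * a) ∧
    (∀ a ∈ L, a * a = 1 ∧ a * V.zV = V.zV * a) := by
  refine ⟨_, rfl, ?_⟩
  decide +kernel

end Cfsg.Agent.Cent32.V
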