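import Cfsg.Agent.M12Type.CoreModel
import Cfsg.Agent.M12Type.Fusion
import Cfsg.Agent.Cent32.Emb

/-!
A group whose Sylow 2-subgroup is the model and in which the centralizer of the central involution
is `2^(1+4)` extended by the symmetric group of degree three.
-/

set_option autoImplicit false

namespace Cfsg.Agent.M12Type

open Subgroup

theorem eqz_one_right {s : ↥SM} (h : eqz (s * zs) 1) : eqz s 1 := by
  rcases h with h | h
  · right
    rw [one_mul]
    calc s = s * zs * zs := by rw [mul_assoc, zs_facts.2.1, mul_one]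
      _ = zs := by rw [h, one_mul]
  · left
    rw [one_mul] at h
    exact mul_eq_right.1 h

/-- The centralizer of the central involution, without core. -/
structure Mod (K : Type*) [Group K] where
  /-- the Sylow subgroup -/
  f : ↥SM →* K
  inj : Function.Injective f
  /-- an element of order three -/
  x : K
  x3 : x ^ 3 = 1
  xz : x * f zs = f zs * x
  xQ : ∀ q ∈ QS, ∃ q' ∈ QS, x * f q * x⁻¹ = f q'
  fix : ∀ q ∈ QS, x * f q * x⁻¹ = f q → q = 1 ∨ q = zs
  twisted : ∃ q ∈ QS, f ts * x * (f ts)⁻¹ = f q * x ^ 2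
  sylow : ∃ P : Sylow 2 K, (P : Subgroup K) = f.range
  cover : ∀ g : K, g * f zs = f zs * g → ∃ s : ↥SM, ∃ i : Fin 3, g = f s * x ^ (i : ℕ)

namespace Mod

variable {K : Type*} [Group K] (D : Mod K)

/-- The group as one with this Sylow 2-subgroup. -/
def toBase : Base K := ⟨D.f, D.inj, D.sylow⟩

theorem zc (s : ↥SM) : D.f s * D.f zs = D.f zs * D.f s := by
  rw [← map_mul, ← map_mul, zs_facts.2.2.1]

theorem xz' (i : ℕ) : D.x ^ i * D.f zs = D.f zs * D.x ^ i :=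
  ((show Commute D.x (D.f zs) from D.xz).pow_left i).eq

theorem qz {q : ↥SM} : q = 1 ∨ q = zs ↔ eqz q 1 := by simp [eqz]

theorem x_notMem (s : ↥SM) : D.x ≠ D.f s := by
  intro h
  have h3 : s ^ 3 = 1 := D.inj (by rw [map_pow, map_one, ← h, D.x3])
  have hs : s = 1 := (show ∀ s : ↥SM, s ^ 3 = 1 → s = 1 by decide +kernel) s h3
  rw [hs, map_one] at h
  rcases D.fix vs v_facts.2.2.2.2.2.1 (by rw [h]; group) with e | e
  exacts [v_facts.2.1 e, v_facts.2.2.1 e]

theorem x2_notMem (s : ↥SM) : D.x ^ 2 ≠ D.f s := fun h => D.x_notMem (s * s) (by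
  rw [map_mul, ← h, ← pow_add, show 2 + 2 = 3 + 1 from rfl, pow_add, D.x3, one_mul, pow_one])

theorem fin_zero {i : Fin 3} {s : ↥SM} (h : D.x ^ (i : ℕ) = D.f s) : i = 0 := by
  fin_cases i
  · rfl
  · exact absurd ((pow_one D.x).symm.trans h) (D.x_notMem s)
  · exact absurd h (D.x2_notMem s)

theorem powQ : ∀ i : ℕ, ∀ q ∈ QS, ∃ q' ∈ QS, D.x ^ i * D.f q * (D.x ^ i)⁻¹ = D.f q' := by
  intro i
  induction i with
  | zero => exact fun q hq => ⟨q, hq, by group⟩
  | succ n ih =>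
    intro q hq
    obtain ⟨q', hq', he⟩ := ih q hq
    obtain ⟨q'', hq'', he'⟩ := D.xQ q' hq'
    exact ⟨q'', hq'', by
      rw [← he', ← he, pow_succ']
      group⟩

theorem fix2 {q : ↥SM} (hq : q ∈ QS) (h : D.x ^ 2 * D.f q * (D.x ^ 2)⁻¹ = D.f q) : q = 1 ∨ q = zs := by
  refine D.fix q hq ?_
  calc D.x * D.f q * D.x⁻¹ = D.x * (D.x ^ 2 * D.f q * (D.x ^ 2)⁻¹) * D.x⁻¹ := by rw [h]
    _ = D.x ^ 3 * D.f q * (D.x ^ 3)⁻¹ := by group
    _ = D.f q := by rw [D.x3]; group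

theorem normal {g : K} (hg : g * D.f zs = D.f zs * g) {q : ↥SM} (hq : q ∈ QS) :
    ∃ q' ∈ QS, g * D.f q * g⁻¹ = D.f q' := by
  obtain ⟨s, i, rfl⟩ := D.cover g hg
  obtain ⟨q', hq', he⟩ := D.powQ i q hq
  refine ⟨s * q' * s⁻¹, ts_conj.2.2.2.1 q' hq' s, ?_⟩
  rw [map_mul, map_mul, map_inv, ← he]
  group

/-- An element of order three of the coset of a power of `x` is conjugate to it. -/
theorem twist {y : K} (hy3 : y ^ 3 = 1) (hyz : y * D.f zs = D.f zs * y)
    (hyfix : ∀ d ∈ QS, y * D.f d * y⁻¹ = D.f d → d = 1 ∨ d = zs)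
    {q : ↥SM} (hq : q ∈ QS) (h3 : (D.f q * y) ^ 3 = 1) :
    ∃ r ∈ QS, D.f r * (D.f q * y) * (D.f r)⁻¹ = y := by
  classical
  choose ψ hψQ hψ using fun r : {r : ↥SM // low r} =>
    show ∃ d ∈ QS, (D.f r.1)⁻¹ * (y * D.f r.1 * y⁻¹) = D.f d by
      obtain ⟨r', hr', he⟩ := D.normal hyz r.2.1
      exact ⟨r.1⁻¹ * r', mul_mem (inv_mem r.2.1) hr', by rw [map_mul, map_inv, he]⟩
  have key : ∀ r s : {r : ↥SM // low r}, eqz (ψ r) (ψ s) → r = s := by
    intro r s hrs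
    set d := s.1 * r.1⁻¹ with hd
    have hdQ : d ∈ QS := mul_mem s.2.1 (inv_mem r.2.1)
    have e : ∀ t : {r : ↥SM // low r}, y * D.f t.1 * y⁻¹ = D.f (t.1 * ψ t) := fun t => by
      rw [map_mul, ← hψ t]; group
    have hd' : y * D.f d * y⁻¹ = D.f (s.1 * ψ s * (r.1 * ψ r)⁻¹) := by
      rw [map_mul D.f (s.1 * ψ s), map_inv, ← e s, ← e r, hd, map_mul, map_inv]; group
    have hd2 : y * D.f d * y⁻¹ = D.f d ∨ y * D.f d * y⁻¹ = D.f (d * zs) := by
      rcases hrs with h | h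
      · left; rw [hd', h, hd]; congr 1; group
      · right
        rw [hd', h, hd]; congr 1
        have hz : zs⁻¹ = zs := inv_eq_of_mul_eq_one_left zs_facts.2.1
        rw [mul_inv_rev, mul_inv_rev, hz]
        calc s.1 * ψ s * (zs * (ψ s)⁻¹ * r.1⁻¹) = s.1 * (ψ s * zs) * ((ψ s)⁻¹ * r.1⁻¹) := by group
          _ = s.1 * (zs * ψ s) * ((ψ s)⁻¹ * r.1⁻¹) := by rw [zs_facts.2.2.1]
          _ = s.1 * (zs * r.1⁻¹) := by group
          _ = s.1 * r.1⁻¹ * zs := by rw [← zs_facts.2.2.1 r.1⁻¹, mul_assoc]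
    rcases hd2 with h | h
    · refine Subtype.ext (low_facts.2 _ _ r.2 s.2 ?_)
      rcases hyfix d hdQ h with e | e
      · exact Or.inl (mul_inv_eq_one.1 e).symm
      · right
        have : s.1 = zs * r.1 := mul_inv_eq_iff_eq_mul.1 e
        rw [this, ← zs_facts.2.2.1, mul_assoc, zs_facts.2.1, mul_one]
    · exfalso
      have hstep : y * D.f (d * zs) * y⁻¹ = D.f d := by
        rw [map_mul, show y * (D.f d * D.f zs) * y⁻¹ = y * D.f d * y⁻¹ * (y * D.f zs * y⁻¹) by group,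
          h, hyz, mul_inv_cancel_right, ← map_mul, mul_assoc, zs_facts.2.1, mul_one]
      have : D.f d = D.f (d * zs) := by
        calc D.f d = y ^ 3 * D.f d * (y ^ 3)⁻¹ := by rw [hy3]; group
          _ = y * (y * (y * D.f d * y⁻¹) * y⁻¹) * y⁻¹ := by simp [pow_succ, mul_assoc]
          _ = D.f (d * zs) := by rw [h, hstep, h]
      exact zs_facts.1 (left_eq_mul.1 (D.inj this))
  let F : {r : ↥SM // low r} × Bool → {w : ↥SM // w ∈ QS} := fun p =>
    ⟨ψ p.1 * bif p.2 then zs else 1, mul_mem (hψQ _) (by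
      rcases p.2 with _ | _ <;> simp [QS_facts.2.1])⟩
  have hF : Function.Bijective F := by
    rw [Fintype.bijective_iff_injective_and_card]
    constructor
    · rintro ⟨r, a⟩ ⟨s, b⟩ h
      have h' : ψ r * (bif a then zs else 1) = ψ s * (bif b then zs else 1) := congrArg Subtype.val h
      have he : eqz (ψ r) (ψ s) := by
        rcases a with _ | _ <;> rcases b with _ | _ <;> simp only [cond_true, cond_false, mul_one] at h'
        · exact Or.inl h'
        · exact Or.inr h'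
        · right; rw [← h', mul_assoc, zs_facts.2.1, mul_one]
        · exact Or.inl (mul_right_cancel h')
      obtain rfl := key r s he
      have hab := mul_left_cancel h'
      rcases a with _ | _ <;> rcases b with _ | _ <;> simp_all [zs_facts.1, eq_comm]
    · rw [Fintype.card_prod, Fintype.card_bool, Fintype.card_subtype, Fintype.card_subtype,
        low_facts.1, QS_facts.1]
  obtain ⟨⟨r, a⟩, hr⟩ := hF.2 ⟨q, hq⟩
  have hr' : ψ r * (bif a then zs else 1) = q := congrArg Subtype.val hr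
  refine ⟨r.1, r.2.1, ?_⟩
  have e : D.f r.1 * D.f (ψ r) * y * (D.f r.1)⁻¹ = y := by rw [← hψ r]; group
  rcases a with _ | _
  · rw [cond_false, mul_one] at hr'
    rw [← hr', ← mul_assoc, e]
  · exfalso
    rw [cond_true] at hr'
    have hconj : D.f r.1 * (D.f q * y) * (D.f r.1)⁻¹ = D.f zs * y := by
      rw [← hr', map_mul, D.zc (ψ r), show D.f r.1 * (D.f zs * D.f (ψ r) * y) * (D.f r.1)⁻¹ =
        D.f r.1 * D.f zs * (D.f r.1)⁻¹ * (D.f r.1 * D.f (ψ r) * y * (D.f r.1)⁻¹) by group, e,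
        D.zc, mul_inv_cancel_right]
    have h3' : (D.f zs * y) ^ 3 = 1 := by rw [← hconj, conj_pow, h3]; group
    rw [(show Commute (D.f zs) y from hyz.symm).mul_pow, hy3, mul_one, ← map_pow, ← map_one D.f] at h3'
    exact zs_facts.1 (by simpa [pow_succ, zs_facts.2.1] using D.inj h3')

theorem ts_pow (i : Fin 3) : ∃ q ∈ QS, D.f ts * D.x ^ (i : ℕ) * (D.f ts)⁻¹ = D.f q * D.x ^ (2 * (i : ℕ)) := by
  obtain ⟨q, hq, he⟩ := D.twisted
  fin_cases i
  · exact ⟨1, one_mem _, by simp⟩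
  · exact ⟨q, hq, by simpa using he⟩
  · obtain ⟨q', hq', he'⟩ := D.powQ 2 q hq
    refine ⟨q * q', mul_mem hq hq', ?_⟩
    show D.f ts * D.x ^ 2 * (D.f ts)⁻¹ = D.f (q * q') * D.x ^ (2 * 2)
    rw [map_mul, ← he', show D.f ts * D.x ^ 2 * (D.f ts)⁻¹ =
      D.f ts * D.x * (D.f ts)⁻¹ * (D.f ts * D.x * (D.f ts)⁻¹) by simp [pow_succ, mul_assoc], he]
    simp [pow_succ, mul_assoc]

/-- An element of order three of the centralizer lies over the elements of order three. -/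
theorem of_cube {g : K} (hg : g * D.f zs = D.f zs * g) (h3 : g ^ 3 = 1) :
    ∃ q ∈ QS, ∃ i : Fin 3, g = D.f q * D.x ^ (i : ℕ) := by
  obtain ⟨s, i, rfl⟩ := D.cover g hg
  by_cases hs : s ∈ QS
  · exact ⟨s, hs, i, rfl⟩
  exfalso
  obtain ⟨q0, hq0, rfl⟩ : ∃ q ∈ QS, s = q * ts := ⟨s * ts⁻¹, ts_conj.2.2.1 s hs, by group⟩
  obtain ⟨qa, hqa, ha⟩ := D.powQ i q0 hq0
  obtain ⟨qb, hqb, hb⟩ := D.ts_pow i
  set g := D.f (q0 * ts) * D.x ^ (i : ℕ) with hgd
  have hsq : g * g = D.f (q0 * (ts * qa * ts⁻¹) * qb) := by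
    have hx : D.x ^ (2 * (i : ℕ)) * D.x ^ (i : ℕ) = 1 := by
      rw [← pow_add, show 2 * (i : ℕ) + i = 3 * i by ring, pow_mul, D.x3, one_pow]
    have ht : D.f ts * D.f ts = 1 := by rw [← map_mul, t_facts.1, map_one]
    have ht' : (D.f ts)⁻¹ = D.f ts := inv_eq_of_mul_eq_one_left ht
    calc g * g = D.f q0 * (D.f ts * (D.x ^ (i : ℕ) * D.f q0 * (D.x ^ (i : ℕ))⁻¹) * (D.f ts)⁻¹) *
          (D.f ts * D.x ^ (i : ℕ) * D.f ts) * D.x ^ (i : ℕ) := by rw [hgd, map_mul]; group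
      _ = D.f q0 * D.f (ts * qa * ts⁻¹) * (D.f ts * D.x ^ (i : ℕ) * (D.f ts)⁻¹) * D.x ^ (i : ℕ) := by
          rw [ha, ht', map_mul D.f (ts * qa), map_mul D.f ts, map_inv, ht']
      _ = D.f q0 * D.f (ts * qa * ts⁻¹) * D.f qb * (D.x ^ (2 * (i : ℕ)) * D.x ^ (i : ℕ)) := by
          rw [hb]; group
      _ = _ := by rw [hx, mul_one, map_mul D.f (q0 * (ts * qa * ts⁻¹)), map_mul D.f q0]
  set w := q0 * (ts * qa * ts⁻¹) * qb
  have hw : w ∈ QS := mul_mem (mul_mem hq0 (ts_conj.1 qa hqa)) hqb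
  have hgw : g = D.f (w * w) := by
    rw [map_mul, ← hsq]
    calc g = g ^ 3 * g := by rw [h3, one_mul]
      _ = g * g * (g * g) := by simp [pow_succ, mul_assoc]
  have hx' : D.x ^ (i : ℕ) = D.f ((q0 * ts)⁻¹ * (w * w)) := by
    rw [map_mul, ← hgw, hgd, map_inv, inv_mul_cancel_left]
  obtain rfl := D.fin_zero hx'
  rw [Fin.val_zero, pow_zero, ← map_one D.f] at hx'
  exact hs ((inv_mul_eq_one.1 (D.inj hx').symm).symm ▸ mul_mem hw hw)

/-- Elements of order three centralize no involution other than `zs` in `QS`. -/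
theorem three_free {g : K} (hg : g * D.f zs = D.f zs * g) (h3 : g ^ 3 = 1) {q0 : ↥SM}
    (hq0 : q0 ∈ QS) (hne : ¬ eqz q0 1) (hc : g * D.f q0 = D.f q0 * g) : g = 1 := by
  obtain ⟨q, hq, i, rfl⟩ := D.of_cube hg h3
  have main : ∀ y : K, y ^ 3 = 1 → y * D.f zs = D.f zs * y →
      (∀ d ∈ QS, y * D.f d * y⁻¹ = D.f d → d = 1 ∨ d = zs) →
      (D.f q * y) ^ 3 = 1 → D.f q * y * D.f q0 = D.f q0 * (D.f q * y) → False := by
    intro y hy3 hyz hyfix h3' hcy
    obtain ⟨r, hr, he⟩ := D.twist hy3 hyz hyfix hq h3'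
    have hrq : r * q0 * r⁻¹ ∈ QS := mul_mem (mul_mem hr hq0) (inv_mem hr)
    have hfx : y * D.f (r * q0 * r⁻¹) * y⁻¹ = D.f (r * q0 * r⁻¹) := by
      rw [map_mul, map_mul, map_inv]
      nth_rewrite 1 [← he]
      nth_rewrite 2 [← he]
      calc _ = D.f r * (D.f q * y * D.f q0 * (D.f q * y)⁻¹) * (D.f r)⁻¹ := by group
        _ = _ := by rw [hcy, mul_inv_cancel_right]
    refine hne (qz.1 ?_)
    rcases hyfix _ hrq hfx with e | e
    · left; rwa [conj_eq_one_iff] at e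
    · right
      calc q0 = r⁻¹ * (r * q0 * r⁻¹) * r := by group
        _ = r⁻¹ * (zs * r) := by rw [e, mul_assoc]
        _ = zs := by rw [← zs_facts.2.2.1, inv_mul_cancel_left]
  fin_cases i
  · simp only [Fin.val_zero, pow_zero, mul_one] at h3 ⊢
    rw [← map_pow, ← map_one D.f] at h3
    rw [(show ∀ s : ↥SM, s ^ 3 = 1 → s = 1 by decide +kernel) q (D.inj h3), map_one]
  · exact (main D.x D.x3 D.xz D.fix (by simpa using h3) (by simpa using hc)).elim
  · exact (main (D.x ^ 2) (by rw [← pow_mul, show 2 * 3 = 3 * 2 from rfl, pow_mul, D.x3, one_pow])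
      (D.xz' 2) (fun d hd => D.fix2 hd) h3 hc).elim

/-- Elements of order three do not centralize `ts`. -/
theorem three_ts {g : K} (hg : g * D.f zs = D.f zs * g) (h3 : g ^ 3 = 1)
    (hc : g * D.f ts = D.f ts * g) : g = 1 := by
  obtain ⟨q, hq, i, rfl⟩ := D.of_cube hg h3
  obtain ⟨q', hq', he⟩ := D.ts_pow i
  have h : D.f q * D.x ^ (i : ℕ) = D.f (ts * q * ts⁻¹ * q') * D.x ^ (2 * (i : ℕ)) := by
    calc D.f q * D.x ^ (i : ℕ) = D.f ts * (D.f q * D.x ^ (i : ℕ)) * (D.f ts)⁻¹ := by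
          rw [← hc, mul_inv_cancel_right]
      _ = D.f (ts * q * ts⁻¹) * (D.f ts * D.x ^ (i : ℕ) * (D.f ts)⁻¹) := by
          simp only [map_mul, map_inv]; group
      _ = _ := by rw [he, map_mul D.f (ts * q * ts⁻¹), ← mul_assoc]
  have h' : D.x ^ (i : ℕ) = D.f ((ts * q * ts⁻¹ * q')⁻¹ * q) := by
    have hx : D.x ^ (2 * (i : ℕ)) = (D.x ^ (i : ℕ))⁻¹ := eq_inv_of_mul_eq_one_left (by
      rw [← pow_add, show 2 * (i : ℕ) + i = 3 * i by ring, pow_mul, D.x3, one_pow])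
    have h4 : D.x ^ (i : ℕ) * D.x ^ (i : ℕ) = D.f (q⁻¹ * (ts * q * ts⁻¹ * q')) := by
      rw [map_mul, map_inv, eq_inv_mul_iff_mul_eq, ← mul_assoc, h, hx, inv_mul_cancel_right]
    rw [show (ts * q * ts⁻¹ * q')⁻¹ * q = (q⁻¹ * (ts * q * ts⁻¹ * q'))⁻¹ by group, map_inv, ← h4,
      mul_inv_rev, ← hx, ← pow_add, show 2 * (i : ℕ) + 2 * i = i + 3 * i by ring, pow_add, pow_mul,
      D.x3, one_pow, mul_one]
  obtain rfl := D.fin_zero h'
  simp only [Fin.val_zero, pow_zero, mul_one] at h3 ⊢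
  rw [← map_pow, ← map_one D.f] at h3
  rw [(show ∀ s : ↥SM, s ^ 3 = 1 → s = 1 by decide +kernel) q (D.inj h3), map_one]

theorem card_cent : Nat.card (centralizer ({D.f zs} : Set K)) = 192 := by
  have : Nat.card (↥SM × Fin 3) = 192 := by
    rw [Nat.card_prod, Nat.card_eq_fintype_card, card_SM, Nat.card_fin]
  rw [← this]
  refine (Nat.card_congr (Equiv.ofBijective (fun p : ↥SM × Fin 3 =>
    (⟨D.f p.1 * D.x ^ (p.2 : ℕ), mem_centralizer_singleton_iff.2 (by
      rw [mul_assoc, D.xz', ← mul_assoc, D.zc, mul_assoc])⟩ :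
      centralizer ({D.f zs} : Set K))) ⟨?_, ?_⟩)).symm
  · rintro ⟨s, i⟩ ⟨t, j⟩ h
    have h' : D.f s * D.x ^ (i : ℕ) = D.f t * D.x ^ (j : ℕ) := congrArg Subtype.val h
    have key : ∀ a b : Fin 3, ∀ u v : ↥SM, D.f u * D.x ^ (a : ℕ) = D.f v * D.x ^ (b : ℕ) →
        (a : ℕ) ≤ b → a = b := by
      intro a b u v huv hab
      have hd : ((⟨(b : ℕ) - a, by omega⟩ : Fin 3) : ℕ) = (b : ℕ) - a := rfl
      have := D.fin_zero (i := ⟨(b : ℕ) - a, by omega⟩) (s := v⁻¹ * u) (by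
        rw [hd, map_mul, map_inv, eq_inv_mul_iff_mul_eq, ← mul_left_inj (D.x ^ (a : ℕ)), mul_assoc,
          ← pow_add, Nat.sub_add_cancel hab, huv])
      have : (b : ℕ) - a = 0 := congrArg Fin.val this
      exact Fin.ext (by omega)
    obtain rfl : i = j := by
      rcases le_total (i : ℕ) j with hle | hle
      exacts [key i j s t h' hle, (key j i t s h'.symm hle).symm]
    rw [D.inj (mul_right_cancel h')]
  · rintro ⟨g, hg⟩
    obtain ⟨s, i, he⟩ := D.cover g (mem_centralizer_singleton_iff.1 hg)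
    exact ⟨(s, i), Subtype.ext he.symm⟩

variable [Finite K]

theorem odd_cube {g : K} (hg : g * D.f zs = D.f zs * g) (ho : ¬ 2 ∣ orderOf g) : g ^ 3 = 1 := by
  refine orderOf_dvd_iff_pow_eq_one.1 ?_
  have h := Subgroup.orderOf_dvd_natCard _ (mem_centralizer_singleton_iff.2 hg :
    g ∈ centralizer ({D.f zs} : Set K))
  rw [D.card_cent] at h
  exact Nat.Coprime.dvd_of_dvd_mul_left
    (show Nat.Coprime (orderOf g) (2 ^ 6) from (Nat.coprime_two_right.2
      (Nat.not_even_iff_odd.1 (fun e => ho e.two_dvd))).pow_right 6)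
    (show orderOf g ∣ 2 ^ 6 * 3 by norm_num; exact h)

theorem odd_free {g : K} (hg : g * D.f zs = D.f zs * g) (ho : ¬ 2 ∣ orderOf g) {q0 : ↥SM}
    (hq0 : q0 ∈ QS ∧ ¬ eqz q0 1 ∨ q0 = ts) (hc : g * D.f q0 = D.f q0 * g) : g = 1 := by
  rcases hq0 with ⟨h1, h2⟩ | rfl
  · exact D.three_free hg (D.odd_cube hg ho) h1 h2 hc
  · exact D.three_ts hg (D.odd_cube hg ho) hc

omit [Finite K] in
/-- The data of the recognition theorem. -/
theorem exists_base32 : ∃ y : K, Cent32.Base (D.f zs) (QS.map D.f) D.x y := by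
  obtain ⟨q, hq, he⟩ := D.twisted
  have h3 : (D.f q * D.x ^ 2) ^ 3 = 1 := by rw [← he, conj_pow, D.x3]; group
  obtain ⟨r, hr, hre⟩ := D.twist (y := D.x ^ 2)
    (by rw [← pow_mul, show 2 * 3 = 3 * 2 from rfl, pow_mul, D.x3, one_pow]) (D.xz' 2)
    (fun d hd => D.fix2 hd) hq h3
  set y := D.f (r * ts) with hy
  have hxi : D.x⁻¹ = D.x ^ 2 := inv_eq_of_mul_eq_one_right (by rw [← pow_succ', D.x3])
  have hyx : y * D.x * y⁻¹ = D.x⁻¹ := by
    rw [hxi]
    refine Eq.trans ?_ hre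
    rw [← he, hy, map_mul]; group
  have hmem : ∀ {p}, p ∈ QS.map D.f → ∃ s ∈ QS, D.f s = p := fun h => h
  refine ⟨y, ?_⟩
  refine {
    hz := by
      rw [orderOf_injective D.f D.inj]
      exact Invol.orderOf_eq_two_iff.2 ⟨zs_facts.1, zs_facts.2.1⟩
    z_mem := mem_map_of_mem _ QS_facts.2.1
    card := by
      rw [card_map_of_injective D.inj, Nat.card_eq_fintype_card, Fintype.card_subtype]
      exact QS_facts.1
    le := ?_, comm := ?_, sq := ?_, central := ?_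
    normal := ?_
    x3 := D.x3, xz := D.xz
    yz := D.zc _
    fix := ?_
    xQ := fun h => by obtain ⟨s, -, hs⟩ := hmem h; exact D.x_notMem s hs.symm
    yx := hyx
    yy := ?_, cover := ?_
    card_cent := D.card_cent }
  · rintro _ ⟨s, -, rfl⟩; exact D.zc s
  · rintro _ ⟨a, ha, rfl⟩ _ ⟨b, hb, rfl⟩
    rw [← map_mul, ← map_mul, ← map_mul]
    rcases QS_facts.2.2.2.2.2 a ha b hb with h | h
    · exact Or.inl (congrArg D.f h)
    · exact Or.inr (congrArg D.f (h.trans (zs_facts.2.2.1 _)))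
  · rintro _ ⟨a, ha, rfl⟩
    rw [← map_mul]
    rcases QS_facts.2.2.2.2.1 a ha with h | h <;> rw [h]
    · exact Or.inl (map_one _)
    · exact Or.inr rfl
  · rintro _ ⟨w, hw, rfl⟩ h
    rcases QS_center w hw fun e he => D.inj (by
        rw [map_mul, map_mul]; exact h _ (mem_map_of_mem _ he)) with e | e <;> rw [e]
    · exact Or.inl (map_one _)
    · exact Or.inr rfl
  · rintro g hg _ ⟨s, hs, rfl⟩
    obtain ⟨s', hs', he'⟩ := D.normal hg hs
    exact ⟨s', hs', he'.symm⟩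
  · rintro _ ⟨s, hs, rfl⟩ h
    rcases D.fix s hs (by rw [← h, mul_inv_cancel_right]) with e | e <;> rw [e]
    · exact Or.inl (map_one _)
    · exact Or.inr rfl
  · have hq2 : r * ts * (r * ts) ∈ QS := by
      rw [show r * ts * (r * ts) = r * (ts * r * ts) by group]
      refine mul_mem hr ?_
      have := ts_conj.1 r hr
      rwa [ts_conj.2.1] at this
    rw [hy, ← map_mul]
    rcases D.fix _ hq2 (by
      rw [map_mul, ← hy]
      have h1 : y * y * D.x * (y * y)⁻¹ = D.x := by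
        rw [show y * y * D.x * (y * y)⁻¹ = y * (y * D.x * y⁻¹) * y⁻¹ by group, hyx,
          show y * D.x⁻¹ * y⁻¹ = (y * D.x * y⁻¹)⁻¹ by group, hyx, inv_inv]
      rw [← mul_inv_eq_iff_eq_mul.1 h1, mul_inv_cancel_right]) with e | e <;> rw [e]
    · exact Or.inl (map_one _)
    · exact Or.inr rfl
  · intro g hg
    obtain ⟨s, i, rfl⟩ := D.cover g hg
    by_cases hs : s ∈ QS
    · exact ⟨_, mem_map_of_mem _ hs, i, 0, by simp⟩
    · obtain ⟨q0, hq0, rfl⟩ : ∃ q ∈ QS, s = q * ts := ⟨s * ts⁻¹, ts_conj.2.2.1 s hs, by group⟩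
      refine ⟨D.f (q0 * r⁻¹), mem_map_of_mem _ (mul_mem hq0 (inv_mem hr)),
        ⟨2 * (i : ℕ) % 3, Nat.mod_lt _ (by norm_num)⟩, 1, ?_⟩
      have hx : D.x ^ (2 * (i : ℕ) % 3) = D.x ^ (2 * (i : ℕ)) := by
        conv_rhs => rw [← Nat.mod_add_div (2 * (i : ℕ)) 3, pow_add, pow_mul, D.x3, one_pow, mul_one]
      have hconj : y * D.x ^ (i : ℕ) * y⁻¹ = D.x ^ (2 * (i : ℕ)) := by
        rw [← conj_pow, hyx, hxi, pow_mul]
      show D.f (q0 * ts) * D.x ^ (i : ℕ) = D.f (q0 * r⁻¹) * D.x ^ (2 * (i : ℕ) % 3) * y ^ 1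
      rw [hx, pow_one, ← hconj, hy]
      simp only [map_mul, map_inv]; group

/-- The model of the centralizer. -/
theorem exists_emb (hv : ∃ g : K, g * D.f zs * g⁻¹ = D.f vs) :
    ∃ h : M12Cent.Emb (D.f zs), ∃ v : M12Cent.M,
      2 ≤ M12Cent.M.ty v ∧ M12Cent.M.ty v ≤ 3 ∧ IsConj (D.f zs) (h.ι v) := by
  obtain ⟨y, b⟩ := D.exists_base32
  obtain ⟨g, hg⟩ := hv
  rcases b.emb ⟨g, by rw [hg]; exact mem_map_of_mem _ v_facts.2.2.2.2.2.1, by
      rw [hg]; exact fun e => v_facts.2.2.1 (D.inj e)⟩ with ⟨h, -⟩ | hM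
  swap
  · exact hM
  exfalso
  classical
  obtain ⟨L, hL0, hL16, hLmul, hLsq⟩ := Cent32.V.sixteen
  have h1L : (1 : Cent32.V) ∈ L := by
    rw [hL0]; simp [show (1 : Cent32.V) = Cent32.V.mk' 0 from rfl]
  let A : Subgroup Cent32.V :=
    { carrier := {a | a ∈ L}
      mul_mem' := fun {a b} ha hb => (hLmul a ha b hb).1
      one_mem' := h1L
      inv_mem' := fun {a} ha => (inv_eq_of_mul_eq_one_right (hLsq a ha).1).symm ▸ ha }
  have hA16 : Nat.card (A.map h.ι) = 16 := by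
    rw [card_map_of_injective h.inj, ← hL16]
    exact Nat.subtype_card L.toFinset fun a => List.mem_toFinset
  have hAz : A.map h.ι ≤ centralizer ({D.f zs} : Set K) := by
    rw [← h.range]; exact map_le_range _ _
  obtain ⟨c, -, hc⟩ := D.toBase.conj_into (H := centralizer ({D.f zs} : Set K)) D.toBase.range_le
    (IsPGroup.of_card (n := 4) (by rw [hA16]; norm_num)) hAz
  set T := ((A.map h.ι).map (MulAut.conj c).toMonoidHom).comap D.f with hT
  have hT16 : Nat.card T = 16 := by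
    have hle : (A.map h.ι).map (MulAut.conj c).toMonoidHom ≤ D.f.range := by
      rintro _ ⟨a, ha, rfl⟩
      obtain ⟨s, hs⟩ := hc a ha
      exact ⟨s, hs.symm⟩
    rw [← card_map_of_injective (K := T) D.inj, map_comap_eq, inf_eq_right.2 hle,
      card_map_of_injective (MulEquiv.injective _), hA16]
  have hcomm : ∀ a ∈ T, ∀ b ∈ T, a * b = b * a ∧ a * a = 1 := by
    rintro a ⟨_, ⟨a', ha', rfl⟩, hae⟩ b ⟨_, ⟨b', hb', rfl⟩, hbe⟩
    refine ⟨D.inj ?_, D.inj ?_⟩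
    · rw [map_mul, map_mul, ← hae, ← hbe, ← map_mul, ← map_mul, ← map_mul, ← map_mul,
        (hLmul a' ha' b' hb').2]
    · rw [map_mul, ← hae, ← map_mul, ← map_mul, (hLsq a' ha').1, map_one, map_one, map_one]
  have small : ∀ F : Finset ↥SM, F.card ≤ 4 → ∃ t ∈ T, t ∉ F := by
    intro F hF
    by_contra! hcon
    have : Nat.card T ≤ Nat.card F :=
      Nat.card_le_card_of_injective (fun t => ⟨t.1, hcon t.1 t.2⟩) fun s t e => Subtype.ext
        (congrArg (fun w : F => w.1) e)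
    rw [hT16, Nat.card_eq_fintype_card, Fintype.card_coe] at this
    omega
  obtain ⟨a, ha, ha'⟩ := small {1, zs} ((Finset.card_le_two).trans (by norm_num))
  obtain ⟨b, hb, hb'⟩ := small {1, zs, a, a * zs} Finset.card_le_four
  simp only [Finset.mem_insert, Finset.mem_singleton, not_or] at ha' hb'
  have hlt := no_sixteen a b (hcomm a ha a ha).2 (hcomm b hb b hb).2 (hcomm a ha b hb).1 ha'.1 ha'.2
    hb'.1 hb'.2.1 hb'.2.2.1 hb'.2.2.2
  refine absurd hlt (not_lt.2 ?_)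
  rw [← hT16, ← Fintype.card_subtype, ← Nat.card_eq_fintype_card]
  exact Nat.card_le_card_of_injective
    (fun t => ⟨t.1, (hcomm t.1 t.2 t.1 t.2).2, (hcomm t.1 t.2 a ha).1, (hcomm t.1 t.2 b hb).1⟩)
    fun s t e => Subtype.ext (by simpa using e)

end Mod

end Cfsg.Agent.M12Type
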