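import Cfsg.Agent.M12Cent.Facts
import Cfsg.Prelude.Def_Local
import Cfsg.Prelude.Def_Solvable
import Cfsg.Prelude.Def_Transfer

/-!
Groups whose Sylow 2-subgroups are those of the Mathieu group of degree twelve: the model of the
Sylow subgroup and the interface of the pieces of the proof.
-/

set_option autoImplicit false
set_option maxRecDepth 8000

namespace Cfsg.Agent.M12Type

open M12Cent

/-- The Sylow 2-subgroup of the model of the centralizer of a central involution. -/
def SM : Subgroup M where
  carrier := {x | M.inS x = true}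
  mul_mem' := fun hx hy => M.inS_spec.2.2.1 _ _ hx hy
  one_mem' := M.inS_spec.1
  inv_mem' := fun {x} hx => (show ∀ y : M, M.inS y = true → M.inS y⁻¹ = true by decide +kernel) x hx

instance : DecidablePred (· ∈ SM) := fun x => decEq (M.inS x) true

/-- The element with the given index, or one. -/
def el (n : ℕ) : ↥SM :=
  if h : M.inS (M.mk' n) = true then ⟨M.mk' n, h⟩ else 1

/-- The central involution. -/
def zs : ↥SM := el 168

/-- An involution of the second centre: centralizer of order 32. -/
def vs : ↥SM := el 48

/-- An involution fused to the central one, in the normal subgroup of order 32. -/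
def bs : ↥SM := el 24

/-- An involution outside the normal subgroup of order 32. -/
def ts : ↥SM := el 14

/-- An involution of the other class. -/
def a1 : ↥SM := el 7

/-- An involution of the other class. -/
def a2 : ↥SM := el 16

/-- An involution of the other class. -/
def a3 : ↥SM := el 23

/-- The extraspecial subgroup of order 32. -/
def QS : Subgroup ↥SM where
  carrier := {x | M.inQ (x : M) = true}
  mul_mem' := fun hx hy => M.inQ_spec.2.1 _ _ hx hy
  one_mem' := M.inQ_spec.1
  inv_mem' := fun {x} hx =>
    (show ∀ y : M, M.inQ y = true → M.inQ y⁻¹ = true by decide +kernel) (x : M) hx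

instance : DecidablePred (· ∈ QS) := fun x => decEq (M.inQ (x : M)) true

/-- The subgroup of order eight containing the conjugates of `vs` and `bs`. -/
def ES : Finset ↥SM := [0, 24, 48, 72, 96, 120, 144, 168].toFinset.image el

/-- A Sylow 2-subgroup of a group, as an image of the model. -/
structure Base (G : Type*) [Group G] where
  /-- the embedding -/
  f : ↥SM →* G
  inj : Function.Injective f
  sylow : ∃ P : Sylow 2 G, (P : Subgroup G) = f.range

namespace Base

variable {G : Type*} [Group G] (B : Base G)

/-- The central involution. -/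
def z : G := B.f zs

/-- The hypotheses on the group that are used. -/
structure Simp : Prop where
  two : ∃ u : G, orderOf u = 2 ∧ ¬ IsConj B.z u
  no_index_two : ∀ N : Subgroup G, N.Normal → N.index ≠ 2
  not_isolated : ∃ g : G, g * B.z * g⁻¹ * B.z = B.z * (g * B.z * g⁻¹) ∧ g * B.z * g⁻¹ ≠ B.z

/-- The fusion of the central involution: its conjugates in its centralizer, and an element of
the normalizer of the four-group of `zs` and `vs` moving it. -/
structure Fus : Prop where
  extremal : ∀ u : G, orderOf u = 2 → Commute u B.z → IsConj B.z u → u ≠ B.z →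
    ∃ c : G, Commute c B.z ∧ (c * u * c⁻¹ = B.f vs ∨ c * u * c⁻¹ = B.f ts)
  mover : ∃ g : G, g * B.z * g⁻¹ = B.f vs ∧
    ∀ q ∈ [zs, vs, vs * zs], ∃ q' ∈ [zs, vs, vs * zs], g * B.f q * g⁻¹ = B.f q'

/-- The centralizer of the central involution modulo its core: `2^(1+4)` extended by the symmetric
group of degree three, acting without fixed points other than the centre. -/
structure Cent : Prop where
  structure' : ∃ x : G, Commute x B.z ∧ x ^ 3 ∈ centralizerPPrimeCore 2 B.z ∧
    (∀ q ∈ QS, ∃ q' ∈ QS, x * B.f q * x⁻¹ = B.f q') ∧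
    (∀ q ∈ QS, x * B.f q * x⁻¹ = B.f q → q = 1 ∨ q = zs) ∧
    (∀ q ∈ ES, ∃ q' ∈ ES, x * B.f q * x⁻¹ = B.f q') ∧
    (∃ o ∈ centralizerPPrimeCore 2 B.z, ∃ q ∈ QS, B.f ts * x * (B.f ts)⁻¹ = o * B.f q * x ^ 2) ∧
    ∀ g : G, Commute g B.z → ∃ o ∈ centralizerPPrimeCore 2 B.z, ∃ s : ↥SM, ∃ i : Fin 3, g = o * B.f s * x ^ (i : ℕ)
  conj_b : ∃ c : G, Commute c B.z ∧ c * B.f vs * c⁻¹ = B.f bs
  conj_a : ∀ s ∈ [a2, a3], ∃ c : G, Commute c B.z ∧ c * B.f a1 * c⁻¹ = B.f s
  not_conj_a : ¬ IsConj B.z (B.f a1)

end Base

end Cfsg.Agent.M12Type
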