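import Cfsg.Agent.M12Type.Recog
import Cfsg.Agent.M12Type.Setup

/-!
The simple group is the Mathieu group of degree twelve once the core of the centralizer of the
central involution is trivial.
-/

set_option autoImplicit false

namespace Cfsg.Agent.M12Type

open Subgroup

/-- The last step. -/
theorem iso_of_core_bot {G : Type*} [Group G] [Finite G] [IsSimpleGroup G] (B : Base G)
    (h : B.Simp) (K : B.Cent) (hO : centralizerPPrimeCore 2 B.z = ⊥) : Cfsg.Spor.IsoM12 G := by
  rcases B.recog K hO (B.z_conj_v h) with h' | ⟨N, hN, -, -, h8, -⟩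
  · exact h'
  · exfalso
    have h64 : 64 ∣ Nat.card G := B.card_range ▸ card_subgroup_dvd_card B.f.range
    rcases hN.eq_bot_or_eq_top with rfl | rfl
    · rw [card_bot] at h8; omega
    · rw [card_top] at h8; omega

end Cfsg.Agent.M12Type
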