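import Cfsg.Agent.M12Type.Defs

/-!
Finite facts about the model of the Sylow 2-subgroup, checked by evaluation.
-/

set_option autoImplicit false
set_option maxRecDepth 20000
set_option synthInstance.maxSize 1000
set_option maxHeartbeats 1000000

namespace Cfsg.Agent.M12Type

open M12Cent

/-- The order of a centralizer. -/
def cc (r : ↥SM) : ℕ := (Finset.univ.filter fun g : ↥SM => g * r = r * g).card

/-- The index of an element. -/
def ix (x : ↥SM) : ℕ := (x : M).v.1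

theorem card_SM : Fintype.card ↥SM = 64 := by decide +kernel

theorem zs_facts : zs ≠ 1 ∧ zs * zs = 1 ∧ (∀ s : ↥SM, s * zs = zs * s) ∧
    (∀ x : ↥SM, (∀ y : ↥SM, x * y = y * x) → x = 1 ∨ x = zs) := by decide +kernel

theorem inv_class : ∀ r : ↥SM, r * r = 1 → r ≠ 1 → r ≠ zs →
    ∃ g : ↥SM, g * r * g⁻¹ ∈ [vs, ts, bs, a1, a2, a3] := by decide +kernel

theorem four_facts : ∀ r ∈ [bs, a1, a2, a3], r * r = 1 ∧ r ≠ 1 ∧ r ≠ zs ∧ r ∈ QS ∧ cc r = 16 ∧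
    (∀ g : ↥SM, g * r = r * g → g * g = 1 ∨ g * g = zs) ∧
    ∃ g : ↥SM, g * r = r * g ∧ g * g = zs := by decide +kernel

theorem big_cent : ∀ r : ↥SM, r * r = 1 → r ≠ 1 → r ≠ zs → 16 ≤ cc r →
    ∃ g : ↥SM, g * r * g⁻¹ ∈ [vs, bs, a1, a2, a3] := by decide +kernel

theorem huge_cent : ∀ r : ↥SM, r * r = 1 → r ≠ 1 → r ≠ zs → 32 ≤ cc r →
    ∃ g : ↥SM, g * r * g⁻¹ = vs := by decide +kernel

theorem v_facts : vs * vs = 1 ∧ vs ≠ 1 ∧ vs ≠ zs ∧ vs * zs ≠ 1 ∧ cc vs = 32 ∧ vs ∈ QS ∧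
    (∀ g : ↥SM, g * vs * g⁻¹ = vs ∨ g * vs * g⁻¹ = vs * zs) ∧
    (∃ g : ↥SM, g * vs * g⁻¹ = vs * zs) ∧
    (∀ x : ↥SM, x * vs = vs * x → (∀ y : ↥SM, y * vs = vs * y → x * y = y * x) →
      x = 1 ∨ x ∈ [zs, vs, vs * zs]) := by decide +kernel

theorem t_facts : ts * ts = 1 ∧ ts ≠ 1 ∧ ts ≠ zs ∧ ts ∉ QS ∧ cc ts = 8 ∧
    ∀ x : ↥SM, x * ts = ts * x → x = 1 ∨ x ∈ [zs, vs, vs * zs] ∨
      ∃ g : ↥SM, g * x * g⁻¹ = ts := by decide +kernel

/-- A maximal subgroup of the model. -/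
def MA : Subgroup ↥SM where
  carrier := {x | decide (ix x ∈ [0, 5, 7, 18, 33, 38, 40, 47, 48, 53, 55, 66, 81, 86, 88, 95, 105,
    110, 112, 119, 120, 125, 127, 138, 153, 158, 160, 167, 168, 173, 175, 186]) = true}
  mul_mem' := fun {a b} ha hb => (show ∀ a b : ↥SM, decide (ix a ∈ [0, 5, 7, 18, 33, 38, 40, 47,
    48, 53, 55, 66, 81, 86, 88, 95, 105, 110, 112, 119, 120, 125, 127, 138, 153, 158, 160, 167,
    168, 173, 175, 186]) = true → decide (ix b ∈ [0, 5, 7, 18, 33, 38, 40, 47, 48, 53, 55, 66, 81,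
    86, 88, 95, 105, 110, 112, 119, 120, 125, 127, 138, 153, 158, 160, 167, 168, 173, 175, 186]) =
    true → decide (ix (a * b) ∈ [0, 5, 7, 18, 33, 38, 40, 47, 48, 53, 55, 66, 81, 86, 88, 95, 105,
    110, 112, 119, 120, 125, 127, 138, 153, 158, 160, 167, 168, 173, 175, 186]) = true
    by decide +kernel) a b ha hb
  one_mem' := by decide +kernel
  inv_mem' := fun {a} ha => (show ∀ a : ↥SM, decide (ix a ∈ [0, 5, 7, 18, 33, 38, 40, 47,
    48, 53, 55, 66, 81, 86, 88, 95, 105, 110, 112, 119, 120, 125, 127, 138, 153, 158, 160, 167,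
    168, 173, 175, 186]) = true → decide (ix a⁻¹ ∈ [0, 5, 7, 18, 33, 38, 40, 47, 48, 53, 55, 66,
    81, 86, 88, 95, 105, 110, 112, 119, 120, 125, 127, 138, 153, 158, 160, 167, 168, 173, 175,
    186]) = true by decide +kernel) a ha

instance : DecidablePred (· ∈ MA) := fun _ => decEq _ _

/-- Another maximal subgroup of the model. -/
def MB : Subgroup ↥SM where
  carrier := {x | decide (ix x ∈ [0, 5, 9, 23, 31, 38, 40, 42, 48, 53, 57, 71, 79, 86, 88, 90, 103,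
    110, 112, 114, 120, 125, 129, 143, 151, 158, 160, 162, 168, 173, 177, 191]) = true}
  mul_mem' := fun {a b} ha hb => (show ∀ a b : ↥SM, decide (ix a ∈ [0, 5, 9, 23, 31, 38, 40, 42,
    48, 53, 57, 71, 79, 86, 88, 90, 103, 110, 112, 114, 120, 125, 129, 143, 151, 158, 160, 162,
    168, 173, 177, 191]) = true → decide (ix b ∈ [0, 5, 9, 23, 31, 38, 40, 42, 48, 53, 57, 71, 79,
    86, 88, 90, 103, 110, 112, 114, 120, 125, 129, 143, 151, 158, 160, 162, 168, 173, 177, 191]) =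
    true → decide (ix (a * b) ∈ [0, 5, 9, 23, 31, 38, 40, 42, 48, 53, 57, 71, 79, 86, 88, 90, 103,
    110, 112, 114, 120, 125, 129, 143, 151, 158, 160, 162, 168, 173, 177, 191]) = true
    by decide +kernel) a b ha hb
  one_mem' := by decide +kernel
  inv_mem' := fun {a} ha => (show ∀ a : ↥SM, decide (ix a ∈ [0, 5, 9, 23, 31, 38, 40, 42,
    48, 53, 57, 71, 79, 86, 88, 90, 103, 110, 112, 114, 120, 125, 129, 143, 151, 158, 160, 162,
    168, 173, 177, 191]) = true → decide (ix a⁻¹ ∈ [0, 5, 9, 23, 31, 38, 40, 42, 48, 53, 57, 71,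
    79, 86, 88, 90, 103, 110, 112, 114, 120, 125, 129, 143, 151, 158, 160, 162, 168, 173, 177,
    191]) = true by decide +kernel) a ha

instance : DecidablePred (· ∈ MB) := fun _ => decEq _ _

theorem MA_facts : (Finset.univ.filter fun x : ↥SM => x ∈ MA).card = 32 ∧
    ∀ x ∈ MA, x * x = 1 → x = 1 ∨ x = zs ∨ ∃ g : ↥SM, g * x * g⁻¹ ∈ [vs, a1] := by decide +kernel

theorem MB_facts : (Finset.univ.filter fun x : ↥SM => x ∈ MB).card = 32 ∧
    ∀ x ∈ MB, x * x = 1 → x = 1 ∨ x = zs ∨ ∃ g : ↥SM, g * x * g⁻¹ ∈ [vs, a3] := by decide +kernel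

theorem QS_facts : (Finset.univ.filter fun x : ↥SM => x ∈ QS).card = 32 ∧ zs ∈ QS ∧
    (∀ x : ↥SM, x ∉ QS → ∀ y : ↥SM, y ∉ QS → x * y ∈ QS) ∧
    (∀ x ∈ QS, ∀ g : ↥SM, g * x * g⁻¹ ∈ QS) ∧
    (∀ x ∈ QS, x * x = 1 ∨ x * x = zs) ∧
    (∀ x ∈ QS, ∀ y ∈ QS, x * y = y * x ∨ x * y = y * x * zs) := by decide +kernel

end Cfsg.Agent.M12Type
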