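import Cfsg.Agent.M12Type.Model

/-!
Facts about the model of the Sylow 2-subgroup used in the quotient by the central involution.
-/

set_option autoImplicit false
set_option maxRecDepth 20000
set_option synthInstance.maxSize 1000
set_option maxHeartbeats 1000000

namespace Cfsg.Agent.M12Type

/-- Equality up to the central involution. -/
def eqz (x y : ↥SM) : Prop := x = y ∨ x = y * zs

instance (x y : ↥SM) : Decidable (eqz x y) := inferInstanceAs (Decidable (_ ∨ _))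

theorem fs_closed : (∀ a b : ↥SM, eqz (a * ts) (ts * a) → eqz (b * ts) (ts * b) →
      eqz (a * b * ts) (ts * (a * b))) ∧
    (∀ a : ↥SM, eqz (a * ts) (ts * a) → eqz (a⁻¹ * ts) (ts * a⁻¹)) ∧
    eqz (1 * ts) (ts * 1) := by decide +kernel

/-- The preimage of the centralizer of the image of `ts`. -/
def FS : Subgroup ↥SM where
  carrier := {x | eqz (x * ts) (ts * x)}
  mul_mem' := fun {a b} ha hb => fs_closed.1 a b ha hb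
  one_mem' := fs_closed.2.2
  inv_mem' := fun {a} ha => fs_closed.2.1 a ha

instance : DecidablePred (· ∈ FS) := fun x => inferInstanceAs (Decidable (eqz (x * ts) (ts * x)))

theorem FS_facts : (Finset.univ.filter fun x : ↥SM => x ∈ FS).card = 16 ∧ zs ∈ FS ∧ ts ∈ FS ∧
    (∀ x ∈ FS, ∀ y ∈ FS, eqz (x * y) (y * x)) ∧
    (∀ x ∈ FS, eqz (x * x) 1) ∧
    (∀ x ∈ FS, ∀ g : ↥SM, g * x * g⁻¹ ∈ FS) ∧
    (∀ s : ↥SM, s * s ∈ FS) := by decide +kernel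

theorem FS_cent : ∀ x ∈ FS, x ∉ QS →
    (Finset.univ.filter fun s : ↥SM => eqz (s * x) (x * s)).card ≤ 16 := by decide +kernel

theorem FS_trans : ∀ c ∈ FS, c ∈ QS →
    (∃ s : ↥SM, eqz (s * ts * s⁻¹) (ts * c)) ∧ ∀ s : ↥SM, eqz (s * c * s⁻¹) c := by decide +kernel

theorem Z_four : (∀ a ∈ FS, a ∈ QS → ∃ b ∈ FS, b ∈ QS ∧ ¬ eqz b 1 ∧ ¬ eqz b a) ∧
    ∀ a ∈ FS, a ∈ QS → ∀ b ∈ FS, b ∈ QS → ∀ d ∈ FS, d ∈ QS → ¬ eqz a 1 → ¬ eqz b 1 → ¬ eqz a b →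
      eqz d 1 ∨ eqz d a ∨ eqz d b ∨ eqz d (a * b) := by decide +kernel

theorem outside : ∀ s : ↥SM, s ∉ QS → eqz (s * s) 1 → ∃ g : ↥SM, eqz (g * ts * g⁻¹) s := by
  decide +kernel

/-- The three nontrivial points of the image of `ES`. -/
def pe : Fin 3 → ↥SM := ![vs, bs, el 72]

theorem pe_facts : (∀ i, pe i ∈ QS ∧ pe i * pe i = 1 ∧ ¬ eqz (pe i) 1) ∧
    (∀ i j, eqz (pe i) (pe j) → i = j) ∧
    (∀ x ∈ QS, x * x = 1 → (∃ g : ↥SM, g * x * g⁻¹ ∈ [vs, bs]) → ∃ i, eqz x (pe i)) ∧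
    (∀ q ∈ QS, (∀ i j, (q * pe i = pe i * q ↔ q * pe j = pe j * q)) →
      eqz q 1 ∨ ∃ i, eqz q (pe i)) ∧
    (∀ q ∈ QS, ∀ r ∈ QS, (∀ i, q * pe i = pe i * q ↔ r * pe i = pe i * r) →
      eqz r q ∨ ∃ i, eqz r (q * pe i)) ∧
    (∀ s : ↥SM, (∀ i, eqz (s * pe i * s⁻¹) (pe i)) → s ∈ QS) ∧
    (∀ i, eqz (ts * pe i * ts⁻¹) (pe (![0, 2, 1] i))) ∧
    (∀ q ∈ QS, ∀ i, eqz (q * pe i * q⁻¹) (pe i)) := by decide +kernel

theorem ES_facts : (∀ x ∈ ES, x ∈ QS ∧ (eqz x 1 ∨ ∃ i, eqz x (pe i))) ∧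
    (∀ i, pe i ∈ ES ∧ pe i * zs ∈ ES) ∧ (1 : ↥SM) ∈ ES ∧ zs ∈ ES := by decide +kernel

theorem QS_commute : ∀ q ∈ QS, ∀ r ∈ QS, q * r * q⁻¹ * r⁻¹ = 1 ∨ q * r * q⁻¹ * r⁻¹ = zs := by
  decide +kernel

/-- Representatives of the pairs in two classes. -/
def L4 : List ↥SM := [el 7, el 47, el 23, el 79]

/-- Representatives of the pairs in four classes. -/
def L8 : List ↥SM := [el 7, el 47, el 23, el 79, el 24, el 72, el 16, el 64]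

theorem L_facts : (∀ x ∈ QS, x * x = 1 → ¬ eqz x 1 → (∀ g : ↥SM, g * x * g⁻¹ ∉ [vs, bs, a2]) →
      ∃ l ∈ L4, eqz x l) ∧
    (∀ x ∈ QS, x * x = 1 → ¬ eqz x 1 → (∀ g : ↥SM, g * x * g⁻¹ ≠ vs) → ∃ l ∈ L8, eqz x l) ∧
    (∀ l ∈ L4, l ∈ QS ∧ ∃ g : ↥SM, g * l * g⁻¹ ∈ [a1, a3]) ∧
    (∀ l ∈ L8, l ∈ QS ∧ ∃ g : ↥SM, g * l * g⁻¹ ∈ [a1, bs, a2, a3]) ∧
    (∀ l ∈ L8, ∀ m ∈ L8, eqz l m → l = m) ∧
    L4.toFinset.card = 4 ∧ L8.toFinset.card = 8 := by decide +kernel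

end Cfsg.Agent.M12Type
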