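import Cfsg.Agent.M12Type.CentQuot
import Cfsg.Agent.Invol.Count

/-!
The classes of the centralizer of the central involution on the involutions of the normal subgroup
of order 32.
-/

set_option autoImplicit false

namespace Cfsg.Agent.M12Type

open Subgroup

theorem zmod_two_key : ∀ a b : Multiplicative (ZMod 2), b ≠ 1 → a = 1 ∨ a = b := by decide

namespace Base

variable {G : Type*} [Group G] (B : Base G)

theorem pr_range_le_normalizer [Finite G] :
    B.pr.range ≤ normalizer (B.QX : Set B.XZ) := by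
  rintro _ ⟨s, rfl⟩
  refine mem_normalizer_of_le ?_
  rintro _ ⟨x, hx, rfl⟩
  exact ⟨s * x * s⁻¹, QS_facts.2.2.2.1 x hx s, by rw [map_mul, map_mul, map_inv]⟩

theorem QX_comm : ∀ x ∈ B.QX, ∀ y ∈ B.QX, x * y = y * x := by
  rintro _ ⟨a, ha, rfl⟩ _ ⟨b, hb, rfl⟩
  rw [← map_mul, ← map_mul, B.pr_eq_iff]
  exact QS_facts.2.2.2.2.2 a ha b hb

theorem QX_sq : ∀ x ∈ B.QX, x * x = 1 := by
  rintro _ ⟨a, ha, rfl⟩
  exact B.pr_sq ha

variable [Finite G]

/-- The normal subgroup of index two with Sylow 2-subgroup the image of `QS`. -/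
theorem exists_Y : ∃ (Y : Subgroup B.XZ) (A : Sylow 2 Y), Y.Normal ∧ Y.index = 2 ∧ B.QX ≤ Y ∧
    (A : Subgroup Y) = B.QX.subgroupOf Y ∧ B.pr ts ∉ Y := by
  have : Fact (Nat.Prime 2) := ⟨Nat.prime_two⟩
  obtain ⟨φ, hφt, hφ⟩ := B.exists_phi
  obtain ⟨S, hS⟩ := B.exists_sylow
  have hi : φ.ker.index = 2 := by
    rw [Subgroup.index_ker]
    have hr : φ.range = ⊤ := by
      rw [eq_top_iff]
      rintro a -
      rcases zmod_two_key a _ hφt with rfl | rfl
      · exact one_mem _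
      · exact ⟨_, rfl⟩
    rw [hr, Subgroup.card_top]
    simp
  have hQY : B.QX ≤ φ.ker := fun q hq => hφ q hq
  have hp : IsPGroup 2 (B.QX.subgroupOf φ.ker) := (IsPGroup.of_card (n := 4) (by
    rw [Nat.card_congr (subgroupOfEquivOfLe hQY).toEquiv, B.card_QX]; norm_num))
  have hrel : B.QX.relIndex S = 2 := by
    have h := relIndex_mul_relIndex ⊥ B.QX (S : Subgroup B.XZ) bot_le
      (by rw [hS]; exact map_le_range _ _)
    rw [relIndex_bot_left, relIndex_bot_left, hS, B.card_QX, B.card_pr_range] at h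
    rw [hS]; omega
  refine ⟨φ.ker, hp.toSylow fun h2 => S.not_dvd_index ?_, inferInstance, hi, hQY, rfl,
    fun h => hφt h⟩
  have h := relIndex_mul_index (H := B.QX) (K := φ.ker) hQY
  rw [← relIndex_mul_index (H := B.QX) (K := (S : Subgroup B.XZ))
    (by rw [hS]; exact map_le_range _ _), hrel, hi] at h
  rw [show (B.QX.subgroupOf φ.ker).index = B.QX.relIndex φ.ker from rfl] at h2
  omega

/-- Fusion in the image of `QS` is controlled by its normalizer. -/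
theorem burnside {x y : ↥SM} (hx : x ∈ QS) (hy : y ∈ QS) {g : B.XZ}
    (hg : g * B.pr x * g⁻¹ = B.pr y) :
    ∃ n ∈ normalizer (B.QX : Set B.XZ), n * B.pr x * n⁻¹ = B.pr y := by
  obtain ⟨Y, A, hY, -, hQY, hA, -⟩ := B.exists_Y
  set T := B.QX.map (MulAut.conj g).toMonoidHom
  have hTY : T ≤ Y := by
    rintro _ ⟨q, hq, rfl⟩
    exact hY.conj_mem q (hQY hq) g
  set H : Subgroup Y := (centralizer ({B.pr y} : Set B.XZ)).subgroupOf Y
  have hAH : (A : Subgroup Y) ≤ H := by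
    rw [hA]
    intro a ha
    exact mem_subgroupOf.2 (mem_centralizer_singleton_iff.2
      (B.QX_comm _ ha _ (mem_map_of_mem _ hy)))
  have hTH : T.subgroupOf Y ≤ H := by
    intro t ht
    obtain ⟨q, hq, hqe⟩ := ht
    refine mem_subgroupOf.2 (mem_centralizer_singleton_iff.2 ?_)
    have hq' : g * q * g⁻¹ = (t : B.XZ) := hqe
    rw [← hq', ← hg, show g * q * g⁻¹ * (g * B.pr x * g⁻¹) = g * (q * B.pr x) * g⁻¹ by group,
      B.QX_comm q hq _ (mem_map_of_mem _ hx)]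
    group
  have hTp : IsPGroup 2 (T.subgroupOf Y) := IsPGroup.of_card (n := 4) (by
    rw [Nat.card_congr (subgroupOfEquivOfLe hTY).toEquiv,
      card_map_of_injective (K := B.QX) (f := (MulAut.conj g).toMonoidHom) (MulAut.conj g).injective,
      B.card_QX]; norm_num)
  obtain ⟨c, hcH, hc⟩ := sylow_conj_into A hAH hTp hTH
  have hcy := mem_centralizer_singleton_iff.1 (mem_subgroupOf.1 hcH)
  refine ⟨(c : B.XZ) * g, mem_normalizer_of_le fun q hq => ?_, ?_⟩
  · have h := hc ⟨g * q * g⁻¹, hTY ⟨q, hq, rfl⟩⟩ (mem_subgroupOf.2 ⟨q, hq, rfl⟩)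
    have h' : c * ⟨g * q * g⁻¹, hTY ⟨q, hq, rfl⟩⟩ * c⁻¹ ∈ (A : Subgroup Y) := h
    rw [hA, mem_subgroupOf] at h'
    have e : (c : B.XZ) * g * q * ((c : B.XZ) * g)⁻¹ =
        (c : B.XZ) * (g * q * g⁻¹) * (c : B.XZ)⁻¹ := by group
    rw [e]
    exact h'
  · rw [show (c : B.XZ) * g * B.pr x * ((c : B.XZ) * g)⁻¹ =
      (c : B.XZ) * (g * B.pr x * g⁻¹) * (c : B.XZ)⁻¹ by group, hg, hcy, mul_inv_cancel_right]

/-- The orbit of the image of `a1` has size not divisible by four. -/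
theorem count (h : B.Simp) (L : List ↥SM) (hL : L.toFinset.card = 4 ∨ L.toFinset.card = 8)
    (hinj : ∀ l ∈ L, ∀ m ∈ L, eqz l m → l = m) (hLQ : ∀ l ∈ L, l ∈ QS)
    (hsub : ∀ x ∈ QS, IsConj (B.f a1) (B.f x) → ∃ l ∈ L, eqz x l)
    (hsup : ∀ l ∈ L, ∃ c : G, Commute c B.z ∧ c * B.f a1 * c⁻¹ = B.f l) : False := by
  classical
  have : Fact (Nat.Prime 2) := ⟨Nat.prime_two⟩
  set N := normalizer (B.QX : Set B.XZ)
  have haQ : a1 ∈ QS := (four_facts a1 (by simp)).2.2.2.1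
  have haN : B.pr a1 ∈ N := le_normalizer (mem_map_of_mem _ haQ)
  let a : ↥N := ⟨B.pr a1, haN⟩
  have hN : ∀ l ∈ L, B.pr l ∈ N := fun l hl => le_normalizer (mem_map_of_mem _ (hLQ l hl))
  have hconj : ∀ l : {l // l ∈ L.toFinset}, IsConj a (⟨B.pr l.1, hN _ (List.mem_toFinset.1 l.2)⟩) := by
    rintro ⟨l, hl⟩
    rw [List.mem_toFinset] at hl
    obtain ⟨c, hc, hce⟩ := hsup l hl
    have hmk : ((⟨c, mem_centralizer_singleton_iff.2 hc.eq⟩ : B.CZ) : B.XZ) * B.pr a1 *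
        ((⟨c, mem_centralizer_singleton_iff.2 hc.eq⟩ : B.CZ) : B.XZ)⁻¹ = B.pr l :=
      B.mk_eq_pr_iff.2 (Or.inl hce)
    obtain ⟨n, hn, hne⟩ := B.burnside haQ (hLQ l hl) hmk
    exact isConj_iff.2 ⟨⟨n, hn⟩, Subtype.ext hne⟩
  let F : {l // l ∈ L.toFinset} → {y : ↥N // IsConj a y} := fun l => ⟨_, hconj l⟩
  have hF : Function.Bijective F := by
    refine ⟨?_, ?_⟩
    · rintro ⟨l, hl⟩ ⟨m, hm⟩ e
      have e' : B.pr l = B.pr m := congrArg (fun w : {y : ↥N // IsConj a y} => (w.1 : B.XZ)) e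
      exact Subtype.ext (hinj l (List.mem_toFinset.1 hl) m (List.mem_toFinset.1 hm)
        (B.pr_eq_iff.1 e'))
    · rintro ⟨y, hy⟩
      obtain ⟨n, rfl⟩ := isConj_iff.1 hy
      obtain ⟨x, hx, hxe⟩ := (mem_normalizer_iff.1 n.2 (B.pr a1)).1 (mem_map_of_mem _ haQ)
      obtain ⟨c, hc⟩ := B.exists_lift (n : B.XZ)
      have hcx := B.mk_conj (c := c) (r := a1) (s := x) (by rw [hc]; exact hxe.symm)
      obtain ⟨x', hx', hxx, hx'c⟩ : ∃ x' ∈ QS, eqz x' x ∧ IsConj (B.f a1) (B.f x') := by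
        rcases hcx with h' | h'
        · exact ⟨x, hx, Or.inl rfl, isConj_iff.2 ⟨c, h'⟩⟩
        · exact ⟨x * zs, mul_mem hx QS_facts.2.1, Or.inr rfl, isConj_iff.2 ⟨c, h'⟩⟩
      obtain ⟨l, hl, hle⟩ := hsub x' hx' hx'c
      refine ⟨⟨l, List.mem_toFinset.2 hl⟩, Subtype.ext (Subtype.ext ?_)⟩
      show B.pr l = (n : B.XZ) * B.pr a1 * (n : B.XZ)⁻¹
      rw [← hxe, ← B.pr_eq_iff.2 hle, B.pr_eq_iff.2 hxx]
  have hO : 4 ∣ Nat.card {y : ↥N // IsConj a y} := by
    rw [← Nat.card_eq_of_bijective F hF, Nat.card_eq_fintype_card, Fintype.card_coe]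
    rcases hL with e | e <;> rw [e] <;> norm_num
  have hcard := Invol.card_isConj_mul_card_centralizer a
  have h16 : 16 ∣ Nat.card (centralizer ({a} : Set ↥N)) := by
    have h1 : Nat.card (B.QX.subgroupOf N) = 16 := by
      rw [Nat.card_congr (subgroupOfEquivOfLe le_normalizer).toEquiv, B.card_QX]
    rw [← h1]
    refine card_dvd_of_le fun q hq => mem_centralizer_singleton_iff.2 (Subtype.ext ?_)
    exact B.QX_comm _ (mem_subgroupOf.1 hq) _ (mem_map_of_mem _ haQ)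
  have h64 : 64 ∣ Nat.card B.XZ := by
    refine Dvd.dvd.trans ?_ (card_subgroup_dvd_card N)
    rw [← hcard]
    exact Nat.mul_dvd_mul hO h16
  obtain ⟨S, hS⟩ := B.exists_sylow
  have h := (S : Subgroup B.XZ).card_mul_index
  rw [hS, B.card_pr_range] at h
  rw [← h] at h64
  have hdvd : 2 ∣ B.pr.range.index :=
    Nat.dvd_of_mul_dvd_mul_left (show 0 < 32 by norm_num) (by simpa using h64)
  exact S.not_dvd_index (by rw [hS]; exact hdvd)

theorem inv_of_conj_a1 {x : ↥SM} (hx : IsConj (B.f a1) (B.f x)) (h : B.Simp) :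
    x * x = 1 ∧ ¬ eqz x 1 := by
  have hn := (B.not_conj_a h).1
  have ha := four_facts a1 (by simp)
  have ho : orderOf x = 2 := by
    rw [← orderOf_injective B.f B.inj]
    exact Invol.orderOf_eq_two_of_isConj hx (B.orderOf_f ha.1 ha.2.1)
  refine ⟨(Invol.orderOf_eq_two_iff.1 ho).2, ?_⟩
  rintro (e | e)
  · exact Invol.ne_one ho e
  · rw [one_mul] at e
    exact hn (e ▸ hx).symm

theorem fused_of_not (h : B.Simp) {r : ↥SM} (hr : r ∈ [bs, a1, a2, a3])
    (hn : ¬ IsConj B.z (B.f r)) :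
    ∃ c : G, Commute c B.z ∧ c * B.f a1 * c⁻¹ = B.f r := by
  obtain ⟨r2, r1, -⟩ := four_facts r hr
  exact B.four_conj (by simp) hr (B.other_class h (B.orderOf_f r2 r1) hn).1.symm
    (B.not_conj_a h).1 h

theorem sup_of_class (h : B.Simp) {l g r : ↥SM} (hg : g * l * g⁻¹ = r)
    (hr : r ∈ [bs, a1, a2, a3]) (hn : ¬ IsConj B.z (B.f r)) :
    ∃ c : G, Commute c B.z ∧ c * B.f a1 * c⁻¹ = B.f l := by
  obtain ⟨c, hc, hce⟩ := B.fused_of_not h hr hn
  refine ⟨(B.f g)⁻¹ * c, (B.comm_z g).inv_left.mul_left hc, ?_⟩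
  rw [show (B.f g)⁻¹ * c * B.f a1 * ((B.f g)⁻¹ * c)⁻¹ = (B.f g)⁻¹ * (c * B.f a1 * c⁻¹) * B.f g
    by group, hce, ← hg, B.conj_f]
  group

/-- Exactly one of `bs` and `a2` is conjugate to the central involution. -/
theorem b_or_a2 (h : B.Simp) : IsConj B.z (B.f bs) ↔ ¬ IsConj B.z (B.f a2) := by
  obtain ⟨hL4, hL8, hm4, hm8, hinj, c4, c8⟩ := L_facts
  obtain ⟨hn1, hn3⟩ := B.not_conj_a h
  have hsub4 : ∀ l ∈ L4, l ∈ L8 := by decide +kernel
  constructor
  · intro hb ha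
    refine B.count h L4 (Or.inl c4) (fun l hl m hm => hinj l (hsub4 l hl) m (hsub4 m hm))
      (fun l hl => (hm4 l hl).1) (fun x hx hxc => ?_) (fun l hl => ?_)
    · obtain ⟨x2, x1⟩ := B.inv_of_conj_a1 hxc h
      refine hL4 x hx x2 x1 fun g hg => hn1 ?_
      simp only [List.mem_cons, List.not_mem_nil, or_false] at hg
      rcases hg with hg | hg | hg
      · exact (B.z_conj_v h).trans (hxc.trans (B.isConj_f hg)).symm
      · exact hb.trans (hxc.trans (B.isConj_f hg)).symm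
      · exact ha.trans (hxc.trans (B.isConj_f hg)).symm
    · obtain ⟨-, g, hg⟩ := hm4 l hl
      simp only [List.mem_cons, List.not_mem_nil, or_false] at hg
      rcases hg with hg | hg
      · exact B.sup_of_class h hg (by simp) hn1
      · exact B.sup_of_class h hg (by simp) hn3
  · intro ha
    by_contra hb
    refine B.count h L8 (Or.inr c8) hinj (fun l hl => (hm8 l hl).1) (fun x hx hxc => ?_)
      (fun l hl => ?_)
    · obtain ⟨x2, x1⟩ := B.inv_of_conj_a1 hxc h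
      exact hL8 x hx x2 x1 fun g hg => hn1
        ((B.z_conj_v h).trans (hxc.trans (B.isConj_f hg)).symm)
    · obtain ⟨-, g, hg⟩ := hm8 l hl
      simp only [List.mem_cons, List.not_mem_nil, or_false] at hg
      rcases hg with hg | hg | hg | hg
      · exact B.sup_of_class h hg (by simp) hn1
      · exact B.sup_of_class h hg (by simp) hb
      · exact B.sup_of_class h hg (by simp) ha
      · exact B.sup_of_class h hg (by simp) hn3

theorem conj_b (h : B.Simp) (hb : IsConj B.z (B.f bs)) :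
    ∃ c : G, Commute c B.z ∧ c * B.f vs * c⁻¹ = B.f bs := by
  obtain ⟨b2, b1, bz, bQ, -⟩ := four_facts bs (by simp)
  obtain ⟨c, hc, hce | hce⟩ := B.extremal (B.orderOf_f b2 b1) (B.comm_z bs) hb
    (fun e => bz (B.inj e))
  · exact ⟨c⁻¹, hc.inv_left, by rw [← hce]; group⟩
  · exfalso
    let cc : B.CZ := ⟨c, mem_centralizer_singleton_iff.2 hc.eq⟩
    refine B.not_into_QX (cc : B.XZ)⁻¹ bQ ?_
    have e : (cc : B.XZ) * B.pr bs * (cc : B.XZ)⁻¹ = B.pr ts := B.mk_eq_pr_iff.2 (Or.inl hce)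
    rw [← e]; group

end Base

end Cfsg.Agent.M12Type
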