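import Cfsg.Agent.M12Type.Fusion
import Cfsg.Agent.Core.PCore

/-!
Passing to the quotient by a normal subgroup of odd order.
-/

set_option autoImplicit false

namespace Cfsg.Agent.M12Type

open Subgroup

/-- Involutions congruent modulo a normal subgroup of odd order are conjugate by it. -/
theorem conj_of_mk_eq {G : Type*} [Group G] [Finite G] {W : Subgroup G} [W.Normal]
    (hW : ¬ 2 ∣ Nat.card W) {u v : G} (hu : orderOf u = 2) (hv : orderOf v = 2)
    (h : (u : G ⧸ W) = v) : ∃ k ∈ W, k * u * k⁻¹ = v := by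
  have hr : v * u⁻¹ ∈ W := by
    rw [← QuotientGroup.eq_one_iff, QuotientGroup.mk_mul, QuotientGroup.mk_inv, h, mul_inv_cancel]
  obtain ⟨r, hrdef⟩ : ∃ r, r = v * u⁻¹ := ⟨_, rfl⟩
  rw [← hrdef] at hr
  have ho : ¬ 2 ∣ orderOf r := fun h2 => hW (h2.trans (Subgroup.orderOf_dvd_natCard W hr))
  obtain ⟨j, hj⟩ : ∃ j, orderOf r = 2 * j + 1 := ⟨orderOf r / 2, by omega⟩
  have hu2 := Invol.inv_eq_self hu
  have hinv : u * r * u⁻¹ = r⁻¹ := by
    rw [hrdef, mul_inv_rev, inv_inv, Invol.inv_eq_self hv, hu2, mul_assoc, mul_assoc,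
      Invol.mul_self_eq_one hu, mul_one]
  have hconj : ∀ m : ℕ, r ^ m * u * (r ^ m)⁻¹ = r ^ (2 * m) * u := by
    intro m
    have : u * (r ^ m)⁻¹ = r ^ m * u := by
      have h1 : u * r ^ m * u⁻¹ = (r ^ m)⁻¹ := by rw [← conj_pow, hinv, inv_pow]
      have h2 := congrArg Inv.inv h1
      rw [inv_inv, mul_inv_rev, mul_inv_rev, inv_inv, ← mul_assoc] at h2
      exact mul_inv_eq_iff_eq_mul.1 h2
    rw [mul_assoc, this, ← mul_assoc, ← pow_add, two_mul]
  refine ⟨r ^ (j + 1), pow_mem hr _, ?_⟩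
  rw [hconj, show 2 * (j + 1) = orderOf r + 1 by omega, pow_succ, pow_orderOf_eq_one, one_mul, hrdef,
    inv_mul_cancel_right]

namespace Base

variable {G : Type*} [Group G] [Finite G] (B : Base G) (W : Subgroup G) [W.Normal]
  (hW : ¬ 2 ∣ Nat.card W)

/-- The model in the quotient by a normal subgroup of odd order. -/
def mapQ : Base (G ⧸ W) where
  f := (QuotientGroup.mk' W).comp B.f
  inj := by
    rw [← MonoidHom.ker_eq_bot_iff, eq_bot_iff]
    intro s hs
    rw [mem_bot]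
    have hsW : B.f s ∈ W := (QuotientGroup.eq_one_iff _).1 hs
    have : Fact (Nat.Prime 2) := ⟨Nat.prime_two⟩
    have hp : IsPGroup 2 ↥SM := IsPGroup.of_card (n := 6) (by
      rw [Nat.card_eq_fintype_card, card_SM]; norm_num)
    obtain ⟨k, hk⟩ := IsPGroup.iff_orderOf.1 hp s
    have h1 : orderOf (B.f s) ∣ Nat.card W := Subgroup.orderOf_dvd_natCard W hsW
    rw [orderOf_injective B.f B.inj, hk] at h1
    rcases k with - | k
    · rwa [pow_zero, orderOf_eq_one_iff] at hk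
    · exact absurd ((dvd_pow_self 2 k.succ_ne_zero).trans h1) hW
  sylow := by
    have : Fact (Nat.Prime 2) := ⟨Nat.prime_two⟩
    obtain ⟨P, hP⟩ := B.sylow
    exact ⟨P.mapSurjective (QuotientGroup.mk'_surjective W), by
      rw [Sylow.coe_mapSurjective, hP, MonoidHom.range_comp]⟩

theorem mapQ_f (s : ↥SM) : (B.mapQ W hW).f s = ((B.f s : G) : G ⧸ W) := rfl

theorem mapQ_z : (B.mapQ W hW).z = ((B.z : G) : G ⧸ W) := rfl

/-- The centralizer of the image is the image of the centralizer. -/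
theorem mapQ_lift {q : G ⧸ W} (hq : Commute q (B.mapQ W hW).z) :
    ∃ c : G, Commute c B.z ∧ (c : G ⧸ W) = q := by
  obtain ⟨g, rfl⟩ := QuotientGroup.mk'_surjective W q
  have he : ((g * B.z * g⁻¹ : G) : G ⧸ W) = B.z := by
    rw [QuotientGroup.mk_mul, QuotientGroup.mk_mul, QuotientGroup.mk_inv, mul_inv_eq_iff_eq_mul]
    exact hq.eq
  obtain ⟨k, hk, hke⟩ := conj_of_mk_eq hW (by rw [Invol.orderOf_conj, B.orderOf_z]) B.orderOf_z he
  refine ⟨k * g, ?_, ?_⟩
  · show k * g * B.z = B.z * (k * g)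
    rw [show k * g * B.z = k * (g * B.z * g⁻¹) * k⁻¹ * (k * g) by group, hke]
  · rw [QuotientGroup.mk_mul, (QuotientGroup.eq_one_iff k).2 hk, one_mul]
    rfl

/-- The map between the centralizers. -/
def centMap : ↥(centralizer ({B.z} : Set G)) →*
    ↥(centralizer ({(B.mapQ W hW).z} : Set (G ⧸ W))) :=
  ((QuotientGroup.mk' W).comp (centralizer ({B.z} : Set G)).subtype).codRestrict _ fun c =>
    mem_centralizer_singleton_iff.2 (congrArg (QuotientGroup.mk' W)
      (mem_centralizer_singleton_iff.1 c.2) |> fun e => by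
        rw [map_mul, map_mul] at e; exact e)

theorem centMap_surjective : Function.Surjective (B.centMap W hW) := fun q => by
  obtain ⟨c, hc, hce⟩ := B.mapQ_lift W hW (q := (q : G ⧸ W)) (mem_centralizer_singleton_iff.1 q.2)
  exact ⟨⟨c, mem_centralizer_singleton_iff.2 hc.eq⟩, Subtype.ext hce⟩

theorem mapQ_core {o : G} (ho : o ∈ centralizerPPrimeCore 2 B.z) :
    (o : G ⧸ W) ∈ centralizerPPrimeCore 2 (B.mapQ W hW).z := by
  obtain ⟨c, hc, rfl⟩ := ho
  exact ⟨B.centMap W hW c,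
    Core.map_pPrimeCore_le_of_surjective (B.centMap_surjective W hW) (mem_map_of_mem _ hc), rfl⟩

/-- The structure of the centralizer passes to the quotient. -/
theorem mapQ_cent (K : B.Cent) : (B.mapQ W hW).Cent := by
  have hmk : ∀ {a b : G}, a = b → (a : G ⧸ W) = b := fun h => by rw [h]
  obtain ⟨x, hxz, hx3, hxQ, hfix, hxE, ⟨o, ho, q0, hq0, htx⟩, cover⟩ := K.structure'
  refine ⟨⟨(x : G ⧸ W), hxz.map (QuotientGroup.mk' W), ?_, ?_, ?_, ?_, ?_, ?_⟩, ?_, ?_, ?_⟩
  · rw [← QuotientGroup.mk_pow]; exact B.mapQ_core W hW hx3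
  · intro q hq
    obtain ⟨q', hq', e⟩ := hxQ q hq
    exact ⟨q', hq', hmk e⟩
  · intro q hq e
    obtain ⟨q', hq', e'⟩ := hxQ q hq
    have h : q' = q := (B.mapQ W hW).inj ((hmk e').symm.trans e)
    exact hfix q hq (e'.trans (h ▸ rfl))
  · intro q hq
    obtain ⟨q', hq', e⟩ := hxE q hq
    exact ⟨q', hq', hmk e⟩
  · exact ⟨o, B.mapQ_core W hW ho, q0, hq0, hmk htx⟩
  · intro q hq
    obtain ⟨c, hc, rfl⟩ := B.mapQ_lift W hW hq
    obtain ⟨o', ho', s, i, e⟩ := cover c hc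
    exact ⟨o', B.mapQ_core W hW ho', s, i, hmk e⟩
  · obtain ⟨c, hc, e⟩ := K.conj_b
    exact ⟨(c : G ⧸ W), hc.map (QuotientGroup.mk' W), hmk e⟩
  · intro s hs
    obtain ⟨c, hc, e⟩ := K.conj_a s hs
    exact ⟨(c : G ⧸ W), hc.map (QuotientGroup.mk' W), hmk e⟩
  · intro hc
    obtain ⟨q, hq⟩ := isConj_iff.1 hc
    obtain ⟨g, rfl⟩ := QuotientGroup.mk'_surjective W q
    have ha := four_facts a1 (by simp)
    obtain ⟨k, -, hk⟩ := conj_of_mk_eq hW (u := g * B.z * g⁻¹) (v := B.f a1)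
      (by rw [Invol.orderOf_conj, B.orderOf_z]) (B.orderOf_f ha.1 ha.2.1) hq
    exact K.not_conj_a (isConj_iff.2 ⟨k * g, by rw [← hk]; group⟩)

/-- The core of the image centralizer is trivial. -/
theorem mapQ_core_bot (hO : centralizerPPrimeCore 2 B.z ≤ W) :
    centralizerPPrimeCore 2 (B.mapQ W hW).z = ⊥ := by
  rw [eq_bot_iff]
  rintro _ ⟨q, hq, rfl⟩
  obtain ⟨c, rfl⟩ := B.centMap_surjective W hW q
  set K := (pPrimeCore 2 ↥(centralizer ({(B.mapQ W hW).z} : Set (G ⧸ W)))).comap (B.centMap W hW)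
  have : Fact (Nat.Prime 2) := ⟨Nat.prime_two⟩
  have hKn : K.Normal := Core.pPrimeCore_normal.comap _
  have hKodd : ¬ 2 ∣ Nat.card K := by
    intro h2
    obtain ⟨w, hw⟩ := exists_prime_orderOf_dvd_card' 2 h2
    have himg : B.centMap W hW w = 1 := by
      rw [← orderOf_eq_one_iff]
      refine ((Nat.dvd_prime Nat.prime_two).1 ?_).resolve_right fun e2 => ?_
      · rw [← hw, ← Subgroup.orderOf_coe w]; exact orderOf_map_dvd _ _
      · have h3 := Subgroup.orderOf_dvd_natCard _ (mem_comap.1 w.2)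
        rw [e2] at h3
        exact Core.not_dvd_card_pPrimeCore (p := 2) h3
    refine hW (dvd_trans (dvd_of_eq ?_) (Subgroup.orderOf_dvd_natCard W
      ((QuotientGroup.eq_one_iff _).1 (congrArg Subtype.val himg))))
    rw [← hw, ← Subgroup.orderOf_coe w, ← Subgroup.orderOf_coe (w : ↥(centralizer ({B.z} : Set G)))]
    rfl
  have hcK : (c : G) ∈ centralizerPPrimeCore 2 B.z :=
    mem_map_of_mem _ (Core.le_pPrimeCore (p := 2) (N := K)
      ((Nat.prime_two.coprime_iff_not_dvd.2 hKodd).symm) hq)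
  rw [mem_bot]
  exact (QuotientGroup.eq_one_iff _).2 (hO hcK)

end Base

end Cfsg.Agent.M12Type
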