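import Cfsg.Agent.M12Type.Fusion
import Cfsg.Agent.M12Type.Model2
import Cfsg.Agent.S3344
import Cfsg.Agent.LargeExtra.Quotient
import Cfsg.Agent.Core.PCore

/-!
Recognition of the group when the core of the centralizer of the central involution is trivial.
-/

set_option autoImplicit false
set_option maxRecDepth 20000
set_option synthInstance.maxSize 1000
set_option maxHeartbeats 1000000

namespace Cfsg.Agent.M12Type

open Subgroup

theorem recog_facts : (∀ s : ↥SM, s ^ 3 = 1 → s = 1) ∧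
    (∃ a ∈ QS, ∃ b ∈ QS, a * b ≠ b * a) ∧
    (∀ c ∈ QS, (∀ q ∈ QS, c * q = q * c) → c = 1 ∨ c = zs) ∧
    ∀ r : ↥SM, r * r = 1 → r ∉ [1, zs, vs, vs * zs] →
      cc r < 16 ∨ cc r = 16 ∧ ∃ g : ↥SM, g * r = r * g ∧ g * g ≠ 1 := by decide +kernel

theorem alt_eight_E16 : ∃ a b c d : ↥(alternatingGroup (Fin 8)),
    a * a = 1 ∧ b * b = 1 ∧ c * c = 1 ∧ d * d = 1 ∧ a * b = b * a ∧ a * c = c * a ∧ a * d = d * a ∧
    b * c = c * b ∧ b * d = d * b ∧ c * d = d * c ∧ ∀ i j k l : Fin 2,
      a ^ (i : ℕ) * b ^ (j : ℕ) * c ^ (k : ℕ) * d ^ (l : ℕ) = 1 →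
        i = 0 ∧ j = 0 ∧ k = 0 ∧ l = 0 :=
  ⟨⟨Equiv.swap 0 1 * Equiv.swap 2 3, Equiv.Perm.mem_alternatingGroup.2 (by decide +kernel)⟩,
    ⟨Equiv.swap 0 2 * Equiv.swap 1 3, Equiv.Perm.mem_alternatingGroup.2 (by decide +kernel)⟩,
    ⟨Equiv.swap 4 5 * Equiv.swap 6 7, Equiv.Perm.mem_alternatingGroup.2 (by decide +kernel)⟩,
    ⟨Equiv.swap 4 6 * Equiv.swap 5 7, Equiv.Perm.mem_alternatingGroup.2 (by decide +kernel)⟩, by decide +kernel⟩

theorem alt_nine_E16 : ∃ a b c d : ↥(alternatingGroup (Fin 9)),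
    a * a = 1 ∧ b * b = 1 ∧ c * c = 1 ∧ d * d = 1 ∧ a * b = b * a ∧ a * c = c * a ∧ a * d = d * a ∧
    b * c = c * b ∧ b * d = d * b ∧ c * d = d * c ∧ ∀ i j k l : Fin 2,
      a ^ (i : ℕ) * b ^ (j : ℕ) * c ^ (k : ℕ) * d ^ (l : ℕ) = 1 →
        i = 0 ∧ j = 0 ∧ k = 0 ∧ l = 0 :=
  ⟨⟨Equiv.swap 0 1 * Equiv.swap 2 3, Equiv.Perm.mem_alternatingGroup.2 (by decide +kernel)⟩,
    ⟨Equiv.swap 0 2 * Equiv.swap 1 3, Equiv.Perm.mem_alternatingGroup.2 (by decide +kernel)⟩,
    ⟨Equiv.swap 4 5 * Equiv.swap 6 7, Equiv.Perm.mem_alternatingGroup.2 (by decide +kernel)⟩,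
    ⟨Equiv.swap 4 6 * Equiv.swap 5 7, Equiv.Perm.mem_alternatingGroup.2 (by decide +kernel)⟩, by decide +kernel⟩

namespace Base

variable {G : Type*} [Group G] (B : Base G)

include B in
/-- There is no elementary abelian subgroup of order sixteen. -/
theorem no_E16 [Finite G] {a b c d : G} (ha : a * a = 1) (hb : b * b = 1) (hc : c * c = 1)
    (hd : d * d = 1) (hab : a * b = b * a) (hac : a * c = c * a) (had : a * d = d * a)
    (hbc : b * c = c * b) (hbd : b * d = d * b) (hcd : c * d = d * c)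
    (hind : ∀ i j k l : Fin 2, a ^ (i : ℕ) * b ^ (j : ℕ) * c ^ (k : ℕ) * d ^ (l : ℕ) = 1 →
      i = 0 ∧ j = 0 ∧ k = 0 ∧ l = 0) : False := by
  set s : Set G := {a, b, c, d}
  have h1 : closure s ≤ centralizer s := by
    rw [closure_le]
    intro x hx
    rw [SetLike.mem_coe, mem_centralizer_iff]
    intro y hy
    simp only [s, Set.mem_insert_iff, Set.mem_singleton_iff] at hx hy
    rcases hx with rfl | rfl | rfl | rfl <;> rcases hy with rfl | rfl | rfl | rfl <;>
      first | rfl | assumption | exact Eq.symm (by assumption)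
  have hcomm : ∀ x ∈ closure s, ∀ y ∈ closure s, x * y = y * x := by
    intro x hx y hy
    have : closure s ≤ centralizer ({y} : Set G) := by
      rw [closure_le]
      intro w hw
      exact mem_centralizer_singleton_iff.2 (mem_centralizer_iff.1 (h1 hy) w hw)
    exact mem_centralizer_singleton_iff.1 (this hx)
  have hsq : ∀ x ∈ closure s, x * x = 1 := by
    intro x hx
    induction hx using closure_induction with
    | mem x hx =>
      simp only [s, Set.mem_insert_iff, Set.mem_singleton_iff] at hx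
      rcases hx with rfl | rfl | rfl | rfl <;> assumption
    | one => exact one_mul 1
    | mul x y hx hy ihx ihy =>
      rw [mul_assoc, ← mul_assoc y, hcomm y hy x hx, mul_assoc x y y, ihy, mul_one, ihx]
    | inv x _ ih => rw [← mul_inv_rev, ih, inv_one]
  have hp : IsPGroup 2 (closure s) := fun x => ⟨1, Subtype.ext (by
    rw [pow_one, sq]; exact hsq x x.2)⟩
  -- the sixteen products are distinct
  let P : Fin 2 × Fin 2 × Fin 2 × Fin 2 → G := fun w =>
    a ^ (w.1 : ℕ) * b ^ (w.2.1 : ℕ) * c ^ (w.2.2.1 : ℕ) * d ^ (w.2.2.2 : ℕ)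
  have pw : ∀ (u : G), u * u = 1 → ∀ i j : Fin 2,
      u ^ (i : ℕ) * u ^ (j : ℕ) = u ^ ((i + j : Fin 2) : ℕ) := by
    intro u hu i j
    have key : ∀ i : Fin 2, i = 0 ∨ i = 1 := by decide
    rcases key i with rfl | rfl <;> rcases key j with rfl | rfl <;>
      simp [hu, show ((1 : Fin 2) + 1) = 0 from rfl]
  have hPmul : ∀ v w, P v * P w = P (v + w) := by
    rintro ⟨i, j, k, l⟩ ⟨i', j', k', l'⟩
    have cab : Commute a b := hab
    have cac : Commute a c := hac
    have cad : Commute a d := had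
    have cbc : Commute b c := hbc
    have cbd : Commute b d := hbd
    have ccd : Commute c d := hcd
    have e1 : Commute (d ^ (l : ℕ)) (a ^ (i' : ℕ) * b ^ (j' : ℕ) * c ^ (k' : ℕ)) :=
      ((cad.symm.pow_pow _ _).mul_right (cbd.symm.pow_pow _ _)).mul_right (ccd.symm.pow_pow _ _)
    have e2 : Commute (c ^ (k : ℕ)) (a ^ (i' : ℕ) * b ^ (j' : ℕ)) :=
      (cac.symm.pow_pow _ _).mul_right (cbc.symm.pow_pow _ _)
    have e3 : Commute (b ^ (j : ℕ)) (a ^ (i' : ℕ)) := cab.symm.pow_pow _ _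
    simp only [P, Prod.mk_add_mk]
    rw [e1.mul_mul_mul_comm, e2.mul_mul_mul_comm, e3.mul_mul_mul_comm, pw a ha, pw b hb, pw c hc,
      pw d hd]
  have hdbl : ∀ w : Fin 2 × Fin 2 × Fin 2 × Fin 2, w + w = 0 := by decide
  have hP0 : P 0 = 1 := by simp [P]
  have hPmem : ∀ w, P w ∈ closure s := fun w =>
    mul_mem (mul_mem (mul_mem (pow_mem (subset_closure (by simp [s])) _)
      (pow_mem (subset_closure (by simp [s])) _)) (pow_mem (subset_closure (by simp [s])) _))
      (pow_mem (subset_closure (by simp [s])) _)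
  have h16 : 16 ≤ Nat.card (closure s) := by
    have hi : Function.Injective fun w => (⟨P w, hPmem w⟩ : closure s) := by
      intro v w h
      have h' : P v = P w := congrArg Subtype.val h
      have h0 : P (v + w) = 1 := by rw [← hPmul, h', hPmul, hdbl, hP0]
      obtain ⟨i, j, k, l⟩ := v
      obtain ⟨i', j', k', l'⟩ := w
      obtain ⟨p1, p2, p3, p4⟩ := hind _ _ _ _ h0
      have key : ∀ i j : Fin 2, i + j = 0 → i = j := by decide
      obtain rfl : i = i' := key i i' p1
      obtain rfl : j = j' := key j j' p2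
      obtain rfl : k = k' := key k k' p3
      obtain rfl : l = l' := key l l' p4
      rfl
    simpa using Nat.card_le_card_of_injective _ hi
  obtain ⟨e, -, he⟩ := B.conj_into (H := ⊤) le_top hp le_top
  set T := ((closure s).map (MulAut.conj e).toMonoidHom).comap B.f with hT
  have hTc : 16 ≤ Nat.card T := by
    refine h16.trans (le_of_eq ?_)
    have hle : (closure s).map (MulAut.conj e).toMonoidHom ≤ B.f.range := by
      rintro _ ⟨x, hx, rfl⟩
      obtain ⟨y, hy⟩ := he x hx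
      exact ⟨y, hy.symm⟩
    rw [← card_map_of_injective (K := T) B.inj, hT, map_comap_eq, inf_eq_right.2 hle,
      card_map_of_injective (K := closure s) (f := (MulAut.conj e).toMonoidHom)
        (MulAut.conj e).injective]
  have hTsq : ∀ x ∈ T, x * x = 1 := by
    intro x hx
    obtain ⟨y, hy, hye⟩ := hx
    refine B.inj ?_
    rw [map_mul, ← hye, ← map_mul, hsq y hy, map_one, map_one]
  have hTcomm : ∀ x ∈ T, ∀ y ∈ T, x * y = y * x := by
    intro x hx y hy
    obtain ⟨u, hu, hue⟩ := hx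
    obtain ⟨w, hw, hwe⟩ := hy
    refine B.inj ?_
    rw [map_mul, map_mul, ← hue, ← hwe, ← map_mul, ← map_mul, hcomm u hu w hw]
  classical
  obtain ⟨r, hrT, hr4⟩ : ∃ r ∈ T, r ∉ [1, zs, vs, vs * zs] := by
    by_contra! hcon
    have hle : Nat.card T ≤ Nat.card {r : ↥SM // r ∈ [1, zs, vs, vs * zs]} :=
      Nat.card_le_card_of_injective (fun r => ⟨r.1, hcon r.1 r.2⟩) fun x y e => Subtype.ext
        (congrArg (fun w : {r : ↥SM // r ∈ [1, zs, vs, vs * zs]} => w.1) e)
    have h4 : Nat.card {r : ↥SM // r ∈ [1, zs, vs, vs * zs]} ≤ 4 := by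
      rw [Nat.card_eq_fintype_card, Fintype.card_subtype]
      decide +kernel
    omega
  have hTle : T ≤ centralizer ({r} : Set ↥SM) := fun x hx =>
    mem_centralizer_singleton_iff.2 (hTcomm x hx r hrT)
  have hcent : Nat.card (centralizer ({r} : Set ↥SM)) = cc r := by
    rw [← B.card_centS r, centS, card_map_of_injective B.inj]
  rcases recog_facts.2.2.2 r (hTsq r hrT) hr4 with h | ⟨h, g, hg, hg2⟩
  · have := card_le_of_le hTle
    omega
  · have hEq : T = centralizer ({r} : Set ↥SM) :=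
      eq_of_le_of_card_ge hTle (by omega)
    exact hg2 (hTsq g (hEq ▸ mem_centralizer_singleton_iff.2 hg))

include B in
theorem not_iso_alt [Finite G] {T : Type*} [Group T] (hT : ∃ a b c d : T,
    a * a = 1 ∧ b * b = 1 ∧ c * c = 1 ∧ d * d = 1 ∧ a * b = b * a ∧ a * c = c * a ∧ a * d = d * a ∧
    b * c = c * b ∧ b * d = d * b ∧ c * d = d * c ∧ ∀ i j k l : Fin 2,
      a ^ (i : ℕ) * b ^ (j : ℕ) * c ^ (k : ℕ) * d ^ (l : ℕ) = 1 →
        i = 0 ∧ j = 0 ∧ k = 0 ∧ l = 0) (e : G ≃* T) : False := by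
  obtain ⟨a, b, c, d, ha, hb, hc, hd, hab, hac, had, hbc, hbd, hcd, hind⟩ := hT
  refine B.no_E16 (a := e.symm a) (b := e.symm b) (c := e.symm c) (d := e.symm d)
    ?_ ?_ ?_ ?_ ?_ ?_ ?_ ?_ ?_ ?_ fun i j k l h => hind i j k l (e.symm.injective ?_)
  pick_goal 11
  · simpa using h
  all_goals simp [← map_mul, ha, hb, hc, hd, hab, hac, had, hbc, hbd, hcd]

/-- The recognition when the core of the centralizer is trivial. -/
theorem recog [Finite G] (K : B.Cent) (hO : centralizerPPrimeCore 2 B.z = ⊥)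
    (hv : IsConj B.z (B.f vs)) :
    Cfsg.Spor.IsoM12 G ∨ ∃ (N : Subgroup G) (_ : N.Normal), IsMulCommutative N ∧
      (∀ n ∈ N, n ^ 2 = 1) ∧ Nat.card N = 8 ∧
      Nonempty (G ⧸ N ≃* Matrix.ProjectiveSpecialLinearGroup (Fin 3) (ZMod 2)) := by
  classical
  have : Fact (Nat.Prime 2) := ⟨Nat.prime_two⟩
  obtain ⟨x, hxz, hx3, hxQ, hfix, -, ⟨o, ho, q0, hq0, htx⟩, cover⟩ := K.structure'
  rw [hO, mem_bot] at hx3 ho
  rw [ho, one_mul] at htx
  obtain ⟨L, hL⟩ : ∃ L, L = centralizer ({B.z} : Set G) := ⟨_, rfl⟩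
  have hfs : ∀ s : ↥SM, B.f s ∈ L := fun s => hL ▸ mem_centralizer_singleton_iff.2 (B.comm_z s).eq
  let fc : ↥SM →* L := B.f.codRestrict L hfs
  have fci : Function.Injective fc := fun a b h => B.inj (congrArg Subtype.val h)
  let xc : L := ⟨x, hL ▸ mem_centralizer_singleton_iff.2 hxz.eq⟩
  have hcover : ∀ g : L, ∃ s : ↥SM, ∃ i : Fin 3, g = fc s * xc ^ (i : ℕ) := by
    intro g
    have hg : (g : G) ∈ centralizer ({B.z} : Set G) := hL ▸ g.2
    obtain ⟨o', ho', s, i, e⟩ := cover g (mem_centralizer_singleton_iff.1 hg)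
    rw [hO, mem_bot] at ho'
    rw [ho', one_mul] at e
    exact ⟨s, i, Subtype.ext e⟩
  have hxc3 : xc ^ 3 = 1 := Subtype.ext hx3
  have hxr : ∀ s : ↥SM, xc ≠ fc s := by
    intro s hs
    have h1 : s = 1 := recog_facts.1 s (fci (by rw [map_pow, ← hs, hxc3, map_one]))
    have h2 : x = 1 := by
      have := congrArg Subtype.val hs
      simpa [h1, fc, xc] using this
    rcases hfix vs v_facts.2.2.2.2.2.1 (by rw [h2]; group) with e | e
    exacts [v_facts.2.1 e, v_facts.2.2.1 e]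
  have hx2r : ∀ s : ↥SM, xc ^ 2 ≠ fc s := fun s hs => hxr (s * s) (by
    rw [map_mul, ← hs, ← pow_add, show 2 + 2 = 3 + 1 from rfl, pow_succ, hxc3, one_mul])
  have hcard : Nat.card L = 192 := by
    have hb : Function.Bijective fun p : ↥SM × Fin 3 => fc p.1 * xc ^ (p.2 : ℕ) := by
      refine ⟨?_, fun g => ?_⟩
      · rintro ⟨s, i⟩ ⟨s', j⟩ h
        have key : ∀ i j : Fin 3, (i : ℕ) < j → fc s * xc ^ (i : ℕ) ≠ fc s' * xc ^ (j : ℕ) := by
          intro i j hij h
          obtain ⟨d, hd⟩ : ∃ d, (j : ℕ) = d + i ∧ (d = 1 ∨ d = 2) :=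
            ⟨(j : ℕ) - i, by omega, by omega⟩
          rw [hd.1, pow_add, ← mul_assoc, mul_left_inj] at h
          have h' : xc ^ d = fc (s'⁻¹ * s) := by rw [map_mul, map_inv, h]; group
          rcases hd.2 with rfl | rfl
          · exact hxr _ ((pow_one xc).symm.trans h')
          · exact hx2r _ h'
        rcases lt_trichotomy (i : ℕ) j with hij | hij | hij
        · exact absurd h (key i j hij)
        · obtain rfl : i = j := Fin.ext hij
          rw [Prod.mk.injEq]
          exact ⟨fci (mul_right_cancel h), rfl⟩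
        · exfalso
          obtain ⟨d, hd⟩ : ∃ d, (i : ℕ) = d + j ∧ (d = 1 ∨ d = 2) :=
            ⟨(i : ℕ) - j, by omega, by omega⟩
          have h' : xc ^ d = fc (s⁻¹ * s') := by
            change fc s * xc ^ (i : ℕ) = fc s' * xc ^ (j : ℕ) at h
            rw [hd.1, pow_add, ← mul_assoc, mul_left_inj] at h
            rw [map_mul, map_inv, ← h]; group
          rcases hd.2 with rfl | rfl
          · exact hxr _ ((pow_one xc).symm.trans h')
          · exact hx2r _ h'
      · obtain ⟨s, i, e⟩ := hcover g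
        exact ⟨(s, i), e.symm⟩
    rw [← Nat.card_eq_of_bijective _ hb, Nat.card_prod, Nat.card_eq_fintype_card (α := ↥SM),
      card_SM, Nat.card_fin]
  set Qs : Subgroup L := QS.map fc
  have hQn : Qs.Normal := by
    refine ⟨?_⟩
    rintro _ ⟨q, hq, rfl⟩ g
    obtain ⟨s, i, rfl⟩ := hcover g
    have hp : ∀ i : ℕ, ∃ q' ∈ QS, xc ^ i * fc q * (xc ^ i)⁻¹ = fc q' := by
      intro i
      induction i with
      | zero => exact ⟨q, hq, by group⟩
      | succ i ih =>
        obtain ⟨q', hq', e⟩ := ih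
        obtain ⟨q'', hq'', e'⟩ := hxQ q' hq'
        refine ⟨q'', hq'', ?_⟩
        rw [pow_succ', show xc * xc ^ i * fc q * (xc * xc ^ i)⁻¹ =
          xc * (xc ^ i * fc q * (xc ^ i)⁻¹) * xc⁻¹ by group, e]
        exact Subtype.ext e'
    obtain ⟨q', hq', e⟩ := hp i
    refine ⟨s * q' * s⁻¹, QS_facts.2.2.2.1 q' hq' s, ?_⟩
    rw [map_mul, map_mul, map_inv, ← e]
    group
  have hSc : Nat.card fc.range = 64 := by
    rw [← Nat.card_congr (MonoidHom.ofInjective fci).toEquiv, Nat.card_eq_fintype_card, card_SM]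
  let S : Sylow 2 L := (IsPGroup.of_card (n := 6) hSc).toSylow (by
    intro h2
    have h := fc.range.card_mul_index
    rw [hSc, hcard] at h
    omega)
  have htc : fc ts * xc * (fc ts)⁻¹ = fc q0 * xc ^ 2 := Subtype.ext htx
  have hP : pCore 2 L = Qs := by
    refine le_antisymm (fun c hc => ?_) ?_
    · obtain ⟨s, rfl⟩ := (show c ∈ fc.range from Core.pCore_le_sylow S hc)
      obtain ⟨s', hs'⟩ := (show xc⁻¹ * fc s * xc ∈ fc.range from Core.pCore_le_sylow S (by
        have := (Core.pCore_normal (p := 2) (G := L)).conj_mem _ hc xc⁻¹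
        rwa [inv_inv] at this))
      refine mem_map_of_mem _ (by_contra fun hsQ => ?_)
      · have hq : s * ts⁻¹ ∈ QS := QS_facts.2.2.1 s hsQ ts⁻¹ (fun h => t_facts.2.2.2.1 (inv_mem_iff.1 h))
        obtain ⟨r1, hr1⟩ : ∃ r1, xc⁻¹ * fc (s * ts⁻¹) * xc = fc r1 := by
          obtain ⟨y, -, hy⟩ := hQn.conj_mem _ (mem_map_of_mem fc hq) xc⁻¹
          rw [inv_inv] at hy
          exact ⟨y, hy.symm⟩
        obtain ⟨r2, hr2⟩ : ∃ r2, xc⁻¹ * fc q0 * xc = fc r2 := by
          obtain ⟨y, -, hy⟩ := hQn.conj_mem _ (mem_map_of_mem fc hq0) xc⁻¹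
          rw [inv_inv] at hy
          exact ⟨y, hy.symm⟩
        have h1 : xc⁻¹ * fc ts * xc = fc r2 * xc * fc ts := by
          have htc' : fc ts * xc = fc q0 * xc ^ 2 * fc ts := mul_inv_eq_iff_eq_mul.1 htc
          rw [← hr2]
          calc xc⁻¹ * fc ts * xc = xc⁻¹ * (fc ts * xc) := mul_assoc _ _ _
            _ = xc⁻¹ * (fc q0 * xc ^ 2 * fc ts) := by rw [htc']
            _ = xc⁻¹ * fc q0 * xc * xc * fc ts := by rw [pow_two]; simp only [mul_assoc]
        have h2 : fc s' = fc r1 * fc r2 * xc * fc ts := by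
          rw [hs', show xc⁻¹ * fc s * xc = (xc⁻¹ * fc (s * ts⁻¹) * xc) * (xc⁻¹ * fc ts * xc) by
            rw [map_mul, map_inv]; group, hr1, h1]
          group
        refine hxr ((r1 * r2)⁻¹ * s' * ts⁻¹) ?_
        rw [map_mul, map_mul, map_inv, map_inv, h2, map_mul]
        group
    · exact le_sSup ⟨hQn, (IsPGroup.of_card (n := 5) (by
        rw [card_map_of_injective fci, Nat.card_eq_fintype_card (α := ↥QS), Fintype.card_subtype,
          QS_facts.1]; norm_num))⟩
  have hQcard : Nat.card (pCore 2 L) = 32 := by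
    rw [hP, card_map_of_injective fci, Nat.card_eq_fintype_card (α := ↥QS), Fintype.card_subtype,
      QS_facts.1]
  -- the quotient is the symmetric group of degree three
  have hmemQ : ∀ s : ↥SM, fc s ∈ pCore 2 L → s ∈ QS := fun s hs => by
    rw [hP] at hs
    obtain ⟨q, hq, e⟩ := hs
    exact fci e ▸ hq
  let F := L ⧸ pCore 2 L
  have hF : Nat.card F = 6 := by
    show (pCore 2 L).index = 6
    have h := (pCore 2 L).card_mul_index
    rw [hQcard, hcard] at h
    omega
  set t : F := QuotientGroup.mk (fc ts) with ht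
  set y : F := QuotientGroup.mk xc with hy
  have ht1 : t ≠ 1 := fun e => t_facts.2.2.2.1 (hmemQ _ ((QuotientGroup.eq_one_iff _).1 e))
  have hy1 : y ≠ 1 := fun e => by
    have := (QuotientGroup.eq_one_iff _).1 e
    rw [hP] at this
    obtain ⟨q, -, hq⟩ := this
    exact hxr q hq.symm
  have ht2 : t * t = 1 := by rw [ht, ← QuotientGroup.mk_mul, ← map_mul, t_facts.1, map_one]; rfl
  have hyt : t * y * t⁻¹ = y ^ 2 := by
    rw [ht, hy, ← QuotientGroup.mk_inv, ← QuotientGroup.mk_mul, ← QuotientGroup.mk_mul, htc,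
      QuotientGroup.mk_mul, QuotientGroup.mk_pow]
    rw [(QuotientGroup.eq_one_iff _).2 (hP ▸ mem_map_of_mem fc hq0), one_mul]
  have ht_ord : orderOf t = 2 := Invol.orderOf_eq_two_iff.2 ⟨ht1, ht2⟩
  have hcore : (zpowers t).normalCore = ⊥ := by
    rw [eq_bot_iff]
    intro w hw
    have hw' := normalCore_le _ hw
    have mem2 : ∀ u ∈ zpowers t, u = 1 ∨ u = t := by
      rintro u ⟨k, rfl⟩
      rcases Int.even_or_odd k with ⟨m, rfl⟩ | ⟨m, rfl⟩
      · left; show t ^ (m + m) = 1; rw [← two_mul, zpow_mul, zpow_two, ht2, one_zpow]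
      · right; show t ^ (2 * m + 1) = t; rw [zpow_add, zpow_mul, zpow_two, ht2, one_zpow, one_mul, zpow_one]
    rcases mem2 w hw' with rfl | rfl
    · exact mem_bot.2 rfl
    · exfalso
      rcases mem2 _ (normalCore_le _ ((normalCore_normal (zpowers t)).conj_mem t hw y)) with e | e
      · exact ht1 (conj_eq_one_iff.1 e)
      · have hcomm : y * t = t * y := mul_inv_eq_iff_eq_mul.1 e
        refine hy1 ?_
        rw [← hcomm, mul_inv_cancel_right, sq] at hyt
        exact (left_eq_mul.1 hyt)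
  have hinj : Function.Injective (MulAction.toPermHom F (F ⧸ zpowers t)) := by
    rw [← MonoidHom.ker_eq_bot_iff, ← normalCore_eq_ker, hcore]
  have h3 : Nat.card (F ⧸ zpowers t) = 3 := by
    have h := (zpowers t).card_mul_index
    rw [Nat.card_zpowers, ht_ord, hF] at h
    show (zpowers t).index = 3
    omega
  let ε : F ⧸ zpowers t ≃ Fin 3 := Finite.equivFinOfCardEq h3
  let ψ : F →* Equiv.Perm (Fin 3) :=
    (Equiv.permCongrHom ε).toMonoidHom.comp (MulAction.toPermHom F (F ⧸ zpowers t))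
  have hψ : Function.Bijective ψ := by
    refine (Nat.bijective_iff_injective_and_card ψ).2
      ⟨(Equiv.permCongrHom ε).injective.comp hinj, ?_⟩
    rw [hF, Nat.card_eq_fintype_card, Fintype.card_perm, Fintype.card_fin]
    rfl
  have : Fact (Nat.Prime 3) := ⟨Nat.prime_three⟩
  have hxo : orderOf xc = 3 := orderOf_eq_prime hxc3 fun e => hxr 1 (by rw [e, map_one])
  let X : Sylow 3 L := (IsPGroup.of_card (G := zpowers xc) (p := 3) (n := 1)
    (by rw [Nat.card_zpowers, hxo, pow_one])).toSylow (by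
      intro h
      have h' := (zpowers xc).card_mul_index
      rw [Nat.card_zpowers, hxo, hcard] at h'
      omega)
  set Q : Subgroup G := (pCore 2 L).map L.subtype with hQdef
  have hQ : Q = QS.map B.f := by
    rw [hQdef, hP, Subgroup.map_map]
    rfl
  have hQex : IsExtraspecial 2 Q := by
    rw [hQ]
    have hm : ∀ s ∈ QS, B.f s ∈ QS.map B.f := fun s hs => mem_map_of_mem _ hs
    refine LargeExtra.extraspecial_of (w := (⟨B.z, hm zs QS_facts.2.1⟩ : QS.map B.f))
      (IsPGroup.of_card (n := 5) (by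
        rw [card_map_of_injective B.inj, Nat.card_eq_fintype_card (α := ↥QS), Fintype.card_subtype,
          QS_facts.1]; norm_num)) ?_ ?_ ?_ ?_ ?_ ?_ ?_
    · exact fun e => Invol.ne_one B.orderOf_z (congrArg Subtype.val e)
    · exact Subtype.ext (Invol.mul_self_eq_one B.orderOf_z)
    · rw [mem_center_iff]
      rintro ⟨_, q, hq, rfl⟩
      exact Subtype.ext (B.comm_z q).eq
    · rintro ⟨_, c, hc, rfl⟩ hcc
      rw [mem_center_iff] at hcc
      rcases recog_facts.2.2.1 c hc fun q hq => B.inj (by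
        rw [map_mul, map_mul]
        exact (congrArg Subtype.val (hcc ⟨B.f q, hm q hq⟩)).symm) with rfl | rfl
      · exact Or.inl (Subtype.ext (map_one B.f))
      · exact Or.inr rfl
    · rintro ⟨_, a, ha, rfl⟩ ⟨_, b, hb, rfl⟩
      rcases QS_commute a ha b hb with e | e
      · left
        refine Subtype.ext ?_
        show B.f a * B.f b * (B.f a)⁻¹ * (B.f b)⁻¹ = 1
        rw [← map_inv, ← map_inv, ← map_mul, ← map_mul, ← map_mul, e, map_one]
      · right
        refine Subtype.ext ?_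
        show B.f a * B.f b * (B.f a)⁻¹ * (B.f b)⁻¹ = B.f zs
        rw [← map_inv, ← map_inv, ← map_mul, ← map_mul, ← map_mul, e]
    · rintro ⟨_, a, ha, rfl⟩
      rcases QS_facts.2.2.2.2.1 a ha with e | e
      · exact Or.inl (Subtype.ext (by show B.f a * B.f a = 1; rw [← map_mul, e, map_one]))
      · exact Or.inr (Subtype.ext (by show B.f a * B.f a = B.f zs; rw [← map_mul, e]))
    · obtain ⟨a, ha, b, hb, hne⟩ := recog_facts.2.1
      refine ⟨⟨_, hm a ha⟩, ⟨_, hm b hb⟩, fun e => hne (B.inj ?_)⟩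
      rw [map_mul, map_mul]
      exact congrArg Subtype.val e
  have hXe : (X : Subgroup L).map L.subtype = zpowers x := by
    show (zpowers xc).map L.subtype = _
    rw [MonoidHom.map_zpowers]
    rfl
  have hCQX : Q ⊓ centralizer (((X : Subgroup L).map L.subtype : Subgroup G) : Set G) =
      zpowers B.z := by
    rw [hXe, hQ]
    refine le_antisymm ?_ ?_
    · rintro _ ⟨⟨q, hq, rfl⟩, hc⟩
      have := mem_centralizer_iff.1 hc x (mem_zpowers x)
      rcases hfix q hq (by rw [this]; group) with rfl | rfl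
      · rw [map_one]; exact one_mem _
      · exact mem_zpowers _
    · rw [zpowers_le]
      refine ⟨mem_map_of_mem _ QS_facts.2.1, ?_⟩
      show B.z ∈ centralizer _
      rw [mem_centralizer_iff]
      rintro _ ⟨k, rfl⟩
      exact (hxz.zpow_left k).eq
  have hnwc : ∃ g : G, g * B.z * g⁻¹ ∈ Q ∧ g * B.z * g⁻¹ ≠ B.z := by
    obtain ⟨g, hg⟩ := isConj_iff.1 hv
    refine ⟨g, hQ ▸ hg ▸ mem_map_of_mem _ v_facts.2.2.2.2.2.1, fun e => ?_⟩
    exact v_facts.2.2.1 (B.inj (hg.symm.trans e))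
  have hQc : Nat.card Q = 32 := by
    rw [hQ, card_map_of_injective B.inj, Nat.card_eq_fintype_card (α := ↥QS), Fintype.card_subtype,
      QS_facts.1]
  rcases S3344.result B.z B.orderOf_z L hL Q rfl hQex hQc (MulEquiv.ofBijective ψ hψ) X hCQX hnwc
    with ⟨N, hN, h⟩ | ⟨⟨e⟩⟩ | ⟨⟨e⟩⟩ | h
  · exact Or.inr ⟨N, hN, h⟩
  · exact (B.not_iso_alt alt_eight_E16 e).elim
  · exact (B.not_iso_alt alt_nine_E16 e).elim
  · exact Or.inl h

end Base

end Cfsg.Agent.M12Type
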